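import Mathlib
import Cfsg.Agent.Lib.Helper87.NRStmt
import Cfsg.Agent.Lib.Helper87.FSSat

/-! Piece IDX of S5142: for `E`, `D` weakly normal in `F` over the same `T`, every element of
`Aut_E(T) Aut_D(T)` has a power of exponent prime to `p` in `Aut_E(T) ∩ Aut_D(T)`. -/

set_option autoImplicit false

namespace Cfsg.Agent.Lib.Helper23.NRIDX

open Cfsg Cfsg.FusionSystem
open Cfsg.Agent.Lib.Helper87
open scoped Pointwise

universe u

/-- For two normal subgroups, the product of the two relative indices of the intersection kills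
the join modulo the intersection. -/
theorem pow_mem_inf {G : Type*} [Group G] (A B : Subgroup G) [hA : A.Normal] [hB : B.Normal]
    (g : G) (hg : g ∈ A ⊔ B) :
    g ^ ((A ⊓ B).relIndex A * (A ⊓ B).relIndex B) ∈ A ⊓ B := by
  have hmem : g ∈ (A : Set G) * (B : Set G) := by
    rw [← Subgroup.mul_normal A B]
    exact hg
  obtain ⟨a, ha, b, hb, rfl⟩ := Set.mem_mul.1 hmem
  have ha' : a ^ (A ⊓ B).relIndex A ∈ A ⊓ B := by
    have h := Subgroup.pow_index_mem ((A ⊓ B).subgroupOf A) (⟨a, ha⟩ : A)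
    exact Subgroup.mem_subgroupOf.1 h
  have hb' : b ^ (A ⊓ B).relIndex B ∈ A ⊓ B := by
    have h := Subgroup.pow_index_mem ((A ⊓ B).subgroupOf B) (⟨b, hb⟩ : B)
    exact Subgroup.mem_subgroupOf.1 h
  have hc : Commute (QuotientGroup.mk' (A ⊓ B) a) (QuotientGroup.mk' (A ⊓ B) b) := by
    show QuotientGroup.mk' (A ⊓ B) a * QuotientGroup.mk' (A ⊓ B) b =
      QuotientGroup.mk' (A ⊓ B) b * QuotientGroup.mk' (A ⊓ B) a
    rw [← map_mul, ← map_mul]
    refine QuotientGroup.eq.2 ?_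
    have e : (a * b)⁻¹ * (b * a) = b⁻¹ * a⁻¹ * b * a := by group
    rw [e]
    refine ⟨?_, ?_⟩
    · have h1 : b⁻¹ * a⁻¹ * b ∈ A := by
        have := hA.conj_mem a⁻¹ (A.inv_mem ha) b⁻¹
        simpa using this
      exact A.mul_mem h1 ha
    · have h1 : a⁻¹ * b * a ∈ B := by
        have := hB.conj_mem b hb a⁻¹
        simpa using this
      have h2 := B.mul_mem (B.inv_mem hb) h1
      have e2 : b⁻¹ * (a⁻¹ * b * a) = b⁻¹ * a⁻¹ * b * a := by group
      rwa [e2] at h2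
  have h1 : QuotientGroup.mk' (A ⊓ B) ((a * b) ^ ((A ⊓ B).relIndex A * (A ⊓ B).relIndex B)) = 1 := by
    have ea : QuotientGroup.mk' (A ⊓ B) (a ^ (A ⊓ B).relIndex A) = 1 :=
      (QuotientGroup.eq_one_iff _).2 ha'
    have eb : QuotientGroup.mk' (A ⊓ B) (b ^ (A ⊓ B).relIndex B) = 1 :=
      (QuotientGroup.eq_one_iff _).2 hb'
    rw [map_pow, map_mul, hc.mul_pow, pow_mul, pow_mul', ← map_pow,
      ← map_pow (QuotientGroup.mk' (A ⊓ B)) b, ea, eb]
    simp
  exact (QuotientGroup.eq_one_iff _).1 h1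

/-- Transport of a map of the system along an equality of the sources. -/
theorem hom_cast {Ω : Type*} [Group Ω] {T : Subgroup Ω} (E : FusionSystem T) {P Q : Subgroup Ω}
    (h : P = Q) (χ : P →* Ω) (hχ : χ ∈ E.Hom P) :
    ∃ χ' ∈ E.Hom Q, ∀ (x : Q) (hx : (x : Ω) ∈ P), χ' x = χ ⟨x, hx⟩ := by
  subst h
  exact ⟨χ, hχ, fun x hx => rfl⟩

/-- `Aut_E(T)` is normalized by `Aut_F(T)` for `E` invariant in `F`. -/
theorem conj_mem_autGroup {Ω : Type*} [Group Ω] {S T : Subgroup Ω} (F : FusionSystem S)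
    (E : FusionSystem T) (hinv : E.IsInvariantIn F) (α : MulAut T) (hα : α ∈ F.autGroup T)
    (β : MulAut T) (hβ : β ∈ E.autGroup T) : α * β * α⁻¹ ∈ E.autGroup T := by
  obtain ⟨-, -, hconj, -⟩ := hinv
  have hβ' : T.subtype.comp β.toMonoidHom ∈ E.Hom T := (FSBasic.mem_autGroup_iff E le_rfl β).1 hβ
  obtain ⟨χ, hχ, hχx⟩ := hconj T le_rfl _ hβ' α hα
  have hPT : (T.subgroupOf T).map (T.subtype.comp α.toMonoidHom) = T := by
    ext x
    constructor
    · rintro ⟨y, -, rfl⟩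
      exact (α y).2
    · intro hx
      refine ⟨α⁻¹ ⟨x, hx⟩, Subgroup.mem_subgroupOf.2 (SetLike.coe_mem _), ?_⟩
      show ((α (α⁻¹ ⟨x, hx⟩) : T) : Ω) = x
      rw [MulAut.apply_inv_self]
  obtain ⟨χ', hχ', hχ'x⟩ := hom_cast E hPT χ hχ
  rw [FSBasic.mem_autGroup_iff E le_rfl]
  refine FSBasic.mem_of_eq E hχ' fun y => ?_
  have hy : ((α (α⁻¹ y) : T) : Ω) ∈ (T.subgroupOf T).map (T.subtype.comp α.toMonoidHom) := by
    rw [hPT]; exact (α (α⁻¹ y)).2
  have h1 := hχx (α⁻¹ y) (β (α⁻¹ y)).2 hy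
  have hy' : (y : Ω) ∈ (T.subgroupOf T).map (T.subtype.comp α.toMonoidHom) := by
    rw [hPT]; exact y.2
  have h2 := hχ'x y hy'
  rw [h2]
  have e : (⟨(y : Ω), hy'⟩ : ↥((T.subgroupOf T).map (T.subtype.comp α.toMonoidHom))) =
      ⟨((α ⟨((α⁻¹ y : T) : Ω), (le_rfl : T ≤ T) (α⁻¹ y).2⟩ : T) : Ω), hy⟩ := by
    apply Subtype.ext
    show (y : Ω) = ((α (α⁻¹ y) : T) : Ω)
    rw [MulAut.apply_inv_self]
  rw [e, h1]
  rfl

theorem autGroup_le_of_subsystem {Ω : Type*} [Group Ω] {S T : Subgroup Ω} (F : FusionSystem S)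
    (E : FusionSystem T) (hsub : E.IsSubsystemOf F) (hTS : T ≤ S) :
    E.autGroup T ≤ F.autGroup T := by
  intro β hβ
  rw [FSBasic.mem_autGroup_iff F hTS]
  exact hsub T ((FSBasic.mem_autGroup_iff E le_rfl β).1 hβ)

/-- The inner automorphisms form a subgroup of `Aut_E(T)` of index prime to `p`, for saturated
`E` over the finite `T`. -/
theorem not_dvd_relIndex {Ω : Type*} [Group Ω] {T : Subgroup Ω} [Finite T] (p : ℕ) [Fact p.Prime]
    (E : FusionSystem T) (hE : E.IsSaturated p) :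
    ¬ p ∣ (autInducedBy T T).relIndex (E.autGroup T) := by
  obtain ⟨-, R, hR⟩ := (FSSat.far_top E hE).1
  have : Finite (MulAut T) :=
    Finite.of_injective (fun a : MulAut T => (a : T → T)) (fun a b h => MulEquiv.ext (congrFun h))
  have h := Sylow.not_dvd_index R
  rw [hR] at h
  exact h

theorem main : NRStmt.IndexCoprime.{u} := by
  intro Ω _ S _ p _ hS F hF T E D hE hD γ hγ
  obtain ⟨hEsat, -, hEinv⟩ := hE
  obtain ⟨hDsat, -, hDinv⟩ := hD
  have hTS : T ≤ S := hEinv.2.1.1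
  have : Finite T := FSSat.finite_of_le hTS
  have hAΓ : E.autGroup T ≤ F.autGroup T := autGroup_le_of_subsystem F E hEinv.1 hTS
  have hBΓ : D.autGroup T ≤ F.autGroup T := autGroup_le_of_subsystem F D hDinv.1 hTS
  have hIA : autInducedBy T T ≤ E.autGroup T := FSBasic.autInducedBy_le_autGroup E le_rfl
  have hIB : autInducedBy T T ≤ D.autGroup T := FSBasic.autInducedBy_le_autGroup D le_rfl
  have hI : autInducedBy T T ≤ E.autGroup T ⊓ D.autGroup T := le_inf hIA hIB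
  have h1 : ¬ p ∣ (E.autGroup T ⊓ D.autGroup T).relIndex (E.autGroup T) := by
    intro h
    apply not_dvd_relIndex p E hEsat
    rw [← Subgroup.relIndex_mul_relIndex _ _ _ hI inf_le_left]
    exact dvd_mul_of_dvd_right h _
  have h2 : ¬ p ∣ (E.autGroup T ⊓ D.autGroup T).relIndex (D.autGroup T) := by
    intro h
    apply not_dvd_relIndex p D hDsat
    rw [← Subgroup.relIndex_mul_relIndex _ _ _ hI inf_le_right]
    exact dvd_mul_of_dvd_right h _
  have hp : p.Prime := Fact.out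
  refine ⟨(E.autGroup T ⊓ D.autGroup T).relIndex (E.autGroup T) *
    (E.autGroup T ⊓ D.autGroup T).relIndex (D.autGroup T), ?_, ?_⟩
  · exact Nat.Coprime.mul_left ((hp.coprime_iff_not_dvd.2 h1).symm)
      ((hp.coprime_iff_not_dvd.2 h2).symm)
  · have hnA : ((E.autGroup T).subgroupOf (F.autGroup T)).Normal := by
      refine ⟨fun n hn g => ?_⟩
      rw [Subgroup.mem_subgroupOf] at hn ⊢
      exact conj_mem_autGroup F E hEinv g g.2 n hn
    have hnB : ((D.autGroup T).subgroupOf (F.autGroup T)).Normal := by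
      refine ⟨fun n hn g => ?_⟩
      rw [Subgroup.mem_subgroupOf] at hn ⊢
      exact conj_mem_autGroup F D hDinv g g.2 n hn
    have hγΓ : γ ∈ F.autGroup T := (sup_le hAΓ hBΓ) hγ
    have hγ' : (⟨γ, hγΓ⟩ : F.autGroup T) ∈ (E.autGroup T).subgroupOf (F.autGroup T) ⊔
        (D.autGroup T).subgroupOf (F.autGroup T) := by
      rw [← Subgroup.subgroupOf_sup hAΓ hBΓ, Subgroup.mem_subgroupOf]
      exact hγ
    have h3 := pow_mem_inf _ _ _ hγ'
    have e3 : (E.autGroup T).subgroupOf (F.autGroup T) ⊓ (D.autGroup T).subgroupOf (F.autGroup T) =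
        (E.autGroup T ⊓ D.autGroup T).subgroupOf (F.autGroup T) := by
      ext x
      simp [Subgroup.mem_subgroupOf]
    rw [e3] at h3
    rw [Subgroup.relIndex_subgroupOf hAΓ, Subgroup.relIndex_subgroupOf hBΓ] at h3
    exact Subgroup.mem_subgroupOf.1 h3

end Cfsg.Agent.Lib.Helper23.NRIDX
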