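import Mathlib
import Cfsg.Prelude.Def_OddOrderLocal
import Cfsg.Agent.Lib.Helper54.S68Stmt
import Cfsg.Agent.Lib.Helper23.S69Stmt

set_option autoImplicit false

/-!
# S1379 (BG 14.8? the partition of `G ∖ 1` by the sets `M̃` and the conjugates of `Zhat`):
statements of the pieces  (helper23)

`Tl M = tildeOf M (M_σ ∖ 1)` (union of the conjugates of the cosets `a R(a)`, `a ∈ M_σ ∖ 1`,
`R(a) = supportR M a`).  `InZ g`: `g ∈ Zhat K (ks M K)` for some σ-decomposition with `K ≠ 1`.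
`Cfg`, `ks`, `H51`, `H66`, `PrimeSub`, `Meet`, `CZ`, `CConj`, `CoatomConj` are in
`Cfsg.Agent.Lib.Helper23.S69Stmt` (all landed: `Helper15.S69PRIMESUB.main`, `Helper15.S69MEET.main`,
`Helper21.S69CZ.main`, `Helper1.S69CCONJ.main`, `Helper15.S69COATOMCONJ.main`,
`Helper21.S69NCONJ.main`).

LANDED tools (import what you need):
* `Cfsg.Agent.Lib.Helper73.BG14Final.gen : Gen` (for `a ∈ M_σ ∖ 1`, `C_G(a) ⊄ M`: `N` maximal over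
  `C_G(a)`, unique, not conjugate to `M`, `IsComplIn (M ⊓ N) N_σ N`, `N_σ` nilpotent, the primes
  of `orderOf a` are in `τ₂(N)`, `IsComplIn (M ⊓ C(a)) (N_σ ⊓ C(a)) C(a)`),
  `BG14Final.suppEq : SuppEq` (`supportR M a = ⊥` if `C_G(a) ≤ M`, `= N_σ ⊓ C(a)` for ANY maximal
  `N ⊇ C_G(a)` otherwise), `Cfsg.Agent.Lib.Helper79.BG14SUPPCONJ.main gen suppEq : SuppConj`
  (Props in `Cfsg.Agent.Lib.Helper73.BG14Stmt`);
* `Cfsg.Agent.S1432.result`, `S1425.result` (a σ(M)-subgroup is conjugate into `M_σ`),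
  `S1378.result` (`.1`: every prime of `|G|` is in some `σ(M)`; `.2`: `σ(M) ∩ σ(N) ≠ ∅` ⟹
  `N = M.map (conj g)`), `S1354.result`, `S1352.result`, `S1368.result`, `S1434.result`;
* `Cfsg.Agent.Lib.Helper9.BG11b.{sigma_cj, mem_sigma_of_dvd, sigmaCore_le, sigmaCore_normal}`
  (`cj g M` abbreviates `M.map (MulAut.conj g).toMonoidHom`),
  `Cfsg.Agent.Lib.Helper22.BG1210.{conj_mem_sigmaCore, coprime_card_sigmaCore, coprime_compl,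
  exists_conj_le_compl}`, `Cfsg.Agent.Lib.Helper90.FamCount.{sigma_disj, tilde_disj,
  mem_sigmaCore_of_orderOf}`, `Cfsg.Agent.Lib.Helper2.S66HALLGE.main : HallGe`,
  `Cfsg.Agent.Lib.Helper90.S68SDISJ.main : SDisj`, `Cfsg.Agent.Lib.Helper90.S68DISJZ.main`,
  `Cfsg.Agent.Lib.Helper9.BG10a.isSolvable_of_ne_top`.
-/

namespace Cfsg.Agent.Lib.Helper23.S79Stmt

open Cfsg.Agent.Lib.Helper54.S68Stmt Cfsg.Agent.Lib.Helper23.S69Stmt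

universe u

/-- `M̃ = tilde(M_σ#)`. -/
abbrev Tl {G : Type u} [Group G] (M : Subgroup G) : Set G :=
  Cfsg.tildeOf M ((Cfsg.sigmaCore M : Set G) \ {1})

/-- `g` lies in `Zhat` of some σ-decomposition with `K ≠ 1`. -/
def InZ {G : Type u} [Group G] (g : G) : Prop :=
  ∃ M K U : Subgroup G, IsCoatom M ∧ Cfsg.IsSigmaDecomposition M K U ∧ K ≠ ⊥ ∧
    g ∈ Zhat K (ks M K)

/-- PARTS (pure): the `π`-part and the `π'`-part of an element.  (`n := orderOf b > 0`,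
`n = n₁ * n₂` with the primes of `n₁` in `π`, those of `n₂` outside (`n₁` := product of
`p ^ v_p(n)` over `p ∈ π`, e.g. via `Nat.factorization` / `Finsupp.prod` split by a filter, or by
strong induction on `n` removing one prime power `ordProj` at a time); `n₁`, `n₂` coprime: Bezout
`u n₁ + v n₂ ≡ 1 (mod n)`; `b₁ := b ^ (v n₂)`, `b₂ := b ^ (u n₁)`.  `orderOf b₁ ∣ n₁`,
`orderOf b₂ ∣ n₂`; `orderOf b ∣ lcm` (`Commute.orderOf_mul_dvd_lcm`) gives the last two.) -/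
def Parts : Prop :=
  ∀ {G : Type u} [Group G] [Finite G] (b : G) (π : Set ℕ),
    ∃ b₁ b₂ : G, b = b₁ * b₂ ∧ b₁ * b₂ = b₂ * b₁ ∧ b₁ ∈ Subgroup.zpowers b ∧
      b₂ ∈ Subgroup.zpowers b ∧
      (∀ p : ℕ, p.Prime → p ∣ orderOf b₁ → p ∈ π) ∧
      (∀ p : ℕ, p.Prime → p ∣ orderOf b₂ → p ∉ π) ∧
      (∀ p : ℕ, p.Prime → p ∣ orderOf b → p ∈ π → p ∣ orderOf b₁) ∧
      (∀ p : ℕ, p.Prime → p ∣ orderOf b → p ∉ π → p ∣ orderOf b₂)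

/-- SPLIT: `g ≠ 1` is `a * b`, `a ∈ M_σ ∖ 1`, `b` a commuting `σ(M)'`-element.  (A prime `p` of
`orderOf g` is in `σ(M₀)` (`S1378.result hG |>.1`; `orderOf_dvd_natCard`); `Parts g (σ(M₀))`:
`g = a * b`, `a ≠ 1` (`p ∣ orderOf a`); `S1425.result hG M₀ _ (zpowers a)`: `y a y⁻¹ ∈ (M₀)_σ`;
`M := M₀.map (conj y⁻¹)` (a coatom: `Helper15.S69COATOMCONJ.main`); `a ∈ M_σ` (e.g. `SuppConj`'s
first part for `(M₀, y a y⁻¹, y⁻¹)`, or unfold `sigmaCore`), `σ(M) = σ(M₀)` (`sigma_cj`).) -/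
def Split : Prop :=
  Parts.{u} → ∀ {G : Type u} [Group G] [Finite G], Cfsg.IsMinSimpleOddOrder G → ∀ g : G, g ≠ 1 →
    ∃ M : Subgroup G, IsCoatom M ∧ ∃ a b : G, a ∈ Cfsg.sigmaCore M ∧ a ≠ 1 ∧ g = a * b ∧
      a * b = b * a ∧ ∀ p : ℕ, p.Prime → p ∣ orderOf b → p ∉ Cfsg.sigma M

/-- KALT: a `κ(M)`-element `b ≠ 1` of `M` commuting with `a ∈ M_σ ∖ 1`: `a * b ∈ Zhat`.
(`M` solvable (`BG10a.isSolvable_of_ne_top hG hM.1`); `HallGe` for `π = κ(M)`, `X = zpowers b`: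
a Hall `κ(M)`-subgroup `K' ∋ b`, cyclic by `H51`, `≠ ⊥`; `U'` from `(S1352.result ..).1`;
`(S1354.result hG M hM K' _ _).2 _ b _ _ : M ⊓ C{b} = K' ⊔ ks M K'`, so `a ∈ K' ⊔ ks M K'`,
`a = k * s` (`k ∈ K'`, `s ∈ ks M K' ≤ M_σ`), `k = a s⁻¹ ∈ K' ⊓ M_σ = ⊥` (`|K'|` prime to `|M_σ|`:
`coprime_card_sigmaCore`, the primes of `|K'|` are in `κ(M)`, not in `σ(M)` by the def of
`kappa`), so `a ∈ ks M K'`.  `a * b ∈ K' ⊔ ks M K'`; `a * b ∉ K'` (else `a ∈ K' ⊓ M_σ`);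
`a * b ∉ ks M K'` (else `b ∈ K' ⊓ M_σ`).) -/
def KAlt : Prop :=
  H51.{u} → ∀ {G : Type u} [Group G] [Finite G], Cfsg.IsMinSimpleOddOrder G →
  ∀ (M : Subgroup G), IsCoatom M → ∀ a b : G, a ∈ Cfsg.sigmaCore M → a ≠ 1 → b ∈ M → b ≠ 1 →
    a * b = b * a → (∀ p : ℕ, p.Prime → p ∣ orderOf b → p ∈ Cfsg.kappa M) → InZ (a * b)

/-- TALT: `b ≠ 1` a `σ(L)`-element, not a `σ(M)`-element, `M` the only maximal subgroup over
`C_G(b)`, `a ∈ M_σ` commuting with `b`: `a * b ∈ Ñ` for a conjugate `N` of `L`.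
(`S1425.result hG L _ (zpowers b)`: `y b y⁻¹ ∈ L_σ`; `N := L.map (conj y⁻¹)`, `b ∈ N_σ`,
`σ(N) = σ(L)` (as in SPLIT).  `C_G(b) ⊄ N`: else `N = M`, but a prime of `orderOf b` is in
`σ(N)`, not in `σ(M)`.  `suppEq` for `(N, b)`: `supportR N b = M_σ ⊓ C{b} ∋ a`.  So
`a * b = 1 * (b * a) * 1⁻¹ ∈ Tl N`.) -/
def TAlt : Prop :=
  ∀ {G : Type u} [Group G] [Finite G], Cfsg.IsMinSimpleOddOrder G →
  ∀ (M L : Subgroup G), IsCoatom M → IsCoatom L → ∀ a b : G, a ∈ Cfsg.sigmaCore M → b ≠ 1 →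
    a * b = b * a → (∀ p : ℕ, p.Prime → p ∣ orderOf b → p ∈ Cfsg.sigma L) →
    (∀ p : ℕ, p.Prime → p ∣ orderOf b → p ∉ Cfsg.sigma M) →
    Subgroup.centralizer ({b} : Set G) ≤ M →
    (∀ L' : Subgroup G, IsCoatom L' → Subgroup.centralizer ({b} : Set G) ≤ L' → L' = M) →
    ∃ N : Subgroup G, IsCoatom N ∧ a * b ∈ Tl N

/-- CASEIN: `C_G(a) ≤ M`.  (`b ∈ M ⊓ C{a}`; `S1432.result hG M hM a _ _ b _ _ _`: first
alternative: `KAlt`; second: `TAlt`.) -/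
def CaseIn : Prop :=
  KAlt.{u} → TAlt.{u} → H51.{u} →
  ∀ {G : Type u} [Group G] [Finite G], Cfsg.IsMinSimpleOddOrder G →
  ∀ (M : Subgroup G), IsCoatom M → ∀ a b : G, a ∈ Cfsg.sigmaCore M → a ≠ 1 → b ≠ 1 →
    a * b = b * a → (∀ p : ℕ, p.Prime → p ∣ orderOf b → p ∉ Cfsg.sigma M) →
    Subgroup.centralizer ({a} : Set G) ≤ M →
    (∃ N : Subgroup G, IsCoatom N ∧ a * b ∈ Tl N) ∨ InZ (a * b)

/-- HCONJ: `C_G(a) ⊄ M`, `N ⊇ C_G(a)` maximal, `b ∈ C_G(a)` a `σ(N)'`-element: some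
`c ∈ C_G(a)` has `c b c⁻¹ ∈ M`.  (`gen`: `N` is its `N` (uniqueness), `IsComplIn (M ⊓ N) N_σ N`,
the primes of `orderOf a` are in `τ₂(N)`, hence not in `σ(N)` (def of `tau2`).
`X := zpowers a ⊔ zpowers b ≤ N` has order prime to `|N_σ|` (its elements are `a^i b^j`; or
`X := zpowers (a * b)` when convenient; `coprime_card_sigmaCore`).
`BG1210.exists_conj_le_compl` (`N` solvable, `coprime_compl`): `c₀ ∈ N` with
`c₀ X c₀⁻¹ ≤ M ⊓ N`; `c₀ = m * s`, `m ∈ M ⊓ N`, `s ∈ N_σ`: `s a s⁻¹, s b s⁻¹ ∈ M ⊓ N`;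
`(s a s⁻¹) a⁻¹ ∈ (M ⊓ N) ⊓ N_σ = ⊥` (`a ∈ M ⊓ N` normalizes `N_σ`), so `s ∈ C_G(a)`; `c := s`.) -/
def HConj : Prop :=
  ∀ {G : Type u} [Group G] [Finite G], Cfsg.IsMinSimpleOddOrder G →
  ∀ (M N : Subgroup G), IsCoatom M → IsCoatom N → ∀ a : G, a ∈ Cfsg.sigmaCore M → a ≠ 1 →
    ¬ Subgroup.centralizer ({a} : Set G) ≤ M → Subgroup.centralizer ({a} : Set G) ≤ N →
    ∀ b : G, b ∈ Subgroup.centralizer ({a} : Set G) →
      (∀ p : ℕ, p.Prime → p ∣ orderOf b → p ∉ Cfsg.sigma N) →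
      ∃ c ∈ Subgroup.centralizer ({a} : Set G), c * b * c⁻¹ ∈ M

/-- TCONJ (pure): `tildeOf N A` is closed under conjugation. -/
def TConj : Prop :=
  ∀ {G : Type u} [Group G] (N : Subgroup G) (A : Set G) (g c : G),
    g ∈ Cfsg.tildeOf N A → c * g * c⁻¹ ∈ Cfsg.tildeOf N A

/-- CASEOUT: `C_G(a) ⊄ M`.  (`gen`: `N`.  `Parts b (σ(N))`: `b = b₁ * b₂`, both in
`zpowers b ≤ C_G(a) ≤ N`; `b₁ ∈ N_σ` (`FamCount.mem_sigmaCore_of_orderOf`), so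
`b₁ ∈ supportR M a = N_σ ⊓ C{a}` (`suppEq`).  If `b₂ = 1`: `a * b = 1 * (a * b₁) * 1⁻¹ ∈ Tl M`.
Else `HConj`: `c ∈ C_G(a)`, `b₂' := c b₂ c⁻¹ ∈ M ⊓ C{a}`, `≠ 1`, a `σ(M)'`-element
(`orderOf b₂ ∣ orderOf b`); `S1432.result` for `(M, a, b₂')`: the first alternative says
`C_G(a) ≤ M`; the second gives `L` and `C_G(b₂') ≤ M`, unique.  `b₁' := c b₁ c⁻¹ ∈ N_σ`
(`conj_mem_sigmaCore`, `c ∈ N`) commutes with `b₂'`, so `b₁' ∈ M ⊓ N ⊓ N_σ = ⊥`: `b₁ = 1`,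
`b = b₂`, `c (a * b) c⁻¹ = a * b₂'`; `TAlt` for `(M, L, a, b₂')` and `TConj` with `c⁻¹`.) -/
def CaseOut : Prop :=
  Parts.{u} → HConj.{u} → TAlt.{u} → TConj.{u} →
  ∀ {G : Type u} [Group G] [Finite G], Cfsg.IsMinSimpleOddOrder G →
  ∀ (M : Subgroup G), IsCoatom M → ∀ a b : G, a ∈ Cfsg.sigmaCore M → a ≠ 1 →
    a * b = b * a → (∀ p : ℕ, p.Prime → p ∣ orderOf b → p ∉ Cfsg.sigma M) →
    ¬ Subgroup.centralizer ({a} : Set G) ≤ M →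
    ∃ N : Subgroup G, IsCoatom N ∧ a * b ∈ Tl N

/-- COVER: every `g ≠ 1` is in some `Ñ` or in some `Zhat`.  (helper23 assembles.) -/
def Cover : Prop :=
  H51.{u} → ∀ {G : Type u} [Group G] [Finite G], Cfsg.IsMinSimpleOddOrder G → ∀ g : G, g ≠ 1 →
    (∃ N : Subgroup G, IsCoatom N ∧ g ∈ Tl N) ∨ InZ g

/-- TLCONJ: `(hMh⁻¹)~ ⊆ M̃`.  (`g = y (a r) y⁻¹`, `a ∈ (M^h)_σ ∖ 1`, `r ∈ supportR (M^h) a`.
`SuppConj` for `(M^h, a, h⁻¹)` (`M^h` a coatom: `Helper15.S69COATOMCONJ.main`) and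
`(M^h)^(h⁻¹) = M` (`Subgroup.map_map`, or `ext` + `Subgroup.mem_map`): `a₀ := h⁻¹ a h ∈ M_σ`,
`r₀ := h⁻¹ r h ∈ supportR M a₀`; `g = (y h) (a₀ r₀) (y h)⁻¹`.) -/
def TlConj : Prop :=
  ∀ {G : Type u} [Group G] [Finite G], Cfsg.IsMinSimpleOddOrder G →
  ∀ (M : Subgroup G), IsCoatom M → ∀ h : G, Tl (M.map (MulAut.conj h).toMonoidHom) ⊆ Tl M

/-- ZNOT: no conjugate of an element of `Zhat` lies in any `Ñ`.  (`H66`: `Ms`, so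
`Pair M K Ms (ks M K)` (`⟨hM, c.hMs, hKU.hall, c.hKs, rfl, c.eK, hK1, (S1354.result ..).1⟩`).
Suppose `y z y⁻¹ = w (a r) w⁻¹`, `a ∈ N_σ ∖ 1`, `r ∈ supportR N a`.  `orderOf a ∣ orderOf z`:
`r = 1`, or (`suppEq`, `gen`) `r ∈ N'_σ ⊓ C{a}` with `N'` not conjugate to `N`, so `orderOf a`,
`orderOf r` are coprime (`FamCount.sigma_disj`, `mem_sigma_of_dvd`) and
`orderOf (a * r) = orderOf a * orderOf r` (`Commute.orderOf_mul_eq_mul_orderOf_of_coprime`).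
A prime `p ∣ orderOf a` is in `σ(N)`; `X ≤ zpowers z ≤ K ⊔ ks M K` of order `p`; `PrimeSub`
(`S1368.result`: cyclic): `X ≤ K ≤ Ms_σ` (`p ∈ σ(Ms)`) or `X ≤ ks M K ≤ M_σ` (`p ∈ σ(M)`).
`(S1378.result hG).2`: `N = M.map (conj g)` resp. `Ms.map (conj g)`; `TlConj`:
`y z y⁻¹ ∈ Tl M` resp. `Tl Ms`, against `Helper90.S68DISJZ.main S68CENT.main
(Helper69.S68FUS.main S68CENT.main) : DisjZ` for the pair resp. `Pair.symm`
(`Zhat (ks M K) K = Zhat K (ks M K)`: `sup_comm`, `Set.union_comm`).) -/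
def ZNot : Prop :=
  TlConj.{u} → PrimeSub.{u} → H66.{u} →
  ∀ {G : Type u} [Group G] [Finite G], Cfsg.IsMinSimpleOddOrder G →
  ∀ (M K U : Subgroup G), IsCoatom M → Cfsg.IsSigmaDecomposition M K U → K ≠ ⊥ →
  ∀ N : Subgroup G, IsCoatom N → ∀ y : G, ∀ z ∈ Zhat K (ks M K), y * z * y⁻¹ ∉ Tl N

/-- ZSET: if `K' ⊔ ks M' K' = h (K ⊔ ks M K) h⁻¹` then `h⁻¹ Zhat' h ⊆ Zhat`.
(`g ∈ Zhat'`: `g₀ := h⁻¹ g h ∈ K ⊔ ks M K`.  `g = x * y`, `x ∈ K'`, `y ∈ ks M' K'`, both `≠ 1`,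
commuting, of coprime orders, so `orderOf g = orderOf x * orderOf y`; a prime `p` of `orderOf x`
is in `σ(Ms')` (`K' ≤ Ms'_σ`, `mem_sigma_of_dvd`), a prime `q` of `orderOf y` is in `σ(M')`.
If `g₀ ∈ K`: `p, q ∣ orderOf g₀ ∣ |K|`, so `p, q ∈ σ(Ms)`; `(S1378.result hG).2 Ms Ms'`:
`Ms' = Ms.map (conj c)`, `σ(Ms') = σ(Ms)` (`sigma_cj`), so `q ∈ σ(M') ∩ σ(Ms')`, against
`Helper90.S68SDISJ.main` for the pair of `(M', K', Ms')`.  If `g₀ ∈ ks M K`: the same with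
`σ(M)` in place of `σ(Ms)`.) -/
def ZSet : Prop :=
  ∀ {G : Type u} [Group G] [Finite G], Cfsg.IsMinSimpleOddOrder G →
  ∀ (M K U Ms M' K' U' Ms' : Subgroup G), Cfg M K U Ms → Cfg M' K' U' Ms' → ∀ h : G,
    K' ⊔ ks M' K' = (K ⊔ ks M K).map (MulAut.conj h).toMonoidHom →
    ∀ g ∈ Zhat K' (ks M' K'), h⁻¹ * g * h ∈ Zhat K (ks M K)

/-- ZZ: two configurations have conjugate `K ⊔ ks M K`.  (helper23; as in `S69CL2`.) -/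
def ZZ : Prop :=
  ∀ {G : Type u} [Group G] [Finite G], Cfsg.IsMinSimpleOddOrder G →
  ∀ (M K U Ms M' K' U' Ms' : Subgroup G), Cfg M K U Ms → Cfg M' K' U' Ms' →
    ∃ h : G, K' ⊔ ks M' K' = (K ⊔ ks M K).map (MulAut.conj h).toMonoidHom

/-- C3A: the first half of clause 3 of S1379.  (helper23 assembles: `Cover`, `ZZ`, `ZSet`.) -/
def C3A : Prop :=
  H51.{u} → H66.{u} → ∀ {G : Type u} [Group G] [Finite G], Cfsg.IsMinSimpleOddOrder G →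
  ∀ (M K U : Subgroup G), IsCoatom M → Cfsg.IsSigmaDecomposition M K U → K ≠ ⊥ →
  ∀ g : G, g ≠ 1 →
    (∃ N : Subgroup G, IsCoatom N ∧ g ∈ Tl N) ∨
      ∃ y : G, ∃ z ∈ Zhat K (ks M K), g = y * z * y⁻¹

end Cfsg.Agent.Lib.Helper23.S79Stmt
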