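import Mathlib
import Cfsg.Agent.Lib.Helper18.ReeHallStmt

/-!
# S1158 piece NRMH: the odd part of the torus `H` of a small Ree group and its normalizer
-/

set_option autoImplicit false

namespace Cfsg.Agent.Lib.Helper23.RHNRMH

open Cfsg.Agent.Lib.Helper42.ReeSpStmt Cfsg.Agent.Lib.Helper18.ReeHallStmt

universe u v

/-- `q ≡ 3 (mod 8)` -/
theorem qq_mod8 (m : ℕ) : qq m % 8 = 3 := by
  have h : qq m = 9 ^ m * 3 := by
    unfold qq
    rw [pow_succ, pow_mul]
    norm_num
  rw [h, Nat.mul_mod, Nat.pow_mod]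
  norm_num

/-- `27 ≤ q` -/
theorem le_qq {m : ℕ} (hm : 1 ≤ m) : 27 ≤ qq m := by
  calc 27 = 3 ^ 3 := by norm_num
    _ ≤ 3 ^ (2 * m + 1) := Nat.pow_le_pow_right (by norm_num) (by omega)

/-- two elements of a cyclic subgroup commute -/
theorem comm_of_cyclic {G : Type u} [Group G] {H : Subgroup G} (hc : IsCyclic ↥H) {x y : G}
    (hx : x ∈ H) (hy : y ∈ H) : x * y = y * x := by
  obtain ⟨h0, hh0⟩ := hc.exists_generator
  obtain ⟨i, hi⟩ := Subgroup.mem_zpowers_iff.1 (hh0 ⟨x, hx⟩)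
  obtain ⟨j, hj⟩ := Subgroup.mem_zpowers_iff.1 (hh0 ⟨y, hy⟩)
  have hi' : (h0 : G) ^ i = x := by
    have := congrArg Subtype.val hi
    simpa using this
  have hj' : (h0 : G) ^ j = y := by
    have := congrArg Subtype.val hj
    simpa using this
  rw [← hi', ← hj']
  exact zpow_mul_comm _ _ _

/-- the normalizer of a cyclic subgroup normalizes each of its subgroups (elementwise) -/
theorem conj_mem_of_cyclic {G : Type u} [Group G] {H A₀ : Subgroup G} (hc : IsCyclic ↥H)
    (hle : A₀ ≤ H) {g : G} (hg : g ∈ Subgroup.normalizer (H : Set G)) {x : G} (hx : x ∈ A₀) :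
    g * x * g⁻¹ ∈ A₀ := by
  obtain ⟨h0, hh0⟩ := hc.exists_generator
  have hgh : g * (h0 : G) * g⁻¹ ∈ H := (Subgroup.mem_set_normalizer_iff.1 hg _).1 h0.2
  obtain ⟨k, hk⟩ := Subgroup.mem_zpowers_iff.1 (hh0 ⟨_, hgh⟩)
  obtain ⟨j, hj⟩ := Subgroup.mem_zpowers_iff.1 (hh0 ⟨x, hle hx⟩)
  have hk' : (h0 : G) ^ k = g * (h0 : G) * g⁻¹ := by
    have := congrArg Subtype.val hk
    simpa using this
  have hj' : (h0 : G) ^ j = x := by
    have := congrArg Subtype.val hj
    simpa using this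
  have h1 : g * x * g⁻¹ = x ^ k := by
    rw [← hj', ← zpow_mul, mul_comm j k, zpow_mul, hk', conj_zpow]
  rw [h1]
  exact A₀.zpow_mem hx k

/-- the normalizer of a cyclic subgroup normalizes each of its subgroups -/
theorem normalizer_le_of_cyclic {G : Type u} [Group G] {H A₀ : Subgroup G} (hc : IsCyclic ↥H)
    (hle : A₀ ≤ H) :
    Subgroup.normalizer (H : Set G) ≤ Subgroup.normalizer (A₀ : Set G) := by
  intro g hg
  rw [Subgroup.mem_set_normalizer_iff]
  intro x
  refine ⟨fun hx => conj_mem_of_cyclic hc hle hg hx, fun hx => ?_⟩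
  have := conj_mem_of_cyclic hc hle (inv_mem hg) hx
  simpa [mul_assoc] using this

/-- NRMH -/
theorem main : NrmH.{u, v} := by
  intro G _ _ U H A K _ _ m hax hN
  have hq8 := qq_mod8 m
  have hq27 := le_qq hax.hm
  obtain ⟨h0, hh0⟩ := hax.cycH.exists_generator
  have hord : orderOf (h0 : G) = qq m - 1 := by
    rw [Subgroup.orderOf_coe, orderOf_eq_card_of_forall_mem_zpowers hh0, hax.cardH]
  have haH : (h0 : G) ^ 2 ∈ H := H.pow_mem h0.2 2
  have horda : orderOf ((h0 : G) ^ 2) = (qq m - 1) / 2 := by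
    rw [orderOf_pow, hord]
    have h2 : Nat.gcd (qq m - 1) 2 = 2 := Nat.gcd_eq_right (by omega)
    rw [h2]
  have hAH : Subgroup.zpowers ((h0 : G) ^ 2) ≤ H := by
    rw [Subgroup.zpowers_le]
    exact haH
  have hcardA : Nat.card ↥(Subgroup.zpowers ((h0 : G) ^ 2)) = (qq m - 1) / 2 := by
    rw [Nat.card_zpowers, horda]
  have hodd : ∀ x ∈ Subgroup.zpowers ((h0 : G) ^ 2), Odd (orderOf x) := by
    intro x hx
    have h1 := Subgroup.orderOf_dvd_natCard _ hx
    rw [hcardA] at h1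
    have h2 : Odd ((qq m - 1) / 2) := by
      rw [Nat.odd_iff]
      omega
    exact h2.of_dvd_nat h1
  have hkey : ∀ A₀ : Subgroup G, A₀ ≤ Subgroup.zpowers ((h0 : G) ^ 2) → A₀ ≠ ⊥ →
      Subgroup.normalizer (A₀ : Set G) = Subgroup.normalizer (H : Set G) := by
    intro A₀ hle hne
    apply le_antisymm
    · obtain ⟨⟨x, hx⟩, hx1⟩ := Subgroup.ne_bot_iff_exists_ne_one.1 hne
      have hx1' : x ≠ 1 := fun h => hx1 (Subtype.ext h)
      have hstep : ∀ g ∈ Subgroup.normalizer (A₀ : Set G), ∀ h ∈ H, g * h * g⁻¹ ∈ H := by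
        intro g hg h hh
        have hy : g * x * g⁻¹ ∈ A₀ := (Subgroup.mem_set_normalizer_iff.1 hg _).1 hx
        have hy1 : g * x * g⁻¹ ≠ 1 := by
          intro h1
          apply hx1'
          have : x = g⁻¹ * (g * x * g⁻¹) * g := by group
          rw [this, h1]
          group
        apply hax.centH (g * x * g⁻¹) (hAH (hle hy)) hy1 (hodd _ (hle hy))
        have hc : h * x = x * h := comm_of_cyclic hax.cycH hh (hAH (hle hx))
        calc g * h * g⁻¹ * (g * x * g⁻¹) = g * (h * x) * g⁻¹ := by group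
          _ = g * (x * h) * g⁻¹ := by rw [hc]
          _ = g * x * g⁻¹ * (g * h * g⁻¹) := by group
      intro g hg
      rw [Subgroup.mem_set_normalizer_iff]
      intro h
      refine ⟨fun hh => hstep g hg h hh, fun hh => ?_⟩
      have := hstep g⁻¹ (inv_mem hg) _ hh
      simpa [mul_assoc] using this
    · exact normalizer_le_of_cyclic hax.cycH (hle.trans hAH)
  have hAne : Subgroup.zpowers ((h0 : G) ^ 2) ≠ ⊥ := by
    intro h
    have h1 : Nat.card ↥(Subgroup.zpowers ((h0 : G) ^ 2)) = 1 := by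
      rw [h]
      exact Subgroup.card_bot
    rw [hcardA] at h1
    omega
  refine ⟨Subgroup.zpowers ((h0 : G) ^ 2), inferInstance, hcardA, ?_, ?_⟩
  · rw [hkey _ le_rfl hAne]
    exact hN
  · intro A₀ hle hne
    rw [hkey _ le_rfl hAne, hkey A₀ hle hne]

end Cfsg.Agent.Lib.Helper23.RHNRMH
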