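import Mathlib
import Cfsg.Agent.Lib.Helper18.R59Stmt

/-! Piece ABS of S2359: the fusion argument. -/

set_option autoImplicit false

namespace Cfsg.Agent.Lib.Helper23.R59ABS

open Cfsg.Agent.Lib.Helper18.R59Stmt

universe u

theorem conj_pow_one {G : Type u} [Group G] {u s : G} (hu : u * u = 1) (hs : s * s = 1) (k : ℕ) :
    u * (u * s) ^ k = (s * u) ^ k * u := by
  induction k with
  | zero => simp
  | succ k ih =>
    rw [pow_succ, ← mul_assoc, ih, pow_succ]
    calc (s * u) ^ k * u * (u * s) = (s * u) ^ k * (u * u) * s := by group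
      _ = (s * u) ^ k * (s * (u * u)) := by rw [hu, mul_one, mul_one]
      _ = (s * u) ^ k * (s * u) * u := by group

theorem conj_pow_two {G : Type u} [Group G] {u s : G} (hu : u * u = 1) (hs : s * s = 1) (k : ℕ) :
    u * (s * u) ^ k = (u * s) ^ k * u := by
  induction k with
  | zero => simp
  | succ k ih =>
    rw [pow_succ, ← mul_assoc, ih, pow_succ]
    group

theorem inv_eq_swap {G : Type u} [Group G] {u s : G} (hu : u * u = 1) (hs : s * s = 1) :
    (u * s)⁻¹ = s * u := by
  symm
  apply eq_inv_of_mul_eq_one_left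
  calc s * u * (u * s) = s * (u * u) * s := by group
    _ = 1 := by rw [hu, mul_one, hs]

/-- In a finite group where the centraliser of `a` has no nontrivial 3-element, an element of
`C(a)` whose cube commutes with `t` commutes with `t`. -/
theorem comm_of_cube {G : Type u} [Group G] [Finite G] (a t : G)
    (h3 : ∀ x : G, x * a = a * x → (∃ k : ℕ, x ^ 3 ^ k = 1) → x = 1)
    (x : G) (hx : x * a = a * x) (h : x ^ 3 * t = t * x ^ 3) : x * t = t * x := by
  have hn : 0 < orderOf x := orderOf_pos x
  obtain ⟨k, r, hr, hnr⟩ := Nat.exists_eq_pow_mul_and_not_dvd hn.ne' 3 (by norm_num)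
  have hxr : x ^ r = 1 := by
    apply h3 (x ^ r) ((show Commute x a from hx).pow_left r).eq
    refine ⟨k, ?_⟩
    rw [← pow_mul, mul_comm, ← hnr]
    exact pow_orderOf_eq_one x
  have hdvd : orderOf x ∣ r := orderOf_dvd_of_pow_eq_one hxr
  have hcop : Nat.Coprime 3 (orderOf x) := by
    rw [Nat.Prime.coprime_iff_not_dvd Nat.prime_three]
    intro h3n
    exact hr (h3n.trans hdvd)
  obtain ⟨j, hj⟩ := exists_pow_eq_self_of_coprime hcop
  have hc : Commute ((x ^ 3) ^ j) t := (show Commute (x ^ 3) t from h).pow_left j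
  rw [hj] at hc
  exact hc.eq

theorem main : ABS.{u} := by
  intro G _ _ a t t' ht ht1 hta ht' ht'1 ht't ht'a hcomm hV hinv h3
  -- the three involutions of the four-group
  have htt'2 : (t * t') * (t * t') = 1 := by
    calc t * t' * (t * t') = t * (t' * t) * t' := by group
      _ = t * (t * t') * t' := by rw [hcomm]
      _ = (t * t) * (t' * t') := by group
      _ = 1 := by rw [ht, ht', mul_one]
  have htt'1 : t * t' ≠ 1 := by
    intro h
    apply ht't
    have h1 : t' = t⁻¹ := eq_inv_of_mul_eq_one_right h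
    have h2 : t⁻¹ = t := inv_eq_of_mul_eq_one_left ht
    rw [h1, h2]
  have htt'a : (t * t') * a = a * (t * t') := by
    rw [mul_assoc, ht'a, ← mul_assoc, hta, mul_assoc]
  have htt't : (t * t') * t = t * (t * t') := by
    rw [mul_assoc, hcomm]
  -- (1)
  have key1 : ∀ v : G, v * v = 1 → v ≠ 1 → v * a = a * v → v * t = t * v →
      ∀ y : G, y * a = a * y → y * v = v * y → y * t = t * y :=
    fun v hv hv1 hva hvt y hya hyv => hinv v hv hv1 hva y t hya hyv hta hvt.symm
  -- conjugation facts
  have cj_sq : ∀ x g : G, g * g = 1 → (x * g * x⁻¹) * (x * g * x⁻¹) = 1 := by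
    intro x g hg
    calc x * g * x⁻¹ * (x * g * x⁻¹) = x * (g * g) * x⁻¹ := by group
      _ = 1 := by rw [hg]; group
  have cj_a : ∀ x g : G, x * a = a * x → g * a = a * g → (x * g * x⁻¹) * a = a * (x * g * x⁻¹) := by
    intro x g hx hg
    have hx' : x⁻¹ * a = a * x⁻¹ := by
      have : Commute x⁻¹ a := (show Commute x a from hx).inv_left
      exact this.eq
    calc x * g * x⁻¹ * a = x * g * (x⁻¹ * a) := by group
      _ = x * (g * a) * x⁻¹ := by rw [hx']; group
      _ = (x * a) * g * x⁻¹ := by rw [hg]; group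
      _ = a * (x * g * x⁻¹) := by rw [hx]; group
  have cj_comm : ∀ x g h : G, g * h = h * g →
      (x * g * x⁻¹) * (x * h * x⁻¹) = (x * h * x⁻¹) * (x * g * x⁻¹) := by
    intro x g h hgh
    calc x * g * x⁻¹ * (x * h * x⁻¹) = x * (g * h) * x⁻¹ := by group
      _ = x * (h * g) * x⁻¹ := by rw [hgh]
      _ = x * h * x⁻¹ * (x * g * x⁻¹) := by group
  have cj_inj : ∀ x g h : G, x * g * x⁻¹ = x * h * x⁻¹ → g = h := by
    intro x g h e
    have := congrArg (fun y => x⁻¹ * y * x) e
    simpa [mul_assoc] using this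
  have cj_eq : ∀ x g : G, x * g = g * x → x * g * x⁻¹ = g := by
    intro x g e
    rw [e]; group
  have cj_cube : ∀ x A B : G, x * t * x⁻¹ = A → x * A * x⁻¹ = B → x * B * x⁻¹ = t →
      x ^ 3 * t = t * x ^ 3 := by
    intro x A B e1 e2 e3
    have hx3 : x ^ 3 = x * x * x := by rw [pow_succ, pow_two]
    rw [hx3]
    calc x * x * x * t = x * (x * (x * t * x⁻¹) * x⁻¹) * x⁻¹ * (x * x * x) := by group
      _ = t * (x * x * x) := by rw [e1, e2, e3]
  -- (2) non-fusion
  have NF : ∀ x : G, x * a = a * x → (x * t * x⁻¹ = t' ∨ x * t * x⁻¹ = t * t') → False := by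
    intro x hxa h
    -- the image of t'
    have hw2 : (x * t' * x⁻¹) * (x * t' * x⁻¹) = 1 := cj_sq x t' ht'
    have hwa : (x * t' * x⁻¹) * a = a * (x * t' * x⁻¹) := cj_a x t' hxa ht'a
    have hw1 : x * t' * x⁻¹ ≠ 1 := by
      intro e
      apply ht'1
      apply cj_inj x
      rw [e]; group
    have hwu : (x * t' * x⁻¹) * (x * t * x⁻¹) = (x * t * x⁻¹) * (x * t' * x⁻¹) :=
      cj_comm x t' t hcomm
    have hprod : x * (t * t') * x⁻¹ = (x * t * x⁻¹) * (x * t' * x⁻¹) := by group
    have hne : x * t' * x⁻¹ ≠ x * t * x⁻¹ := fun e => ht't (cj_inj x _ _ e)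
    rcases h with hu | hu
    · -- x t x⁻¹ = t'
      have hwt : (x * t' * x⁻¹) * t = t * (x * t' * x⁻¹) := by
        apply key1 t' ht' ht'1 ht'a hcomm _ hwa
        rw [hu] at hwu
        exact hwu
      rcases hV _ hw2 hwa hwt with e | e | e | e
      · exact hw1 e
      · -- x t' x⁻¹ = t : then x commutes with t t'
        have e2 : x * (t * t') * x⁻¹ = t * t' := by rw [hprod, hu, e, hcomm]
        have hx : x * (t * t') = (t * t') * x := by
          calc x * (t * t') = x * (t * t') * x⁻¹ * x := by group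
            _ = t * t' * x := by rw [e2]
        have hxt := key1 (t * t') htt'2 htt'1 htt'a htt't x hxa hx
        apply ht't
        rw [← hu, cj_eq x t hxt]
      · apply hne
        rw [e, hu]
      · -- x t' x⁻¹ = t t'
        have e3 : x * (t * t') * x⁻¹ = t := by
          rw [hprod, hu, e]
          calc t' * (t * t') = (t' * t) * t' := by group
            _ = t * (t' * t') := by rw [hcomm]; group
            _ = t := by rw [ht', mul_one]
        have hc := cj_cube x t' (t * t') hu e e3
        have hxt := comm_of_cube a t h3 x hxa hc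
        apply ht't
        rw [← hu, cj_eq x t hxt]
    · -- x t x⁻¹ = t t'
      have hwt : (x * t' * x⁻¹) * t = t * (x * t' * x⁻¹) := by
        apply key1 (t * t') htt'2 htt'1 htt'a htt't _ hwa
        rw [hu] at hwu
        exact hwu
      rcases hV _ hw2 hwa hwt with e | e | e | e
      · exact hw1 e
      · -- x t' x⁻¹ = t
        have e3 : x * (t * t') * x⁻¹ = t' := by
          rw [hprod, hu, e]
          calc t * t' * t = t * (t' * t) := by group
            _ = (t * t) * t' := by rw [hcomm]; group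
            _ = t' := by rw [ht, one_mul]
        have hc := cj_cube x (t * t') t' hu e3 e
        have hxt := comm_of_cube a t h3 x hxa hc
        apply ht'1
        have h1 : t * t' = t := by rw [← hu, cj_eq x t hxt]
        calc t' = t⁻¹ * (t * t') := by group
          _ = 1 := by rw [h1]; group
      · -- x t' x⁻¹ = t' : x commutes with t'
        have hx : x * t' = t' * x := by
          calc x * t' = x * t' * x⁻¹ * x := by group
            _ = t' * x := by rw [e]
        have hxt := key1 t' ht' ht'1 ht'a hcomm x hxa hx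
        apply ht'1
        have h1 : t * t' = t := by rw [← hu, cj_eq x t hxt]
        calc t' = t⁻¹ * (t * t') := by group
          _ = 1 := by rw [h1]; group
      · apply hne
        rw [e, hu]
  -- (3)
  intro x hxa
  have hu2 : (x * t * x⁻¹) * (x * t * x⁻¹) = 1 := cj_sq x t ht
  have hua : (x * t * x⁻¹) * a = a * (x * t * x⁻¹) := cj_a x t hxa hta
  have hu1 : x * t * x⁻¹ ≠ 1 := by
    intro e
    apply ht1
    apply cj_inj x
    rw [e]; group
  set u := x * t * x⁻¹ with hu
  have hwa : (u * t') * a = a * (u * t') := by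
    rw [mul_assoc, ht'a, ← mul_assoc, hua, mul_assoc]
  have hwinv : (u * t')⁻¹ = t' * u := inv_eq_swap hu2 ht'
  have hwka : ∀ k : ℕ, (u * t') ^ k * a = a * (u * t') ^ k := fun k =>
    ((show Commute (u * t') a from hwa).pow_left k).eq
  have hn : 0 < orderOf (u * t') := orderOf_pos _
  rcases Nat.even_or_odd' (orderOf (u * t')) with ⟨k, hk | hk⟩
  · -- even order
    have hk0 : k ≠ 0 := by
      rintro rfl
      omega
    have hz2 : (u * t') ^ k * (u * t') ^ k = 1 := by
      rw [← pow_add, ← two_mul, ← hk]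
      exact pow_orderOf_eq_one _
    have hz1 : (u * t') ^ k ≠ 1 := pow_ne_one_of_lt_orderOf hk0 (by omega)
    have hzinv : ((u * t') ^ k)⁻¹ = (u * t') ^ k := inv_eq_of_mul_eq_one_left hz2
    have huz : u * (u * t') ^ k = (u * t') ^ k * u := by
      rw [conj_pow_one hu2 ht', ← hwinv, inv_pow, hzinv]
    have htz : t' * (u * t') ^ k = (u * t') ^ k * t' := by
      rw [conj_pow_two ht' hu2, ← hwinv, inv_pow, hzinv]
    have hut' : u * t' = t' * u :=
      hinv ((u * t') ^ k) hz2 hz1 (hwka k) u t' hua huz ht'a htz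
    have hut : u * t = t * u := key1 t' ht' ht'1 ht'a hcomm u hua hut'
    rcases hV u hu2 hua hut with e | e | e | e
    · exact absurd e hu1
    · calc x * t = x * t * x⁻¹ * x := by group
        _ = t * x := by rw [← hu, e]
    · exact (NF x hxa (Or.inl e)).elim
    · exact (NF x hxa (Or.inr e)).elim
  · -- odd order
    exfalso
    apply NF ((u * t') ^ k * x) _ (Or.inl _)
    · rw [mul_assoc, hxa, ← mul_assoc, hwka k, mul_assoc]
    · have h1 : (u * t') ^ k * x * t * ((u * t') ^ k * x)⁻¹ =
          (u * t') ^ k * u * ((u * t') ^ k)⁻¹ := by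
        rw [hu]; group
      rw [h1]
      have h2 : u * ((u * t') ^ k)⁻¹ = (u * t') ^ k * u := by
        rw [← inv_pow, hwinv, conj_pow_two hu2 ht']
      have h3' : (u * t') ^ (2 * k) = t' * u := by
        rw [← hwinv]
        apply eq_inv_of_mul_eq_one_left
        rw [← pow_succ, ← hk]
        exact pow_orderOf_eq_one _
      calc (u * t') ^ k * u * ((u * t') ^ k)⁻¹ = (u * t') ^ k * (u * ((u * t') ^ k)⁻¹) := by group
        _ = (u * t') ^ k * ((u * t') ^ k * u) := by rw [h2]
        _ = (u * t') ^ (2 * k) * u := by rw [two_mul, pow_add]; group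
        _ = t' * (u * u) := by rw [h3']; group
        _ = t' := by rw [hu2, mul_one]

end Cfsg.Agent.Lib.Helper23.R59ABS
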