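import Mathlib
import Cfsg.Agent.Lib.Helper25.AICSpec

/-!
S2202/PL1: the first local facts for a group in which every involution centralizer is abelian
(Sylow 2-subgroup `S` non-cyclic): `S` is abelian, `C_G(S)` is the (abelian) centralizer of
every involution of `S`, `S` is a TI-set, and the 2-elements of `N_G(S)` lie in `S`.
-/

set_option autoImplicit false

namespace Cfsg.Agent.Lib.Helper23.AICPL1

universe u

open Subgroup Cfsg.Agent.Lib.Helper25.AICSpec

variable {G : Type u} [Group G]

theorem orderOf_conj_inv (g x : G) : orderOf (g⁻¹ * x * g) = orderOf x := by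
  have h := (MulAut.conj g⁻¹).orderOf_eq x
  simpa [MulAut.conj_apply] using h

theorem orderOf_conj_mul (g x : G) : orderOf (g * x * g⁻¹) = orderOf x := by
  have h := (MulAut.conj g).orderOf_eq x
  simpa [MulAut.conj_apply] using h

theorem conj_inv_pow (g x : G) (j : ℕ) : (g⁻¹ * x * g) ^ j = g⁻¹ * x ^ j * g := by
  have h := conj_pow (a := g⁻¹) (b := x) (i := j)
  simpa using h

/-- A nontrivial 2-element has a power that is an involution. -/
theorem exists_pow_involution {x : G} (hx : x ≠ 1) (h2 : ∃ k : ℕ, orderOf x = 2 ^ k) :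
    ∃ j : ℕ, orderOf (x ^ j) = 2 := by
  obtain ⟨k, hk⟩ := h2
  have hk0 : k ≠ 0 := by
    rintro rfl
    rw [pow_zero, orderOf_eq_one_iff] at hk
    exact hx hk
  obtain ⟨m, rfl⟩ := Nat.exists_eq_succ_of_ne_zero hk0
  refine ⟨2 ^ m, ?_⟩
  rw [orderOf_pow_of_dvd (by positivity) (by rw [hk]; exact pow_dvd_pow 2 (Nat.le_succ m)), hk,
    pow_succ, Nat.mul_div_cancel_left _ (by positivity)]

/-- A 2-element normalizing a Sylow 2-subgroup lies in it. -/
theorem mem_sylow_of_normalizer [Finite G] (S : Sylow 2 G) {x : G} (hx : x ∈ NS S)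
    (h2 : ∃ k : ℕ, orderOf x = 2 ^ k) : x ∈ (S : Subgroup G) := by
  have : Fact (Nat.Prime 2) := ⟨Nat.prime_two⟩
  obtain ⟨k, hk⟩ := h2
  have hz : IsPGroup 2 (zpowers x) := IsPGroup.of_card (n := k) (by rw [Nat.card_zpowers, hk])
  have hle : zpowers x ≤ normalizer ((S : Subgroup G) : Set G) := (zpowers_le).2 hx
  have hsup : IsPGroup 2 (zpowers x ⊔ (S : Subgroup G) : Subgroup G) :=
    hz.to_sup_of_normal_right' S.isPGroup' hle
  have heq := S.is_maximal' hsup le_sup_right
  have hx' : x ∈ zpowers x ⊔ (S : Subgroup G) := (le_sup_left : zpowers x ≤ _) (mem_zpowers x)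
  rw [heq] at hx'
  exact hx'

theorem main : Cfsg.Agent.Lib.Helper25.AICSpec.PL1.{u} := by
  intro G _ _ S ⟨hAIC, hcyc, hnn⟩
  have : Fact (Nat.Prime 2) := ⟨Nat.prime_two⟩
  have hSp : IsPGroup 2 (S : Subgroup G) := S.isPGroup'
  have hord : ∀ x : G, x ∈ (S : Subgroup G) → ∃ k : ℕ, orderOf x = 2 ^ k := by
    intro x hx
    obtain ⟨k, hk⟩ := (IsPGroup.iff_orderOf.1 hSp) ⟨x, hx⟩
    exact ⟨k, by rw [← hk, Subgroup.orderOf_mk]⟩
  have hnt : Nontrivial (S : Subgroup G) := by
    by_contra h
    rw [not_nontrivial_iff_subsingleton] at h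
    exact hcyc isCyclic_of_subsingleton
  have hcn : Nontrivial (Subgroup.center (S : Subgroup G)) := hSp.center_nontrivial
  obtain ⟨⟨z, hzc⟩, hz1⟩ := exists_ne (1 : Subgroup.center (S : Subgroup G))
  have hz1' : (z : G) ≠ 1 := by
    intro h
    apply hz1
    apply Subtype.ext
    apply Subtype.ext
    exact h
  obtain ⟨j, hj⟩ := exists_pow_involution hz1' (hord z z.2)
  obtain ⟨t, ht⟩ : ∃ t : G, t = (z : G) ^ j := ⟨_, rfl⟩
  rw [← ht] at hj
  have htS : t ∈ (S : Subgroup G) := by
    rw [ht]
    exact (S : Subgroup G).pow_mem z.2 j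
  have hct : ∀ s ∈ (S : Subgroup G), s * t = t * s := by
    intro s hs
    have h1 := Subgroup.mem_center_iff.1 hzc ⟨s, hs⟩
    have h2 : s * (z : G) = (z : G) * s := congrArg Subtype.val h1
    have h3 : Commute s (z : G) := h2
    rw [ht]
    exact h3.pow_right j
  have hSt : ∀ s ∈ (S : Subgroup G), s ∈ centralizer ({t} : Set G) := by
    intro s hs
    rw [mem_centralizer_iff]
    intro h hh
    rw [Set.mem_singleton_iff] at hh
    rw [hh]
    exact (hct s hs).symm
  have hSab : ∀ a ∈ (S : Subgroup G), ∀ b ∈ (S : Subgroup G), a * b = b * a :=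
    fun a ha b hb => hAIC t hj a b (hSt a ha) (hSt b hb)
  have hle : (S : Subgroup G) ≤ CS S := by
    intro a ha
    show a ∈ centralizer ((S : Subgroup G) : Set G)
    rw [mem_centralizer_iff]
    intro h hh
    exact hSab h hh a ha
  have hcent : ∀ u : G, u ∈ S → orderOf u = 2 → centralizer ({u} : Set G) = CS S := by
    intro u hu hu2
    apply le_antisymm
    · intro a ha
      show a ∈ centralizer ((S : Subgroup G) : Set G)
      rw [mem_centralizer_iff]
      intro h hh
      have hh' : h ∈ centralizer ({u} : Set G) := by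
        rw [mem_centralizer_iff]
        intro v hv
        rw [Set.mem_singleton_iff] at hv
        rw [hv]
        exact hSab u hu h hh
      exact hAIC u hu2 h a hh' ha
    · intro a ha
      rw [mem_centralizer_iff]
      intro v hv
      rw [Set.mem_singleton_iff] at hv
      rw [hv]
      exact (mem_centralizer_iff.1 ha) u hu
  refine ⟨?_, hle, centralizer_le_normalizer _, hcent, ?_, ?_, ?_⟩
  · intro a b ha hb
    rw [← hcent t htS hj] at ha hb
    exact hAIC t hj a b ha hb
  · intro g x hx hx1 hgx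
    obtain ⟨i, hi⟩ := exists_pow_involution hx1 (hord x hx)
    obtain ⟨u, hu⟩ : ∃ u : G, u = x ^ i := ⟨_, rfl⟩
    rw [← hu] at hi
    have huS : u ∈ (S : Subgroup G) := by
      rw [hu]
      exact (S : Subgroup G).pow_mem hx i
    have hu'S : g⁻¹ * u * g ∈ (S : Subgroup G) := by
      rw [hu, ← conj_inv_pow]
      exact (S : Subgroup G).pow_mem hgx i
    have hu'2 : orderOf (g⁻¹ * u * g) = 2 := by rw [orderOf_conj_inv]; exact hi
    show g ∈ normalizer ((S : Subgroup G) : Set G)
    rw [mem_set_normalizer_iff]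
    intro s
    constructor
    · intro hs
      have h1 : s * (g⁻¹ * u * g) = (g⁻¹ * u * g) * s := hSab s hs _ hu'S
      have h2 : g * s * g⁻¹ ∈ centralizer ({u} : Set G) := by
        rw [mem_centralizer_iff]
        intro v hv
        rw [Set.mem_singleton_iff] at hv
        rw [hv]
        calc u * (g * s * g⁻¹) = g * ((g⁻¹ * u * g) * s) * g⁻¹ := by group
          _ = g * (s * (g⁻¹ * u * g)) * g⁻¹ := by rw [h1]
          _ = g * s * g⁻¹ * u := by group
      rw [hcent u huS hi] at h2
      exact mem_sylow_of_normalizer S (centralizer_le_normalizer _ h2)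
        (by rw [orderOf_conj_mul]; exact hord s hs)
    · intro hs
      have h1 : (g * s * g⁻¹) * u = u * (g * s * g⁻¹) := hSab _ hs u huS
      have h2 : s ∈ centralizer ({g⁻¹ * u * g} : Set G) := by
        rw [mem_centralizer_iff]
        intro v hv
        rw [Set.mem_singleton_iff] at hv
        rw [hv]
        calc g⁻¹ * u * g * s = g⁻¹ * (u * (g * s * g⁻¹)) * g := by group
          _ = g⁻¹ * ((g * s * g⁻¹) * u) * g := by rw [h1]
          _ = s * (g⁻¹ * u * g) := by group
      rw [hcent _ hu'S hu'2] at h2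
      exact mem_sylow_of_normalizer S (centralizer_le_normalizer _ h2)
        (by have h3 := hord _ hs; rwa [orderOf_conj_mul] at h3)
  · intro t ht ht2
    exact mem_sylow_of_normalizer S ht ⟨1, by rw [ht2, pow_one]⟩
  · intro c hc hk
    exact mem_sylow_of_normalizer S (centralizer_le_normalizer _ hc) hk

end Cfsg.Agent.Lib.Helper23.AICPL1
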