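import Mathlib
import Cfsg.Agent.Lib.Helper25.AICSpec
import Cfsg.Agent.Lib.Helper23.AICPL1

/-!
S2202/PL2b: `|N_G(S)| = |C_G(S)| * (number of involutions of S)` (orbit-stabilizer for the
conjugation action of `N_G(S)` on the involutions of `S`).
-/

set_option autoImplicit false

namespace Cfsg.Agent.Lib.Helper23.AICPL2b

universe u

open Subgroup Cfsg.Agent.Lib.Helper25.AICSpec Cfsg.Agent.Lib.Helper23.AICPL1

/-- A non-cyclic Sylow 2-subgroup contains an involution. -/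
theorem exists_involution {G : Type u} [Group G] [Finite G] (S : Sylow 2 G)
    (hcyc : ¬ IsCyclic (S : Subgroup G)) : ∃ t0 : G, t0 ∈ (S : Subgroup G) ∧ orderOf t0 = 2 := by
  have : Fact (Nat.Prime 2) := ⟨Nat.prime_two⟩
  have hSp : IsPGroup 2 (S : Subgroup G) := S.isPGroup'
  have hnt : Nontrivial (S : Subgroup G) := by
    by_contra h
    rw [not_nontrivial_iff_subsingleton] at h
    exact hcyc isCyclic_of_subsingleton
  obtain ⟨z, hz1⟩ := exists_ne (1 : (S : Subgroup G))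
  have hz1' : (z : G) ≠ 1 := by
    intro h
    apply hz1
    apply Subtype.ext
    exact h
  obtain ⟨k, hk⟩ := (IsPGroup.iff_orderOf.1 hSp) z
  obtain ⟨j, hj⟩ := exists_pow_involution hz1' ⟨k, by rw [← hk, Subgroup.orderOf_coe]⟩
  exact ⟨(z : G) ^ j, (S : Subgroup G).pow_mem z.2 j, hj⟩

theorem main : Cfsg.Agent.Lib.Helper25.AICSpec.PL2b.{u} := by
  intro G _ _ S hyp l1 l2
  obtain ⟨t0, ht0S, ht02⟩ := exists_involution S hyp.2.1
  let K : Subgroup ↥(NS S) := (CS S).subgroupOf (NS S)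
  have hKcard : Nat.card K = Nat.card (CS S) :=
    Nat.card_congr (Subgroup.subgroupOfEquivOfLe l1.cle).toEquiv
  let f : ↥(NS S) → {t : G // t ∈ S ∧ orderOf t = 2} := fun h =>
    ⟨(h : G) * t0 * (h : G)⁻¹, (mem_set_normalizer_iff.1 h.2 t0).1 ht0S,
      by rw [orderOf_conj_mul]; exact ht02⟩
  have hf : ∀ a b : ↥(NS S), f a = f b ↔ a⁻¹ * b ∈ K := by
    intro a b
    rw [Subtype.ext_iff]
    show (a : G) * t0 * (a : G)⁻¹ = (b : G) * t0 * (b : G)⁻¹ ↔ (a : G)⁻¹ * (b : G) ∈ CS S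
    rw [← l1.cent t0 ht0S ht02, mem_centralizer_iff]
    constructor
    · intro h v hv
      rw [Set.mem_singleton_iff] at hv
      rw [hv]
      calc t0 * ((a : G)⁻¹ * b) = (a : G)⁻¹ * (a * t0 * (a : G)⁻¹) * b := by group
        _ = (a : G)⁻¹ * (b * t0 * (b : G)⁻¹) * b := by rw [h]
        _ = (a : G)⁻¹ * b * t0 := by group
    · intro h
      have h1 := h t0 rfl
      calc (a : G) * t0 * (a : G)⁻¹ = a * (t0 * ((a : G)⁻¹ * b)) * (b : G)⁻¹ := by group
        _ = a * (((a : G)⁻¹ * b) * t0) * (b : G)⁻¹ := by rw [h1]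
        _ = b * t0 * (b : G)⁻¹ := by group
  have hsurj : Function.Surjective f := by
    rintro ⟨t', ht'S, ht'2⟩
    obtain ⟨h, hh, hht⟩ := l2.trans t0 t' ht0S ht02 ht'S ht'2
    refine ⟨⟨h⁻¹, (NS S).inv_mem hh⟩, ?_⟩
    apply Subtype.ext
    show h⁻¹ * t0 * h⁻¹⁻¹ = t'
    rw [inv_inv]
    exact hht
  have hcard : Nat.card (↥(NS S) ⧸ K) = qm1 S := by
    unfold qm1
    apply Nat.card_congr
    refine Equiv.ofBijective (Quotient.lift f
      (fun a b hab => (hf a b).2 (QuotientGroup.leftRel_apply.1 hab))) ⟨?_, ?_⟩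
    · rintro ⟨a⟩ ⟨b⟩ h
      have h' : f a = f b := h
      exact QuotientGroup.eq.2 ((hf a b).1 h')
    · intro x
      obtain ⟨h, hh⟩ := hsurj x
      exact ⟨QuotientGroup.mk h, hh⟩
  rw [← hcard, ← hKcard, mul_comm]
  exact Subgroup.card_eq_card_quotient_mul_card_subgroup K

end Cfsg.Agent.Lib.Helper23.AICPL2b
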