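import Mathlib
import Cfsg.Agent.Lib.Helper25.AICSpec
import Cfsg.Agent.Lib.Helper23.AICPL1
import Cfsg.Agent.Lib.Helper23.AICPL2b

/-!
S2202/PL4: the transversal `J_w = {d ∈ N_G(S) | w d w = d⁻¹}` of `C_G(S)` in `N_G(S)` attached to
an involution `w` outside `N_G(S)`.
-/

set_option autoImplicit false

namespace Cfsg.Agent.Lib.Helper23.AICPL4

universe u

open Subgroup Cfsg.Agent.Lib.Helper25.AICSpec Cfsg.Agent.Lib.Helper23.AICPL1
  Cfsg.Agent.Lib.Helper23.AICPL2b

theorem main : Cfsg.Agent.Lib.Helper25.AICSpec.PL4.{u} := by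
  intro G _ _ S hyp l1 l2 hcardN hcoset
  have : Fact (Nat.Prime 2) := ⟨Nat.prime_two⟩
  obtain ⟨t0, ht0S, ht02⟩ := exists_involution S hyp.2.1
  have ht0sq : t0 * t0 = 1 := by rw [← pow_two, ← ht02, pow_orderOf_eq_one]
  have ht0inv : t0⁻¹ = t0 := inv_eq_of_mul_eq_one_right ht0sq
  have ht0H : t0 ∈ NS S := l1.cle (l1.le ht0S)
  -- involutions of the coset `H w`
  have hiff : ∀ w : G, orderOf w = 2 → w ∉ NS S → ∀ h : G, h ∈ NS S →
      (orderOf (h * w) = 2 ↔ w * h * w = h⁻¹) := by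
    intro w hw2 hwH h hh
    constructor
    · intro h2
      have h3 : (h * w) ^ 2 = 1 := by rw [← h2, pow_orderOf_eq_one]
      rw [pow_two] at h3
      have h4 : h * (w * h * w) = 1 := by rw [← h3]; group
      exact eq_inv_of_mul_eq_one_right h4
    · intro h2
      apply orderOf_eq_prime
      · rw [pow_two]
        calc h * w * (h * w) = h * (w * h * w) := by group
          _ = 1 := by rw [h2, mul_inv_cancel]
      · intro h1
        apply hwH
        have h5 : w = h⁻¹ := eq_inv_of_mul_eq_one_right h1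
        rw [h5]
        exact (NS S).inv_mem hh
  have hjcard : ∀ w : G, orderOf w = 2 → w ∉ NS S →
      Nat.card {d : G // d ∈ NS S ∧ w * d * w = d⁻¹} = qm1 S := by
    intro w hw2 hwH
    rw [← hcoset w hwH]
    exact Nat.card_congr (Equiv.subtypeEquivRight
      (fun d => and_congr_right (fun hd => (hiff w hw2 hwH d hd).symm)))
  -- the involution `v` of `H w` with `v t0 v = w s w`
  have hv : ∀ w : G, orderOf w = 2 → w ∉ NS S → ∀ s : G, s ∈ S → orderOf s = 2 →
      ∃ v : G, orderOf v = 2 ∧ v * t0 * v = w * s * w ∧ v * w ∈ NS S := by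
    intro w hw2 hwH s hsS hs2
    have hwsq : w * w = 1 := by rw [← pow_two, ← hw2, pow_orderOf_eq_one]
    have hwinv : w⁻¹ = w := inv_eq_of_mul_eq_one_right hwsq
    have ht' : orderOf (w * s * w) = 2 := by
      have h1 := orderOf_conj_mul w s
      rw [hwinv] at h1
      rw [h1]
      exact hs2
    have ht'H : w * s * w ∉ NS S := by
      intro hmem
      have hS' : w * s * w ∈ (S : Subgroup G) := l1.inv_mem _ hmem ht'
      apply hwH
      apply l1.ti w s hsS (by intro h1; rw [h1, orderOf_one] at hs2; omega)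
      rw [hwinv]
      exact hS'
    obtain ⟨k, hk⟩ := l2.odd t0 (w * s * w) ht0S ht02 ht' ht'H
    obtain ⟨t', ht'def⟩ : ∃ t' : G, t' = w * s * w := ⟨_, rfl⟩
    rw [← ht'def] at ht' ht'H hk
    have ht'sq : t' * t' = 1 := by rw [← pow_two, ← ht', pow_orderOf_eq_one]
    have ht'inv : t'⁻¹ = t' := inv_eq_of_mul_eq_one_right ht'sq
    obtain ⟨r, hr⟩ : ∃ r : G, r = t0 * t' := ⟨_, rfl⟩
    rw [← hr] at hk
    have hr1 : r ^ (2 * k + 1) = 1 := by rw [← hk, pow_orderOf_eq_one]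
    have hinv : t0 * r * t0 = r⁻¹ := by
      rw [hr, mul_inv_rev, ht0inv, ht'inv, ← mul_assoc, ht0sq, one_mul]
    have hinvk : ∀ n : ℕ, t0 * r ^ n * t0 = (r ^ n)⁻¹ := by
      intro n
      induction n with
      | zero => simp [ht0sq]
      | succ n ih =>
        have e1 : t0 * r ^ (n + 1) * t0 = (t0 * r ^ n * t0) * (t0 * r * t0) := by
          have e2 : (t0 * r ^ n * t0) * (t0 * r * t0) = t0 * r ^ n * (t0 * t0) * r * t0 := by
            group
          rw [e2, ht0sq, pow_succ]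
          group
        rw [e1, ih, hinv, pow_succ', mul_inv_rev]
    have hvsq : (t0 * r ^ (k + 1)) * (t0 * r ^ (k + 1)) = 1 := by
      calc (t0 * r ^ (k + 1)) * (t0 * r ^ (k + 1))
          = (t0 * r ^ (k + 1) * t0) * r ^ (k + 1) := by group
        _ = 1 := by rw [hinvk, inv_mul_cancel]
    have hvt : (t0 * r ^ (k + 1)) * t0 * (t0 * r ^ (k + 1)) = t' := by
      calc (t0 * r ^ (k + 1)) * t0 * (t0 * r ^ (k + 1))
          = t0 * r ^ (k + 1) * (t0 * t0) * r ^ (k + 1) := by group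
        _ = t0 * (r ^ (k + 1) * r ^ (k + 1)) := by rw [ht0sq, mul_one, mul_assoc]
        _ = t0 * (r ^ (2 * k + 1) * r) := by
          rw [← pow_add, ← pow_succ]
          congr 2
          omega
        _ = t0 * r := by rw [hr1, one_mul]
        _ = t' := by rw [hr, ← mul_assoc, ht0sq, one_mul]
    have hv1 : t0 * r ^ (k + 1) ≠ 1 := by
      intro h1
      rw [h1, one_mul, mul_one] at hvt
      apply ht'H
      rw [← hvt]
      exact ht0H
    have hvinv : (t0 * r ^ (k + 1))⁻¹ = t0 * r ^ (k + 1) := inv_eq_of_mul_eq_one_right hvsq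
    refine ⟨t0 * r ^ (k + 1), orderOf_eq_prime (by rw [pow_two]; exact hvsq) hv1,
      by rw [hvt, ht'def], ?_⟩
    apply l1.ti (t0 * r ^ (k + 1) * w) t0 ht0S (by intro h1; rw [h1, orderOf_one] at ht02; omega)
    have e3 : (t0 * r ^ (k + 1) * w)⁻¹ * t0 * (t0 * r ^ (k + 1) * w) = s := by
      calc (t0 * r ^ (k + 1) * w)⁻¹ * t0 * (t0 * r ^ (k + 1) * w)
          = w⁻¹ * ((t0 * r ^ (k + 1))⁻¹ * t0 * (t0 * r ^ (k + 1))) * w := by group
        _ = w * ((t0 * r ^ (k + 1)) * t0 * (t0 * r ^ (k + 1))) * w := by rw [hwinv, hvinv]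
        _ = w * (w * s * w) * w := by rw [hvt, ht'def]
        _ = (w * w) * s * (w * w) := by group
        _ = s := by rw [hwsq, one_mul, mul_one]
    rw [e3]
    exact hsS
  -- an involution `u` of `H w` is determined by `u t0 u`
  have hkey : ∀ w : G, orderOf w = 2 → w ∉ NS S → ∀ u u' : G, orderOf u = 2 → orderOf u' = 2 →
      u * w ∈ NS S → u' * w ∈ NS S → u * t0 * u = u' * t0 * u' → u = u' := by
    intro w hw2 hwH
    have hwsq : w * w = 1 := by rw [← pow_two, ← hw2, pow_orderOf_eq_one]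
    choose v hv2 hvt hvH using
      (fun s : {s : G // s ∈ S ∧ orderOf s = 2} => hv w hw2 hwH s.1 s.2.1 s.2.2)
    let φ : {s : G // s ∈ S ∧ orderOf s = 2} → {h : G // h ∈ NS S ∧ orderOf (h * w) = 2} :=
      fun s => ⟨v s * w, hvH s, by rw [mul_assoc, hwsq, mul_one]; exact hv2 s⟩
    have hφinj : Function.Injective φ := by
      intro s s' hss
      have h1 : v s * w = v s' * w := congrArg Subtype.val hss
      have h2 : v s = v s' := mul_right_cancel h1
      have h3 : w * s.1 * w = w * s'.1 * w := by rw [← hvt s, ← hvt s', h2]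
      apply Subtype.ext
      exact mul_left_cancel (mul_right_cancel h3)
    have hφbij : Function.Bijective φ :=
      hφinj.bijective_of_nat_card_le (by rw [hcoset w hwH]; exact le_of_eq rfl)
    intro u u' hu2 hu'2 huH hu'H hutu
    obtain ⟨s, hs⟩ := hφbij.2 ⟨u * w, huH, by rw [mul_assoc, hwsq, mul_one]; exact hu2⟩
    obtain ⟨s', hs'⟩ := hφbij.2 ⟨u' * w, hu'H, by rw [mul_assoc, hwsq, mul_one]; exact hu'2⟩
    have e1 : v s = u := mul_right_cancel (congrArg Subtype.val hs)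
    have e2 : v s' = u' := mul_right_cancel (congrArg Subtype.val hs')
    have h3 : w * s.1 * w = w * s'.1 * w := by rw [← hvt s, ← hvt s', e1, e2, hutu]
    have h4 : s = s' := Subtype.ext (mul_left_cancel (mul_right_cancel h3))
    rw [← e1, ← e2, h4]
  have hinj : ∀ w : G, orderOf w = 2 → w ∉ NS S → ∀ d d' : G, d ∈ NS S → d' ∈ NS S →
      w * d * w = d⁻¹ → w * d' * w = d'⁻¹ → d' * d⁻¹ ∈ CS S → d = d' := by
    intro w hw2 hwH d d' hd hd' hwd hwd' hc
    have hwsq : w * w = 1 := by rw [← pow_two, ← hw2, pow_orderOf_eq_one]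
    have hu2 : orderOf (d * w) = 2 := (hiff w hw2 hwH d hd).2 hwd
    have hu'2 : orderOf (d' * w) = 2 := (hiff w hw2 hwH d' hd').2 hwd'
    have huH : d * w * w ∈ NS S := by rw [mul_assoc, hwsq, mul_one]; exact hd
    have hu'H : d' * w * w ∈ NS S := by rw [mul_assoc, hwsq, mul_one]; exact hd'
    have hct : (d' * d⁻¹) * t0 = t0 * (d' * d⁻¹) := (mem_centralizer_iff.1 hc t0 ht0S).symm
    have hdw : ∀ x : G, w * x * w = x⁻¹ → (x * w) * t0 * (x * w) = w * (x⁻¹ * t0 * x) * w := by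
      intro x hx
      have e : x * w = w * x⁻¹ := by
        rw [← hx, ← mul_assoc, ← mul_assoc, hwsq, one_mul]
      calc x * w * t0 * (x * w) = (w * x⁻¹) * t0 * (x * w) := by rw [e]
        _ = w * (x⁻¹ * t0 * x) * w := by group
    have hconj : d'⁻¹ * t0 * d' = d⁻¹ * t0 * d := by
      calc d'⁻¹ * t0 * d' = d⁻¹ * ((d' * d⁻¹)⁻¹ * (t0 * (d' * d⁻¹))) * d := by group
        _ = d⁻¹ * ((d' * d⁻¹)⁻¹ * ((d' * d⁻¹) * t0)) * d := by rw [hct]
        _ = d⁻¹ * t0 * d := by group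
    have h6 := hkey w hw2 hwH (d * w) (d' * w) hu2 hu'2 huH hu'H
      (by rw [hdw d hwd, hdw d' hwd', hconj])
    exact mul_right_cancel h6
  have htransv : ∀ w : G, orderOf w = 2 → w ∉ NS S → ∀ h : G, h ∈ NS S →
      ∃ d ∈ NS S, w * d * w = d⁻¹ ∧ h * d⁻¹ ∈ CS S := by
    intro w hw2 hwH h hh
    let K : Subgroup ↥(NS S) := (CS S).subgroupOf (NS S)
    have hKcard : Nat.card K = Nat.card (CS S) :=
      Nat.card_congr (Subgroup.subgroupOfEquivOfLe l1.cle).toEquiv
    have hKpos : 0 < Nat.card K := Nat.card_pos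
    have hq : Nat.card (↥(NS S) ⧸ K) = qm1 S := by
      have h1 := Subgroup.card_eq_card_quotient_mul_card_subgroup K
      rw [hcardN, hKcard, mul_comm] at h1
      exact (Nat.eq_of_mul_eq_mul_right (hKcard ▸ hKpos) h1).symm
    let ψ : {d : G // d ∈ NS S ∧ w * d * w = d⁻¹} → ↥(NS S) ⧸ K :=
      fun d => QuotientGroup.mk ((⟨d.1, d.2.1⟩ : ↥(NS S))⁻¹)
    have hψinj : Function.Injective ψ := by
      intro d d' hdd
      have h1 : ((⟨d.1, d.2.1⟩ : ↥(NS S))⁻¹)⁻¹ * ((⟨d'.1, d'.2.1⟩ : ↥(NS S))⁻¹) ∈ K :=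
        QuotientGroup.eq.1 hdd
      rw [Subgroup.mem_subgroupOf] at h1
      have h2 : d.1 * d'.1⁻¹ ∈ CS S := by simpa using h1
      have h3 : d'.1 * d.1⁻¹ ∈ CS S := by
        have h4 := (CS S).inv_mem h2
        simpa using h4
      exact Subtype.ext (hinj w hw2 hwH d.1 d'.1 d.2.1 d'.2.1 d.2.2 d'.2.2 h3)
    have hψbij : Function.Bijective ψ :=
      hψinj.bijective_of_nat_card_le (by rw [hq, hjcard w hw2 hwH])
    obtain ⟨d, hd⟩ := hψbij.2 (QuotientGroup.mk ((⟨h, hh⟩ : ↥(NS S))⁻¹))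
    refine ⟨d.1, d.2.1, d.2.2, ?_⟩
    have h1 : ((⟨d.1, d.2.1⟩ : ↥(NS S))⁻¹)⁻¹ * ((⟨h, hh⟩ : ↥(NS S))⁻¹) ∈ K :=
      QuotientGroup.eq.1 hd
    rw [Subgroup.mem_subgroupOf] at h1
    have h2 : d.1 * h⁻¹ ∈ CS S := by simpa using h1
    have h4 := (CS S).inv_mem h2
    simpa using h4
  exact ⟨hjcard, hinj, htransv⟩

end Cfsg.Agent.Lib.Helper23.AICPL4
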