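import Mathlib
import Cfsg.Prelude.Def_Transfer
import Cfsg.Prelude.Def_Solvable
import Cfsg.Agent.Lib.Helper24.PGroupBasic
import Cfsg.Agent.Lib.Helper78.Fitting
import Cfsg.Agent.S0044
import Cfsg.Agent.S3224

set_option autoImplicit false

open scoped commutatorElement Pointwise

namespace Cfsg.Agent.Lib.Helper23.Dihedral

variable {G : Type*} [Group G]

theorem le_normalizer_of_conj {X N : Subgroup G} (h : ∀ x ∈ X, ∀ y ∈ N, x * y * x⁻¹ ∈ N) :
    X ≤ Subgroup.normalizer (N : Set G) := by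
  intro x hx
  rw [Subgroup.mem_normalizer_iff]
  intro y
  constructor
  · exact h x hx y
  · intro hy
    have := h x⁻¹ (X.inv_mem hx) _ hy
    have e : x⁻¹ * (x * y * x⁻¹) * x⁻¹⁻¹ = y := by group
    rwa [e] at this

theorem card_lt_of_lt' [Finite G] {H K : Subgroup G} (h : H < K) : Nat.card H < Nat.card K := by
  by_contra hcon
  push Not at hcon
  exact h.ne (Subgroup.eq_of_le_of_card_ge h.le hcon)

/-- Simultaneous eigenvectors: an elementary abelian `2`-group `A` acting on an abelian section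
`W / Z` (with `Z` central in `W`) has an invariant subgroup `M` strictly above `Z` on which every
element of `A` acts, modulo `Z`, as the identity or as inversion. -/
theorem exists_homogeneous [Finite G] {A Z W : Subgroup G}
    (hAc : ∀ a ∈ A, ∀ b ∈ A, a * b = b * a) (hA2 : ∀ a ∈ A, a * a = 1)
    (hZW : Z ≤ W) (hne : Z ≠ W)
    (hAZ : ∀ a ∈ A, ∀ z ∈ Z, a * z * a⁻¹ ∈ Z) (hAW : ∀ a ∈ A, ∀ w ∈ W, a * w * a⁻¹ ∈ W)
    (hcen : ∀ z ∈ Z, ∀ w ∈ W, z * w = w * z)
    (hcomm : ∀ w ∈ W, ∀ w' ∈ W, w * w' * w⁻¹ * w'⁻¹ ∈ Z) :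
    ∃ M : Subgroup G, Z ≤ M ∧ M ≤ W ∧ M ≠ Z ∧ (∀ a ∈ A, ∀ w ∈ M, a * w * a⁻¹ ∈ M) ∧
      ∀ a ∈ A, (∀ w ∈ M, a * w * a⁻¹ * w⁻¹ ∈ Z) ∨ (∀ w ∈ M, a * w * a⁻¹ * w ∈ Z) := by
  classical
  let Pred : Subgroup G → Prop := fun M =>
    Z ≤ M ∧ M ≤ W ∧ M ≠ Z ∧ ∀ a ∈ A, ∀ w ∈ M, a * w * a⁻¹ ∈ M
  have hW : Pred W := ⟨hZW, le_rfl, fun h => hne h.symm, hAW⟩
  have hnonempty : Nonempty {M : Subgroup G // Pred M} := ⟨⟨W, hW⟩⟩
  obtain ⟨⟨M, hM⟩, hmin⟩ :=
    Finite.exists_min (fun M : {M : Subgroup G // Pred M} => Nat.card (M : Subgroup G))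
  obtain ⟨hZM, hMW, hMZ, hAM⟩ := hM
  refine ⟨M, hZM, hMW, hMZ, hAM, fun a ha => ?_⟩
  let Mp : Subgroup G :=
    { carrier := {w | w ∈ M ∧ a * w * a⁻¹ * w⁻¹ ∈ Z}
      one_mem' := ⟨M.one_mem, by simp⟩
      mul_mem' := by
        rintro w w' ⟨hw, hwz⟩ ⟨hw', hwz'⟩
        refine ⟨M.mul_mem hw hw', ?_⟩
        have h1 : a * (w * w') * a⁻¹ * (w * w')⁻¹ =
            (a * w * a⁻¹ * w⁻¹) * (w * (a * w' * a⁻¹ * w'⁻¹) * w⁻¹) := by group
        have h2 : w * (a * w' * a⁻¹ * w'⁻¹) * w⁻¹ = a * w' * a⁻¹ * w'⁻¹ := by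
          have := hcen _ hwz' w (hMW hw)
          rw [← this]; group
        rw [h1, h2]
        exact Z.mul_mem hwz hwz'
      inv_mem' := by
        rintro w ⟨hw, hwz⟩
        refine ⟨M.inv_mem hw, ?_⟩
        have h1 : a * w⁻¹ * a⁻¹ * w⁻¹⁻¹ = w⁻¹ * (a * w * a⁻¹ * w⁻¹)⁻¹ * w := by group
        have h2 : w⁻¹ * (a * w * a⁻¹ * w⁻¹)⁻¹ * w = (a * w * a⁻¹ * w⁻¹)⁻¹ := by
          have := hcen _ (Z.inv_mem hwz) w (hMW hw)
          rw [mul_assoc, this]; group
        rw [h1, h2]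
        exact Z.inv_mem hwz }
  have hMpM : Mp ≤ M := fun w hw => hw.1
  have hZMp : Z ≤ Mp := fun z hz => ⟨hZM hz, Z.mul_mem (hAZ a ha z hz) (Z.inv_mem hz)⟩
  have hAMp : ∀ c ∈ A, ∀ w ∈ Mp, c * w * c⁻¹ ∈ Mp := by
    rintro c hc w ⟨hw, hwz⟩
    refine ⟨hAM c hc w hw, ?_⟩
    have hac : a * c = c * a := hAc a ha c hc
    have hac' : c⁻¹ * a⁻¹ = a⁻¹ * c⁻¹ := by rw [← mul_inv_rev, ← mul_inv_rev, hac]
    have h1 : a * (c * w * c⁻¹) * a⁻¹ * (c * w * c⁻¹)⁻¹ = c * (a * w * a⁻¹ * w⁻¹) * c⁻¹ := by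
      calc a * (c * w * c⁻¹) * a⁻¹ * (c * w * c⁻¹)⁻¹
          = (a * c) * w * (c⁻¹ * a⁻¹) * (c * w * c⁻¹)⁻¹ := by group
        _ = (c * a) * w * (a⁻¹ * c⁻¹) * (c * w * c⁻¹)⁻¹ := by rw [hac, hac']
        _ = c * (a * w * a⁻¹ * w⁻¹) * c⁻¹ := by group
    show a * (c * w * c⁻¹) * a⁻¹ * (c * w * c⁻¹)⁻¹ ∈ Z
    rw [h1]
    exact hAZ c hc _ hwz
  by_cases hMpZ : Mp = Z
  · right
    intro w hw
    have hu : a * w * a⁻¹ * w ∈ Mp := by
      refine ⟨M.mul_mem (hAM a ha w hw) hw, ?_⟩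
      have hv : a * (a * w * a⁻¹) * a⁻¹ = w := by
        calc a * (a * w * a⁻¹) * a⁻¹ = (a * a) * w * (a * a)⁻¹ := by group
          _ = w := by rw [hA2 a ha]; group
      have h1 : a * (a * w * a⁻¹ * w) * a⁻¹ * (a * w * a⁻¹ * w)⁻¹ =
          (a * (a * w * a⁻¹) * a⁻¹) * (a * w * a⁻¹) * w⁻¹ * (a * w * a⁻¹)⁻¹ := by group
      show a * (a * w * a⁻¹ * w) * a⁻¹ * (a * w * a⁻¹ * w)⁻¹ ∈ Z
      rw [h1, hv]
      exact hcomm w (hMW hw) _ (hMW (hAM a ha w hw))
    exact hMpZ ▸ hu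
  · left
    have hcard := hmin ⟨Mp, hZMp, hMpM.trans hMW, hMpZ, hAMp⟩
    have hMpeq : Mp = M := Subgroup.eq_of_le_of_card_ge hMpM hcard
    intro w hw
    have : w ∈ Mp := hMpeq ▸ hw
    exact this.2

/-- Coprime action: an element centralizing a normal subgroup `U` of `L` together with `C_L(U)`
centralizes `L`. -/
theorem centralizes_of_centralizes_normal [Finite G] {L U : Subgroup G} {b : G}
    (hb : b ∈ Subgroup.normalizer (L : Set G)) (hcop : (orderOf b).Coprime (Nat.card L))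
    (hLU : ∀ l ∈ L, ∀ u ∈ U, l * u * l⁻¹ ∈ U)
    (hbU : ∀ u ∈ U, b * u = u * b)
    (hbC : ∀ c ∈ L, (∀ u ∈ U, u * c = c * u) → c * b = b * c) :
    ∀ l ∈ L, l * b = b * l := by
  intro l hl
  refine Cfsg.Agent.Lib.Helper24.Coprime.commute_of_commutator_commute hb hcop hl ?_
  refine hbC _ (Cfsg.Agent.Lib.Helper24.Coprime.commutator_mem_of_mem_normalizer hl hb) ?_
  intro u hu
  have h1 : l⁻¹ * u * l ∈ U := by
    have := hLU l⁻¹ (L.inv_mem hl) u hu
    rwa [inv_inv] at this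
  exact Cfsg.Agent.Lib.Helper24.Coprime.commutator_commute_of_commute u l b (hbU u hu)
    (hbU _ h1)

/-- In an invariant abelian subgroup on which `b` acts nontrivially there is a nontrivial element
inverted by `b` on which every element of `A` acts as the identity or as inversion. -/
theorem exists_inverted [Finite G] {A U : Subgroup G}
    (hAc : ∀ a ∈ A, ∀ b ∈ A, a * b = b * a) (hA2 : ∀ a ∈ A, a * a = 1)
    (hUc : ∀ u ∈ U, ∀ v ∈ U, u * v = v * u)
    (hAU : ∀ a ∈ A, ∀ u ∈ U, a * u * a⁻¹ ∈ U)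
    {b u : G} (hb : b ∈ A) (hu : u ∈ U) (hbu : b * u ≠ u * b) :
    ∃ x ∈ U, x ≠ 1 ∧ b * x * b⁻¹ = x⁻¹ ∧ ∀ a ∈ A, a * x * a⁻¹ = x ∨ a * x * a⁻¹ = x⁻¹ := by
  let W : Subgroup G :=
    { carrier := {w | w ∈ U ∧ b * w * b⁻¹ = w⁻¹}
      one_mem' := ⟨U.one_mem, by simp⟩
      mul_mem' := by
        rintro w w' ⟨hw, hwb⟩ ⟨hw', hwb'⟩
        refine ⟨U.mul_mem hw hw', ?_⟩
        have : b * (w * w') * b⁻¹ = (b * w * b⁻¹) * (b * w' * b⁻¹) := by group
        rw [this, hwb, hwb', mul_inv_rev, hUc _ (U.inv_mem hw') _ (U.inv_mem hw)]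
      inv_mem' := by
        rintro w ⟨hw, hwb⟩
        refine ⟨U.inv_mem hw, ?_⟩
        have : b * w⁻¹ * b⁻¹ = (b * w * b⁻¹)⁻¹ := by group
        rw [this, hwb] }
  have hWU : W ≤ U := fun w hw => hw.1
  have hWb : ∀ w ∈ W, b * w * b⁻¹ = w⁻¹ := fun w hw => hw.2
  have hAW : ∀ a ∈ A, ∀ w ∈ W, a * w * a⁻¹ ∈ W := by
    rintro c hc w ⟨hw, hwb⟩
    refine ⟨hAU c hc w hw, ?_⟩
    have hbc : b * c = c * b := hAc b hb c hc
    have hbc' : c⁻¹ * b⁻¹ = b⁻¹ * c⁻¹ := by rw [← mul_inv_rev, ← mul_inv_rev, hbc]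
    calc b * (c * w * c⁻¹) * b⁻¹ = (b * c) * w * (c⁻¹ * b⁻¹) := by group
      _ = (c * b) * w * (b⁻¹ * c⁻¹) := by rw [hbc, hbc']
      _ = c * (b * w * b⁻¹) * c⁻¹ := by group
      _ = (c * w * c⁻¹)⁻¹ := by rw [hwb]; group
  have hv : u⁻¹ * (b * u * b⁻¹) ∈ W := by
    refine ⟨U.mul_mem (U.inv_mem hu) (hAU b hb u hu), ?_⟩
    have hbb : b * (b * u * b⁻¹) * b⁻¹ = u := by
      calc b * (b * u * b⁻¹) * b⁻¹ = (b * b) * u * (b * b)⁻¹ := by group
        _ = u := by rw [hA2 b hb]; group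
    calc b * (u⁻¹ * (b * u * b⁻¹)) * b⁻¹ = (b * u * b⁻¹)⁻¹ * (b * (b * u * b⁻¹) * b⁻¹) := by group
      _ = (b * u * b⁻¹)⁻¹ * u := by rw [hbb]
      _ = (u⁻¹ * (b * u * b⁻¹))⁻¹ := by group
  have hv1 : u⁻¹ * (b * u * b⁻¹) ≠ 1 := by
    intro h
    apply hbu
    have h2 : b * u * b⁻¹ = u := by
      have := congrArg (fun t => u * t) h
      simpa using this
    calc b * u = (b * u * b⁻¹) * b := by group
      _ = u * b := by rw [h2]
  have hWbot : (⊥ : Subgroup G) ≠ W := by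
    intro h
    have : u⁻¹ * (b * u * b⁻¹) ∈ (⊥ : Subgroup G) := h ▸ hv
    exact hv1 (Subgroup.mem_bot.mp this)
  obtain ⟨M, -, hMW, hMne, hAM, hhom⟩ := exists_homogeneous hAc hA2
    (bot_le : (⊥ : Subgroup G) ≤ W) hWbot
    (fun a _ z hz => by rw [Subgroup.mem_bot] at hz ⊢; rw [hz]; group)
    hAW
    (fun z hz w _ => by rw [Subgroup.mem_bot.mp hz]; group)
    (fun w hw w' hw' => by
      rw [Subgroup.mem_bot]
      have := hUc w (hWU hw) w' (hWU hw')
      rw [this]; group)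
  obtain ⟨x, hxM, hx1⟩ : ∃ x ∈ M, x ≠ 1 := by
    by_contra hcon
    push Not at hcon
    exact hMne ((Subgroup.eq_bot_iff_forall M).mpr hcon)
  refine ⟨x, hWU (hMW hxM), hx1, hWb x (hMW hxM), fun a ha => ?_⟩
  rcases hhom a ha with h | h
  · left
    have := Subgroup.mem_bot.mp (h x hxM)
    exact mul_inv_eq_one.mp this
  · right
    have := Subgroup.mem_bot.mp (h x hxM)
    exact mul_eq_one_iff_eq_inv.mp this

/-- If `b ∈ B` inverts `x ≠ x⁻¹` and every element of `B` fixes or inverts `x`, then `C_B(x)` has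
index `2` in `B`. -/
theorem card_eq_two_mul_card_inf_centralizer [Finite G] {B : Subgroup G} {x b : G} (hb : b ∈ B)
    (hbx : b * x * b⁻¹ = x⁻¹) (hx : x⁻¹ ≠ x)
    (hB : ∀ c ∈ B, c * x * c⁻¹ = x ∨ c * x * c⁻¹ = x⁻¹) :
    Nat.card B = 2 * Nat.card (B ⊓ Subgroup.centralizer {x} : Subgroup G) := by
  have hmem : ∀ g : B, g ∈ (B ⊓ Subgroup.centralizer {x}).subgroupOf B ↔
      (g : G) * x * (g : G)⁻¹ = x := by
    intro g
    rw [Subgroup.mem_subgroupOf, Subgroup.mem_inf, Subgroup.mem_centralizer_iff]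
    simp only [Set.mem_singleton_iff, forall_eq]
    constructor
    · rintro ⟨-, h⟩; rw [← h]; group
    · intro h
      refine ⟨g.2, ?_⟩
      calc x * (g : G) = ((g : G) * x * (g : G)⁻¹) * g := by rw [h]
        _ = g * x := by group
  have hidx : ((B ⊓ Subgroup.centralizer {x}).subgroupOf B).index = 2 := by
    rw [Subgroup.index_eq_two_iff]
    refine ⟨⟨b, hb⟩, fun c => ?_⟩
    rw [hmem, hmem]
    have hcb : ((c * ⟨b, hb⟩ : B) : G) * x * ((c * ⟨b, hb⟩ : B) : G)⁻¹ =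
        (c : G) * x⁻¹ * (c : G)⁻¹ := by
      simp only [Subgroup.coe_mul]
      calc (c : G) * b * x * ((c : G) * b)⁻¹ = (c : G) * (b * x * b⁻¹) * (c : G)⁻¹ := by group
        _ = _ := by rw [hbx]
    rw [hcb]
    have hinv : (c : G) * x⁻¹ * (c : G)⁻¹ = ((c : G) * x * (c : G)⁻¹)⁻¹ := by group
    rcases hB c c.2 with h | h
    · refine Or.inr ⟨h, ?_⟩
      rw [hinv, h]; exact hx
    · refine Or.inl ⟨?_, ?_⟩
      · rw [hinv, h, inv_inv]
      · rw [h]; exact hx
  have h1 := Subgroup.card_mul_index ((B ⊓ Subgroup.centralizer {x}).subgroupOf B)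
  rw [hidx] at h1
  have h2 : Nat.card ((B ⊓ Subgroup.centralizer {x}).subgroupOf B) =
      Nat.card (B ⊓ Subgroup.centralizer {x} : Subgroup G) :=
    Nat.card_congr (Subgroup.subgroupOfEquivOfLe inf_le_left).toEquiv
  rw [h2] at h1
  omega

theorem coprime_of_mul_self {b : G} (hb : b * b = 1) {n : ℕ} (hn : Odd n) :
    (orderOf b).Coprime n := by
  have h2 : orderOf b ∣ 2 := orderOf_dvd_of_pow_eq_one (by rw [pow_two]; exact hb)
  exact Nat.Coprime.coprime_dvd_left h2 (Nat.coprime_two_left.mpr hn)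

theorem inv_ne_self_of_odd [Finite G] {L : Subgroup G} (hL : Odd (Nat.card L)) {x : G}
    (hx : x ∈ L) (hx1 : x ≠ 1) : x⁻¹ ≠ x := by
  intro h
  apply hx1
  have hxx : x * x = 1 := by
    calc x * x = x⁻¹ * x := by rw [h]
      _ = 1 := by group
  have h1 : (orderOf x).Coprime (Nat.card L) := coprime_of_mul_self hxx hL
  have h2 : orderOf x ∣ Nat.card L := Subgroup.orderOf_dvd_natCard L hx
  have h3 : orderOf x = 1 := Nat.Coprime.eq_one_of_dvd h1 h2
  exact orderOf_eq_one_iff.mp h3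

theorem conj_mem_of_sup_zpowers {Z : Subgroup G} {k g : G}
    (hZ : ∀ z ∈ Z, g * z * g⁻¹ ∈ Z ⊔ Subgroup.zpowers k)
    (hk : g * k * g⁻¹ ∈ Z ⊔ Subgroup.zpowers k) :
    ∀ u ∈ Z ⊔ Subgroup.zpowers k, g * u * g⁻¹ ∈ Z ⊔ Subgroup.zpowers k := by
  have h : Z ⊔ Subgroup.zpowers k ≤
      (Z ⊔ Subgroup.zpowers k).comap (MulAut.conj g).toMonoidHom := by
    apply sup_le
    · intro z hz
      rw [Subgroup.mem_comap]
      simpa using hZ z hz
    · rw [Subgroup.zpowers_le, Subgroup.mem_comap]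
      simpa using hk
  intro u hu
  simpa using h hu

/-- A nilpotent group `L` acted on by an elementary abelian `2`-group `A` has an `A`-invariant
abelian normal subgroup which is either `L` itself or not central. -/
theorem exists_abelian_normal [Finite G] {A L : Subgroup G}
    (hAc : ∀ a ∈ A, ∀ b ∈ A, a * b = b * a) (hA2 : ∀ a ∈ A, a * a = 1)
    (hAL : ∀ a ∈ A, ∀ l ∈ L, a * l * a⁻¹ ∈ L) (hLn : Group.IsNilpotent L) :
    ∃ U : Subgroup G, U ≤ L ∧ (∀ u ∈ U, ∀ v ∈ U, u * v = v * u) ∧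
      (∀ l ∈ L, ∀ u ∈ U, l * u * l⁻¹ ∈ U) ∧ (∀ a ∈ A, ∀ u ∈ U, a * u * a⁻¹ ∈ U) ∧
      (U = L ∨ ∃ k ∈ U, ∃ l ∈ L, k * l ≠ l * k) := by
  by_cases hab : ∀ u ∈ L, ∀ v ∈ L, u * v = v * u
  · exact ⟨L, le_rfl, hab, fun l hl u hu => L.mul_mem (L.mul_mem hl hu) (L.inv_mem hl), hAL,
      Or.inl rfl⟩
  obtain ⟨Z, hZdef⟩ : ∃ Z : Subgroup G, Z = L ⊓ Subgroup.centralizer (L : Set G) := ⟨_, rfl⟩
  have hZmem : ∀ z, z ∈ Z ↔ z ∈ L ∧ ∀ h ∈ L, h * z = z * h := by
    intro z
    rw [hZdef, Subgroup.mem_inf, Subgroup.mem_centralizer_iff]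
    rfl
  have hZL : Z ≤ L := fun z hz => ((hZmem z).mp hz).1
  have hZcen : ∀ z ∈ Z, ∀ l ∈ L, l * z * l⁻¹ = z := by
    intro z hz l hl
    rw [((hZmem z).mp hz).2 l hl]; group
  have hAZ : ∀ a ∈ A, ∀ z ∈ Z, a * z * a⁻¹ ∈ Z := by
    intro a ha z hz
    rw [hZmem]
    refine ⟨hAL a ha z (hZL hz), fun h hh => ?_⟩
    have h1 : a⁻¹ * h * a ∈ L := by
      have := hAL a⁻¹ (A.inv_mem ha) h hh
      rwa [inv_inv] at this
    have h2 := ((hZmem z).mp hz).2 _ h1
    calc h * (a * z * a⁻¹) = a * ((a⁻¹ * h * a) * z) * a⁻¹ := by group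
      _ = a * (z * (a⁻¹ * h * a)) * a⁻¹ := by rw [h2]
      _ = a * z * a⁻¹ * h := by group
  let W : Subgroup G :=
    { carrier := {k | k ∈ L ∧ ∀ t ∈ L, k * t * k⁻¹ * t⁻¹ ∈ Z}
      one_mem' := ⟨L.one_mem, fun t _ => by simp⟩
      mul_mem' := by
        rintro k k' ⟨hk, hkz⟩ ⟨hk', hkz'⟩
        refine ⟨L.mul_mem hk hk', fun t ht => ?_⟩
        have h1 : (k * k') * t * (k * k')⁻¹ * t⁻¹ =
            (k * (k' * t * k'⁻¹ * t⁻¹) * k⁻¹) * (k * t * k⁻¹ * t⁻¹) := by group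
        rw [h1, hZcen _ (hkz' t ht) k hk]
        exact Z.mul_mem (hkz' t ht) (hkz t ht)
      inv_mem' := by
        rintro k ⟨hk, hkz⟩
        refine ⟨L.inv_mem hk, fun t ht => ?_⟩
        have h1 : k⁻¹ * t * k⁻¹⁻¹ * t⁻¹ = k⁻¹ * (k * t * k⁻¹ * t⁻¹)⁻¹ * k⁻¹⁻¹ := by group
        rw [h1, hZcen _ (Z.inv_mem (hkz t ht)) k⁻¹ (L.inv_mem hk)]
        exact Z.inv_mem (hkz t ht) }
  have hWL : W ≤ L := fun k hk => hk.1
  have hWZ : ∀ k ∈ W, ∀ t ∈ L, k * t * k⁻¹ * t⁻¹ ∈ Z := fun k hk => hk.2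
  have hZW : Z ≤ W := by
    intro z hz
    refine ⟨hZL hz, fun t ht => ?_⟩
    have h1 : z * t * z⁻¹ * t⁻¹ = 1 := by
      rw [← ((hZmem z).mp hz).2 t ht]; group
    rw [h1]; exact Z.one_mem
  have hLZ : ¬ L ≤ Z := by
    intro h
    apply hab
    intro u hu v hv
    exact (((hZmem u).mp (h hu)).2 v hv).symm
  have hne : Z ≠ W := by
    obtain ⟨k, hkL, hkZ, hk⟩ := Cfsg.Agent.Lib.Helper24.Alperin.exists_commutator_mem hLn
      (le_refl L) Subgroup.le_normalizer hLZ
    intro h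
    apply hkZ
    rw [h]
    exact ⟨hkL, fun t ht => hk t ht⟩
  have hAW : ∀ a ∈ A, ∀ w ∈ W, a * w * a⁻¹ ∈ W := by
    rintro a ha k ⟨hk, hkz⟩
    refine ⟨hAL a ha k hk, fun t ht => ?_⟩
    have h1 : a⁻¹ * t * a ∈ L := by
      have := hAL a⁻¹ (A.inv_mem ha) t ht
      rwa [inv_inv] at this
    have h2 : (a * k * a⁻¹) * t * (a * k * a⁻¹)⁻¹ * t⁻¹ =
        a * (k * (a⁻¹ * t * a) * k⁻¹ * (a⁻¹ * t * a)⁻¹) * a⁻¹ := by group
    rw [h2]
    exact hAZ a ha _ (hkz _ h1)
  obtain ⟨M, hZM, hMW, hMne, hAM, hhom⟩ := exists_homogeneous hAc hA2 hZW hne hAZ hAW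
    (fun z hz w hw => (((hZmem z).mp hz).2 w (hWL hw)).symm)
    (fun w hw w' hw' => hWZ w hw w' (hWL hw'))
  obtain ⟨k, hkM, hkZ⟩ : ∃ k ∈ M, k ∉ Z := by
    by_contra hcon
    push Not at hcon
    exact hMne (le_antisymm hcon hZM)
  have hkW : k ∈ W := hMW hkM
  have hkL : k ∈ L := hWL hkW
  have hZU : Z ≤ Z ⊔ Subgroup.zpowers k := le_sup_left
  have hkU : k ∈ Z ⊔ Subgroup.zpowers k :=
    (le_sup_right : Subgroup.zpowers k ≤ Z ⊔ Subgroup.zpowers k) (Subgroup.mem_zpowers k)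
  refine ⟨Z ⊔ Subgroup.zpowers k, sup_le hZL ((Subgroup.zpowers_le).mpr hkL), ?_, ?_, ?_, ?_⟩
  · refine Cfsg.Agent.Lib.Helper24.Alperin.comm_of_mem_sup_zpowers ?_ ?_
    · intro a ha b hb
      exact (((hZmem a).mp ha).2 b (hZL hb)).symm
    · intro a ha
      exact (((hZmem a).mp ha).2 k hkL).symm
  · intro l hl
    refine conj_mem_of_sup_zpowers ?_ ?_
    · intro z hz
      rw [hZcen z hz l hl]; exact hZU hz
    · have h1 : l * k * l⁻¹ = (k * l * k⁻¹ * l⁻¹)⁻¹ * k := by group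
      rw [h1]
      exact Subgroup.mul_mem _ (hZU (Z.inv_mem (hWZ k hkW l hl))) hkU
  · intro a ha
    refine conj_mem_of_sup_zpowers ?_ ?_
    · intro z hz
      exact hZU (hAZ a ha z hz)
    · rcases hhom a ha with h | h
      · have h1 : a * k * a⁻¹ = (a * k * a⁻¹ * k⁻¹) * k := by group
        rw [h1]
        exact Subgroup.mul_mem _ (hZU (h k hkM)) hkU
      · have h1 : a * k * a⁻¹ = (a * k * a⁻¹ * k) * k⁻¹ := by group
        rw [h1]
        exact Subgroup.mul_mem _ (hZU (h k hkM)) (Subgroup.inv_mem _ hkU)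
  · right
    have h1 : ¬ ∀ h ∈ L, h * k = k * h := fun h => hkZ ((hZmem k).mpr ⟨hkL, h⟩)
    push Not at h1
    obtain ⟨l, hl, hlk⟩ := h1
    exact ⟨k, hkU, l, hl, fun h => hlk h.symm⟩

/-- A system of commuting elements `ys i` of `L`, each inverted by an element `bs i` of `B`
that centralizes the others. -/
structure Sys (A B L : Subgroup G) (m : ℕ) (ys bs : Fin m → G) : Prop where
  mem : ∀ i, ys i ∈ L
  ne_one : ∀ i, ys i ≠ 1
  hom : ∀ i, ∀ a ∈ A, a * ys i * a⁻¹ = ys i ∨ a * ys i * a⁻¹ = (ys i)⁻¹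
  comm : ∀ i j, ys i * ys j = ys j * ys i
  bmem : ∀ i, bs i ∈ B
  inv : ∀ i, bs i * ys i * (bs i)⁻¹ = (ys i)⁻¹
  cen : ∀ i j, i ≠ j → bs i * ys j = ys j * bs i
  ker : ∀ b ∈ B, (∀ i, b * ys i = ys i * b) → ∀ l ∈ L, l * b = b * l
  card : Nat.card B =
    2 ^ m * Nat.card (B ⊓ Subgroup.centralizer (Set.range ys) : Subgroup G)

theorem mem_inf_centralizer_range {B : Subgroup G} {ι : Type*} (ys : ι → G) (g : G) :
    g ∈ B ⊓ Subgroup.centralizer (Set.range ys) ↔ g ∈ B ∧ ∀ i, g * ys i = ys i * g := by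
  rw [Subgroup.mem_inf, Subgroup.mem_centralizer_iff]
  constructor
  · rintro ⟨h1, h2⟩; exact ⟨h1, fun i => (h2 _ ⟨i, rfl⟩).symm⟩
  · rintro ⟨h1, h2⟩; exact ⟨h1, by rintro _ ⟨i, rfl⟩; exact (h2 i).symm⟩

theorem mem_inf_centralizer_singleton {B : Subgroup G} (x g : G) :
    g ∈ B ⊓ Subgroup.centralizer {x} ↔ g ∈ B ∧ g * x = x * g := by
  rw [Subgroup.mem_inf, Subgroup.mem_centralizer_iff]
  simp only [Set.mem_singleton_iff, forall_eq]
  constructor
  · rintro ⟨h1, h2⟩; exact ⟨h1, h2.symm⟩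
  · rintro ⟨h1, h2⟩; exact ⟨h1, h2.symm⟩

theorem mem_inf_centralizer {B U : Subgroup G} (g : G) :
    g ∈ B ⊓ Subgroup.centralizer (U : Set G) ↔ g ∈ B ∧ ∀ u ∈ U, u * g = g * u := by
  rw [Subgroup.mem_inf, Subgroup.mem_centralizer_iff]
  rfl

omit [Group G] in
theorem forall_cons {m : ℕ} {x : G} {ys : Fin m → G} {P : G → Prop} (h0 : P x)
    (hs : ∀ i, P (ys i)) : ∀ i, P ((Fin.cons x ys : Fin (m + 1) → G) i) := by
  intro i
  induction i using Fin.cases with
  | zero => simpa using h0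
  | succ j => simpa using hs j

theorem exists_adjust {A B B' L' : Subgroup G} {m : ℕ} {ys bs : Fin m → G}
    (hS : Sys A B' L' m ys bs) (hBA : B ≤ A) (hB'B : B' ≤ B) {x b : G} (hb : b ∈ B)
    (hbx : b * x * b⁻¹ = x⁻¹) (hB'x : ∀ c ∈ B', c * x = x * c) :
    ∃ b₁ ∈ B, b₁ * x * b₁⁻¹ = x⁻¹ ∧ ∀ i, b₁ * ys i = ys i * b₁ := by
  classical
  have key : ∀ s : Finset (Fin m),
      ∃ b₁ ∈ B, b₁ * x * b₁⁻¹ = x⁻¹ ∧ ∀ i ∈ s, b₁ * ys i = ys i * b₁ := by
    intro s
    induction s using Finset.induction_on with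
    | empty => exact ⟨b, hb, hbx, by simp⟩
    | insert i s his ih =>
      obtain ⟨b₁, hb₁, hb₁x, hb₁s⟩ := ih
      rcases hS.hom i b₁ (hBA hb₁) with h | h
      · have hi : b₁ * ys i = ys i * b₁ := by
          calc b₁ * ys i = (b₁ * ys i * b₁⁻¹) * b₁ := by group
            _ = ys i * b₁ := by rw [h]
        refine ⟨b₁, hb₁, hb₁x, fun j hj => ?_⟩
        rcases Finset.mem_insert.mp hj with rfl | hj
        · exact hi
        · exact hb₁s j hj
      · have hbi : bs i * x * (bs i)⁻¹ = x := by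
          rw [hB'x _ (hS.bmem i)]; group
        have h1 : b₁ * bs i * ys i * (b₁ * bs i)⁻¹ = ys i := by
          calc b₁ * bs i * ys i * (b₁ * bs i)⁻¹ = b₁ * (bs i * ys i * (bs i)⁻¹) * b₁⁻¹ := by group
            _ = (b₁ * ys i * b₁⁻¹)⁻¹ := by rw [hS.inv i]; group
            _ = ys i := by rw [h, inv_inv]
        have hi : b₁ * bs i * ys i = ys i * (b₁ * bs i) := by
          calc b₁ * bs i * ys i = (b₁ * bs i * ys i * (b₁ * bs i)⁻¹) * (b₁ * bs i) := by group
            _ = ys i * (b₁ * bs i) := by rw [h1]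
        refine ⟨b₁ * bs i, B.mul_mem hb₁ (hB'B (hS.bmem i)), ?_, fun j hj => ?_⟩
        · calc b₁ * bs i * x * (b₁ * bs i)⁻¹ = b₁ * (bs i * x * (bs i)⁻¹) * b₁⁻¹ := by group
            _ = x⁻¹ := by rw [hbi, hb₁x]
        · rcases Finset.mem_insert.mp hj with rfl | hj
          · exact hi
          · have hij : i ≠ j := fun h => his (h ▸ hj)
            rw [mul_assoc, hS.cen i j hij, ← mul_assoc, hb₁s j hj, mul_assoc]
  obtain ⟨b₁, h1, h2, h3⟩ := key Finset.univ
  exact ⟨b₁, h1, h2, fun i => h3 i (Finset.mem_univ i)⟩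

theorem isNilpotent_of_le {H K : Subgroup G} (hK : Group.IsNilpotent K) (h : H ≤ K) :
    Group.IsNilpotent H :=
  Group.nilpotent_of_mulEquiv (Subgroup.subgroupOfEquivOfLe h)

theorem odd_card_of_le [Finite G] {H K : Subgroup G} (hK : Odd (Nat.card K)) (h : H ≤ K) :
    Odd (Nat.card H) :=
  Odd.of_dvd_nat hK (Subgroup.card_dvd_of_le h)

/-- An element that fixes or inverts `x` under conjugation normalizes `C(x)`. -/
theorem conj_mem_centralizer_singleton {a x l : G} (ha : a * x * a⁻¹ = x ∨ a * x * a⁻¹ = x⁻¹)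
    (hl : l * x = x * l) : (a * l * a⁻¹) * x = x * (a * l * a⁻¹) := by
  have h1 : (a * l * a⁻¹) * (a * x * a⁻¹) = (a * x * a⁻¹) * (a * l * a⁻¹) := by
    calc (a * l * a⁻¹) * (a * x * a⁻¹) = a * (l * x) * a⁻¹ := by group
      _ = a * (x * l) * a⁻¹ := by rw [hl]
      _ = (a * x * a⁻¹) * (a * l * a⁻¹) := by group
  rcases ha with h | h
  · rwa [h] at h1
  · rw [h] at h1
    -- (a l a⁻¹) commutes with x⁻¹, hence with x
    calc (a * l * a⁻¹) * x = x * (x⁻¹ * (a * l * a⁻¹)) * x := by group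
      _ = x * ((a * l * a⁻¹) * x⁻¹) * x := by rw [h1]
      _ = x * (a * l * a⁻¹) := by group

theorem exists_sys [Finite G] {A : Subgroup G}
    (hAc : ∀ a ∈ A, ∀ b ∈ A, a * b = b * a) (hA2 : ∀ a ∈ A, a * a = 1) :
    ∀ (n : ℕ) (B L : Subgroup G), Nat.card B + Nat.card L ≤ n → B ≤ A →
      (∀ a ∈ A, ∀ l ∈ L, a * l * a⁻¹ ∈ L) → Group.IsNilpotent L → Odd (Nat.card L) →
      ∃ (m : ℕ) (ys bs : Fin m → G), Sys A B L m ys bs := by
  intro n
  induction n with
  | zero =>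
    intro B L h
    exfalso
    have := Nat.card_pos (α := B)
    omega
  | succ n ih =>
    intro B L hn hBA hAL hLn hLodd
    have hnorm : ∀ b ∈ B, b ∈ Subgroup.normalizer (L : Set G) :=
      fun b hb => le_normalizer_of_conj hAL (hBA hb)
    have hcop : ∀ b ∈ B, (orderOf b).Coprime (Nat.card L) :=
      fun b hb => coprime_of_mul_self (hA2 b (hBA hb)) hLodd
    by_cases hBL : ∀ b ∈ B, ∀ l ∈ L, l * b = b * l
    · refine ⟨0, Fin.elim0, Fin.elim0, ?_⟩
      refine ⟨fun i => i.elim0, fun i => i.elim0, fun i => i.elim0, fun i => i.elim0,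
        fun i => i.elim0, fun i => i.elim0, fun i => i.elim0, fun b hb _ => hBL b hb, ?_⟩
      have : B ⊓ Subgroup.centralizer (Set.range (Fin.elim0 : Fin 0 → G)) = B := by
        ext g
        rw [mem_inf_centralizer_range]
        exact ⟨fun h => h.1, fun h => ⟨h, fun i => i.elim0⟩⟩
      rw [this]; simp
    obtain ⟨U, hUL, hUc, hLU, hAU, hUalt⟩ := exists_abelian_normal hAc hA2 hAL hLn
    by_cases hBU : ∀ b ∈ B, ∀ u ∈ U, b * u = u * b
    · -- `B` centralizes `U`: pass to `C_L(U)`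
      have hUne : U ≠ L := by
        rintro rfl
        exact hBL (fun b hb l hl => (hBU b hb l hl).symm)
      obtain ⟨k, hkU, l, hlL, hkl⟩ := hUalt.resolve_left hUne
      obtain ⟨L', hL'def⟩ : ∃ L' : Subgroup G, L' = L ⊓ Subgroup.centralizer (U : Set G) :=
        ⟨_, rfl⟩
      have hL'mem : ∀ g, g ∈ L' ↔ g ∈ L ∧ ∀ u ∈ U, u * g = g * u := by
        intro g; rw [hL'def]; exact mem_inf_centralizer g
      have hL'L : L' ≤ L := fun g hg => ((hL'mem g).mp hg).1
      have hlt : Nat.card L' < Nat.card L := by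
        apply card_lt_of_lt'
        refine lt_of_le_of_ne hL'L (fun h => ?_)
        have : l ∈ L' := h ▸ hlL
        exact hkl (((hL'mem l).mp this).2 k hkU)
      have hAL' : ∀ a ∈ A, ∀ l ∈ L', a * l * a⁻¹ ∈ L' := by
        intro a ha g hg
        rw [hL'mem] at hg ⊢
        refine ⟨hAL a ha g hg.1, fun u hu => ?_⟩
        have h1 : a⁻¹ * u * a ∈ U := by
          have := hAU a⁻¹ (A.inv_mem ha) u hu
          rwa [inv_inv] at this
        have h2 := hg.2 _ h1
        calc u * (a * g * a⁻¹) = a * ((a⁻¹ * u * a) * g) * a⁻¹ := by group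
          _ = a * (g * (a⁻¹ * u * a)) * a⁻¹ := by rw [h2]
          _ = a * g * a⁻¹ * u := by group
      obtain ⟨m, ys, bs, hS⟩ := ih B L' (by omega) hBA hAL' (isNilpotent_of_le hLn hL'L)
        (odd_card_of_le hLodd hL'L)
      refine ⟨m, ys, bs, ?_⟩
      refine ⟨fun i => hL'L (hS.mem i), hS.ne_one, hS.hom, hS.comm, hS.bmem, hS.inv, hS.cen,
        ?_, hS.card⟩
      intro b hb hby
      have h1 := hS.ker b hb hby
      exact centralizes_of_centralizes_normal (hnorm b hb) (hcop b hb) hLU (hBU b hb)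
        (fun c hc hcu => h1 c ((hL'mem c).mpr ⟨hc, hcu⟩))
    · -- some `b ∈ B` acts nontrivially on `U`
      push Not at hBU
      obtain ⟨b, hb, u, hu, hbu⟩ := hBU
      obtain ⟨x, hxU, hx1, hbx, hxhom⟩ := exists_inverted hAc hA2 hUc hAU (hBA hb) hu hbu
      have hxinv : x⁻¹ ≠ x := inv_ne_self_of_odd hLodd (hUL hxU) hx1
      obtain ⟨B', hB'def⟩ : ∃ B' : Subgroup G, B' = B ⊓ Subgroup.centralizer {x} := ⟨_, rfl⟩
      obtain ⟨L', hL'def⟩ : ∃ L' : Subgroup G, L' = L ⊓ Subgroup.centralizer {x} := ⟨_, rfl⟩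
      have hB'mem : ∀ g, g ∈ B' ↔ g ∈ B ∧ g * x = x * g := by
        intro g; rw [hB'def]; exact mem_inf_centralizer_singleton x g
      have hL'mem : ∀ g, g ∈ L' ↔ g ∈ L ∧ g * x = x * g := by
        intro g; rw [hL'def]; exact mem_inf_centralizer_singleton x g
      have hB'B : B' ≤ B := fun g hg => ((hB'mem g).mp hg).1
      have hL'L : L' ≤ L := fun g hg => ((hL'mem g).mp hg).1
      have hB'lt : Nat.card B' < Nat.card B := by
        apply card_lt_of_lt'
        refine lt_of_le_of_ne hB'B (fun h => ?_)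
        have h1 : b ∈ B' := h ▸ hb
        have h2 := ((hB'mem b).mp h1).2
        apply hxinv
        rw [← hbx, h2]; group
      have hL'le : Nat.card L' ≤ Nat.card L := Subgroup.card_le_of_le hL'L
      have hAL' : ∀ a ∈ A, ∀ l ∈ L', a * l * a⁻¹ ∈ L' := by
        intro a ha g hg
        rw [hL'mem] at hg ⊢
        exact ⟨hAL a ha g hg.1, conj_mem_centralizer_singleton (hxhom a ha) hg.2⟩
      obtain ⟨m, ys, bs, hS⟩ := ih B' L' (by omega) (hB'B.trans hBA) hAL'
        (isNilpotent_of_le hLn hL'L) (odd_card_of_le hLodd hL'L)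
      obtain ⟨b₁, hb₁B, hb₁x, hb₁y⟩ := exists_adjust hS hBA hB'B hb hbx
        (fun c hc => ((hB'mem c).mp hc).2)
      have hyx : ∀ i, ys i * x = x * ys i := fun i => ((hL'mem _).mp (hS.mem i)).2
      have hbsx : ∀ i, bs i * x = x * bs i := fun i => ((hB'mem _).mp (hS.bmem i)).2
      refine ⟨m + 1, Fin.cons x ys, Fin.cons b₁ bs, ?_⟩
      refine ⟨forall_cons (P := fun y => y ∈ L) (hUL hxU) (fun i => hL'L (hS.mem i)), forall_cons (P := fun y => y ≠ 1) hx1 hS.ne_one,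
        forall_cons (P := fun y => ∀ a ∈ A, a * y * a⁻¹ = y ∨ a * y * a⁻¹ = y⁻¹) hxhom hS.hom,
        ?_, ?_, ?_, ?_, ?_, ?_⟩
      · intro i j
        induction i using Fin.cases with
        | zero =>
          induction j using Fin.cases with
          | zero => rfl
          | succ j => simpa using (hyx j).symm
        | succ i =>
          induction j using Fin.cases with
          | zero => simpa using hyx i
          | succ j => simpa using hS.comm i j
      · intro i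
        induction i using Fin.cases with
        | zero => simpa using hb₁B
        | succ i => simpa using hB'B (hS.bmem i)
      · intro i
        induction i using Fin.cases with
        | zero => simpa using hb₁x
        | succ i => simpa using hS.inv i
      · intro i j hij
        induction i using Fin.cases with
        | zero =>
          induction j using Fin.cases with
          | zero => exact absurd rfl hij
          | succ j => simpa using hb₁y j
        | succ i =>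
          induction j using Fin.cases with
          | zero => simpa using hbsx i
          | succ j =>
            have hij' : i ≠ j := fun h => hij (congrArg Fin.succ h)
            simpa using hS.cen i j hij'
      · intro b' hb' hall
        have h0 : b' * x = x * b' := by simpa using hall 0
        have hs : ∀ i, b' * ys i = ys i * b' := fun i => by simpa using hall i.succ
        have h1 := hS.ker b' ((hB'mem b').mpr ⟨hb', h0⟩) hs
        exact centralizes_of_centralizes_normal (hnorm b' hb') (hcop b' hb') hLU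
          (fun u hu => (h1 u ((hL'mem u).mpr ⟨hUL hu, hUc u hu x hxU⟩)).symm)
          (fun c hc hcu => h1 c ((hL'mem c).mpr ⟨hc, (hcu x hxU).symm⟩))
      · have e1 := card_eq_two_mul_card_inf_centralizer hb hbx hxinv
          (fun c hc => hxhom c (hBA hc))
        have e2 := hS.card
        have e3 : B' ⊓ Subgroup.centralizer (Set.range ys) =
            B ⊓ Subgroup.centralizer (Set.range (Fin.cons x ys : Fin (m + 1) → G)) := by
          ext g
          rw [mem_inf_centralizer_range, mem_inf_centralizer_range, Fin.forall_fin_succ, hB'mem]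
          simp only [Fin.cons_zero, Fin.cons_succ]
          tauto
        rw [← hB'def] at e1
        rw [e1, e2, e3, pow_succ]
        ring

/-- Conjugation by an element of the normalizer, as an automorphism of the subgroup. -/
def conjEquiv {L : Subgroup G} {a : G} (ha : a ∈ Subgroup.normalizer (L : Set G)) : ↥L ≃* ↥L where
  toFun l := ⟨a * l * a⁻¹, (Subgroup.mem_normalizer_iff.mp ha l).mp l.2⟩
  invFun l := ⟨a⁻¹ * l * a, by
    have := (Subgroup.mem_normalizer_iff.mp (Subgroup.inv_mem _ ha) l).mp l.2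
    rwa [inv_inv] at this⟩
  left_inv l := by ext; simp [mul_assoc]
  right_inv l := by ext; simp [mul_assoc]
  map_mul' l l' := by ext; simp [mul_assoc]

theorem fitting_map_le {H K : Type*} [Group H] [Group K] [Finite H] (e : H ≃* K) :
    (Cfsg.fittingSubgroup H).map e.toMonoidHom ≤ Cfsg.fittingSubgroup K := by
  have hn : ((Cfsg.fittingSubgroup H).map e.toMonoidHom).Normal :=
    Subgroup.Normal.map Cfsg.Agent.Lib.Helper78.Fitting.fitting_normal _ e.surjective
  have hnil : Group.IsNilpotent (Cfsg.fittingSubgroup H) :=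
    Cfsg.Agent.Lib.Helper78.Fitting.fitting_isNilpotent
  exact Cfsg.Agent.Lib.Helper78.Fitting.le_fitting hn
    (Group.nilpotent_of_mulEquiv
      ((Cfsg.fittingSubgroup H).equivMapOfInjective e.toMonoidHom e.injective))

/-- The Fitting subgroup of a finite solvable subgroup `L`, as a subgroup of the ambient group. -/
theorem exists_fitting_image [Finite G] (L : Subgroup G) (hLs : Group.IsSolvable ↥L) :
    ∃ F : Subgroup G, F ≤ L ∧ Group.IsNilpotent F ∧ (∀ l ∈ L, ∀ f ∈ F, l * f * l⁻¹ ∈ F) ∧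
      (∀ a ∈ Subgroup.normalizer (L : Set G), ∀ f ∈ F, a * f * a⁻¹ ∈ F) ∧
      (∀ c ∈ L, (∀ f ∈ F, f * c = c * f) → c ∈ F) := by
  have hnil : Group.IsNilpotent (Cfsg.fittingSubgroup ↥L) :=
    Cfsg.Agent.Lib.Helper78.Fitting.fitting_isNilpotent
  have hnorm : (Cfsg.fittingSubgroup ↥L).Normal :=
    Cfsg.Agent.Lib.Helper78.Fitting.fitting_normal
  refine ⟨(Cfsg.fittingSubgroup ↥L).map L.subtype, Subgroup.map_subtype_le _, ?_, ?_, ?_, ?_⟩
  · exact Group.nilpotent_of_mulEquiv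
      ((Cfsg.fittingSubgroup ↥L).equivMapOfInjective L.subtype L.subtype_injective)
  · rintro l hl _ ⟨f, hf, rfl⟩
    exact ⟨⟨l, hl⟩ * f * ⟨l, hl⟩⁻¹, hnorm.conj_mem f hf ⟨l, hl⟩, rfl⟩
  · rintro a ha _ ⟨f, hf, rfl⟩
    have h1 : (conjEquiv ha) f ∈ Cfsg.fittingSubgroup ↥L :=
      fitting_map_le (conjEquiv ha) ⟨f, hf, rfl⟩
    exact ⟨conjEquiv ha f, h1, rfl⟩
  · intro c hc hcf
    have h1 : (⟨c, hc⟩ : L) ∈ Subgroup.centralizer (Cfsg.fittingSubgroup ↥L : Set L) := by
      refine Subgroup.mem_centralizer_iff.mpr ?_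
      intro f hf
      apply Subtype.ext
      exact hcf f ⟨f, hf, rfl⟩
    exact ⟨⟨c, hc⟩, Cfsg.Agent.S0044.result h1, rfl⟩

/-- An involution inverting an element of odd order generates with it a dihedral group. -/
theorem dihedral_of_inverts [Finite G] {b y : G} (hb2 : b * b = 1) (hby : b * y * b⁻¹ = y⁻¹)
    (hy : Odd (orderOf y)) (hy1 : y ≠ 1) :
    Nat.card (Subgroup.zpowers b) = 2 ∧ 3 ≤ orderOf y ∧
      Nonempty (↥(Subgroup.zpowers b ⊔ Subgroup.zpowers y) ≃* DihedralGroup (orderOf y)) := by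
  have hypos : 0 < orderOf y := orderOf_pos y
  have hyne1 : orderOf y ≠ 1 := fun h => hy1 (orderOf_eq_one_iff.mp h)
  have h3 : 3 ≤ orderOf y := by
    obtain ⟨k, hk⟩ := hy
    omega
  have hb1 : b ≠ 1 := by
    rintro rfl
    have h1 : y * y = 1 := by
      have : y = y⁻¹ := by simpa using hby
      calc y * y = y⁻¹ * y := by rw [← this]
        _ = 1 := by group
    have h2 : orderOf y ∣ 2 := orderOf_dvd_of_pow_eq_one (by rw [pow_two]; exact h1)
    have h4 := Nat.le_of_dvd (by norm_num) h2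
    omega
  have hob : orderOf b = 2 := orderOf_eq_prime (by rw [pow_two]; exact hb2) hb1
  have hcb : Nat.card (Subgroup.zpowers b) = 2 := by rw [Nat.card_zpowers, hob]
  refine ⟨hcb, h3, ?_⟩
  have hconj : ∀ h ∈ Subgroup.zpowers y, b * h * b⁻¹ ∈ Subgroup.zpowers y := by
    intro h hh
    obtain ⟨k, rfl⟩ := Subgroup.mem_zpowers_iff.mp hh
    rw [← conj_zpow, hby]
    exact Subgroup.zpow_mem _ (Subgroup.inv_mem _ (Subgroup.mem_zpowers y)) k
  have hbn : b ∈ Subgroup.normalizer (Subgroup.zpowers y : Set G) := by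
    rw [Subgroup.mem_normalizer_iff]
    intro h
    refine ⟨hconj h, fun hh => ?_⟩
    have := hconj _ hh
    have e : b * (b * h * b⁻¹) * b⁻¹ = h := by
      calc b * (b * h * b⁻¹) * b⁻¹ = (b * b) * h * (b * b)⁻¹ := by group
        _ = h := by rw [hb2]; group
    rwa [e] at this
  have hle : Subgroup.zpowers b ≤ Subgroup.normalizer (Subgroup.zpowers y : Set G) :=
    (Subgroup.zpowers_le).mpr hbn
  have hbS : b ∈ Subgroup.zpowers b ⊔ Subgroup.zpowers y :=
    (le_sup_left : Subgroup.zpowers b ≤ _) (Subgroup.mem_zpowers b)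
  have hyS : y ∈ Subgroup.zpowers b ⊔ Subgroup.zpowers y :=
    (le_sup_right : Subgroup.zpowers y ≤ _) (Subgroup.mem_zpowers y)
  have hcard : Nat.card ↥(Subgroup.zpowers b ⊔ Subgroup.zpowers y) = 2 * orderOf y := by
    apply le_antisymm
    · have h1 : Nat.card ↥(Subgroup.zpowers b ⊔ Subgroup.zpowers y) =
          Nat.card ↥((Subgroup.zpowers b : Set G) * (Subgroup.zpowers y : Set G)) := by
        rw [← Subgroup.coe_mul_of_left_le_normalizer_right _ _ hle]
        rfl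
      rw [h1]
      refine le_trans Set.natCard_mul_le ?_
      have e1 : Nat.card ↥(Subgroup.zpowers b : Set G) = 2 := hcb
      have e2 : Nat.card ↥(Subgroup.zpowers y : Set G) = orderOf y := Nat.card_zpowers y
      rw [e1, e2]
    · have d1 : 2 ∣ Nat.card ↥(Subgroup.zpowers b ⊔ Subgroup.zpowers y) := by
        rw [← hcb]; exact Subgroup.card_dvd_of_le le_sup_left
      have d2 : orderOf y ∣ Nat.card ↥(Subgroup.zpowers b ⊔ Subgroup.zpowers y) := by
        rw [← Nat.card_zpowers y]; exact Subgroup.card_dvd_of_le le_sup_right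
      have hco : Nat.Coprime 2 (orderOf y) := Nat.coprime_two_left.mpr hy
      exact Nat.le_of_dvd Nat.card_pos (Nat.Coprime.mul_dvd_of_dvd_of_dvd hco d1 d2)
  refine Cfsg.Agent.S3224.dihedral_iso (S := ↥(Subgroup.zpowers b ⊔ Subgroup.zpowers y))
    ⟨y, hyS⟩ ⟨b, hbS⟩ (orderOf y) (Subgroup.orderOf_mk y hyS) hypos.ne' hcard
    (Subtype.ext hb2) ?_ (Subtype.ext hby)
  intro hmem
  have h1 := orderOf_dvd_of_mem_zpowers hmem
  rw [Subgroup.orderOf_mk, Subgroup.orderOf_mk, hob] at h1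
  obtain ⟨k, hk⟩ := hy
  omega

theorem commute_of_sup_zpowers {b y b' y' : G} (h1 : b * b' = b' * b) (h2 : b * y' = y' * b)
    (h3 : y * b' = b' * y) (h4 : y * y' = y' * y) :
    ∀ x ∈ Subgroup.zpowers b ⊔ Subgroup.zpowers y,
      ∀ z ∈ Subgroup.zpowers b' ⊔ Subgroup.zpowers y', x * z = z * x := by
  have hc : ∀ g : G, g * b' = b' * g → g * y' = y' * g →
      Subgroup.zpowers b' ⊔ Subgroup.zpowers y' ≤ Subgroup.centralizer {g} := by
    intro g hb' hy'
    apply sup_le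
    · rw [Subgroup.zpowers_le, Subgroup.mem_centralizer_iff]
      simp only [Set.mem_singleton_iff, forall_eq]
      exact hb'
    · rw [Subgroup.zpowers_le, Subgroup.mem_centralizer_iff]
      simp only [Set.mem_singleton_iff, forall_eq]
      exact hy'
  have hc2 : Subgroup.zpowers b ⊔ Subgroup.zpowers y ≤
      Subgroup.centralizer ((Subgroup.zpowers b' ⊔ Subgroup.zpowers y' : Subgroup G) : Set G) := by
    apply sup_le
    · rw [Subgroup.zpowers_le]
      refine Subgroup.mem_centralizer_iff.mpr ?_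
      intro z hz
      exact (Subgroup.mem_centralizer_iff.mp (hc b h1 h2 hz) b rfl).symm
    · rw [Subgroup.zpowers_le]
      refine Subgroup.mem_centralizer_iff.mpr ?_
      intro z hz
      exact (Subgroup.mem_centralizer_iff.mp (hc y h3 h4 hz) y rfl).symm
  intro x hx z hz
  exact (Subgroup.mem_centralizer_iff.mp (hc2 hx) z hz).symm

/-- Thompson's dihedral lemma. -/
theorem thompson_dihedral [Finite G] (L A : Subgroup G) (hLs : Group.IsSolvable ↥L)
    (hLodd : Odd (Nat.card ↥L)) (hA : Cfsg.IsElementaryAbelian 2 A) (d : ℕ)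
    (hAd : Nat.card ↥A = 2 ^ d) (hAL : A ≤ Subgroup.normalizer (L : Set G))
    (hfaith : A ⊓ Subgroup.centralizer (L : Set G) = ⊥) :
    ∃ (Ai : Fin d → Subgroup G) (Li : Fin d → Subgroup G) (n : Fin d → ℕ),
      (∀ i, Ai i ≤ A ∧ Nat.card ↥(Ai i) = 2 ∧ Li i ≤ L ∧ Odd (n i) ∧ 3 ≤ n i ∧
        Nonempty (↥(Ai i ⊔ Li i) ≃* DihedralGroup (n i))) ∧
      (⨆ i, Ai i) = A ∧
      ∀ i j, i ≠ j → ∀ x ∈ Ai i ⊔ Li i, ∀ y ∈ Ai j ⊔ Li j, x * y = y * x := by
  classical
  have hAc : ∀ a ∈ A, ∀ b ∈ A, a * b = b * a := by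
    intro a ha b hb
    have := (isMulCommutative_iff.mp hA.1) ⟨a, ha⟩ ⟨b, hb⟩
    exact congrArg Subtype.val this
  have hA2 : ∀ a ∈ A, a * a = 1 := fun a ha => by rw [← pow_two]; exact hA.2 a ha
  obtain ⟨F, hFL, hFn, hLF, hNF, hCF⟩ := exists_fitting_image L hLs
  have hAF : ∀ a ∈ A, ∀ f ∈ F, a * f * a⁻¹ ∈ F := fun a ha => hNF a (hAL ha)
  obtain ⟨m, ys, bs, hS⟩ := exists_sys hAc hA2 _ A F le_rfl le_rfl hAF hFn
    (odd_card_of_le hLodd hFL)
  have hker : ∀ a ∈ A, (∀ i, a * ys i = ys i * a) → a = 1 := by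
    intro a ha hall
    have h1 := hS.ker a ha hall
    have h2 : ∀ l ∈ L, l * a = a * l :=
      centralizes_of_centralizes_normal (hAL ha) (coprime_of_mul_self (hA2 a ha) hLodd) hLF
        (fun f hf => (h1 f hf).symm) (fun c hc hcf => h1 c (hCF c hc hcf))
    have h3 : a ∈ A ⊓ Subgroup.centralizer (L : Set G) := (mem_inf_centralizer a).mpr ⟨ha, h2⟩
    rw [hfaith] at h3
    exact Subgroup.mem_bot.mp h3
  have hbot : A ⊓ Subgroup.centralizer (Set.range ys) = ⊥ := by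
    rw [Subgroup.eq_bot_iff_forall]
    intro g hg
    rw [mem_inf_centralizer_range] at hg
    exact hker g hg.1 hg.2
  have hmd : m = d := by
    have := hS.card
    rw [hbot, Subgroup.card_bot, mul_one, hAd] at this
    exact (Nat.pow_right_injective (le_refl 2) this).symm
  subst hmd
  have hodd : ∀ i, Odd (orderOf (ys i)) := fun i =>
    Odd.of_dvd_nat hLodd (Subgroup.orderOf_dvd_natCard L (hFL (hS.mem i)))
  have hdi := fun i => dihedral_of_inverts (hA2 _ (hS.bmem i)) (hS.inv i) (hodd i) (hS.ne_one i)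
  refine ⟨fun i => Subgroup.zpowers (bs i), fun i => Subgroup.zpowers (ys i),
    fun i => orderOf (ys i), fun i => ⟨(Subgroup.zpowers_le).mpr (hS.bmem i), (hdi i).1,
      (Subgroup.zpowers_le).mpr (hFL (hS.mem i)), hodd i, (hdi i).2.1, (hdi i).2.2⟩, ?_, ?_⟩
  · apply le_antisymm
    · exact iSup_le (fun i => (Subgroup.zpowers_le).mpr (hS.bmem i))
    · have key : ∀ s : Finset (Fin m), ∀ a ∈ A, (∀ i, i ∉ s → a * ys i = ys i * a) →
          a ∈ ⨆ i, Subgroup.zpowers (bs i) := by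
        intro s
        induction s using Finset.induction_on with
        | empty =>
          intro a ha h
          rw [hker a ha (fun i => h i (Finset.notMem_empty i))]
          exact Subgroup.one_mem _
        | insert i s his ih =>
          intro a ha h
          rcases hS.hom i a ha with hi | hi
          · apply ih a ha
            intro j hj
            by_cases hji : j = i
            · subst hji
              calc a * ys j = (a * ys j * a⁻¹) * a := by group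
                _ = ys j * a := by rw [hi]
            · exact h j (by simp [hji, hj])
          · have ha' : a * bs i ∈ ⨆ i, Subgroup.zpowers (bs i) := by
              apply ih (a * bs i) (A.mul_mem ha (hS.bmem i))
              intro j hj
              by_cases hji : j = i
              · subst hji
                have h1 : a * bs j * ys j * (a * bs j)⁻¹ = ys j := by
                  calc a * bs j * ys j * (a * bs j)⁻¹
                      = a * (bs j * ys j * (bs j)⁻¹) * a⁻¹ := by group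
                    _ = (a * ys j * a⁻¹)⁻¹ := by rw [hS.inv j]; group
                    _ = ys j := by rw [hi, inv_inv]
                calc a * bs j * ys j = (a * bs j * ys j * (a * bs j)⁻¹) * (a * bs j) := by group
                  _ = ys j * (a * bs j) := by rw [h1]
              · have h1 := h j (by simp [hji, hj])
                rw [mul_assoc, hS.cen i j (Ne.symm hji), ← mul_assoc, h1, mul_assoc]
            have hbi : bs i ∈ ⨆ i, Subgroup.zpowers (bs i) :=
              (le_iSup (fun i => Subgroup.zpowers (bs i)) i) (Subgroup.mem_zpowers _)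
            have e : a = (a * bs i) * bs i := by rw [mul_assoc, hA2 _ (hS.bmem i), mul_one]
            rw [e]
            exact Subgroup.mul_mem _ ha' hbi
      intro a ha
      exact key Finset.univ a ha (fun i hi => absurd (Finset.mem_univ i) hi)
  · intro i j hij
    exact commute_of_sup_zpowers (hAc _ (hS.bmem i) _ (hS.bmem j)) (hS.cen i j hij)
      (hS.cen j i hij.symm).symm (hS.comm i j)

end Cfsg.Agent.Lib.Helper23.Dihedral
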