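import Mathlib
import Cfsg.Agent.Lib.Helper31.ECStmt

/-!
S2860/IMCOMM: the image in `E / (C ∩ E)` of a commutator subgroup.
-/

set_option autoImplicit false

namespace Cfsg.Agent.Lib.Helper23.ECIMCOMM

universe u

open Cfsg Cfsg.Agent.Lib.Helper31.ECStmt

theorem main : Cfsg.Agent.Lib.Helper31.ECStmt.IMCOMM.{u} := by
  intro G _ E C _ A B hA hB
  have hAB : ⁅A, B⁆ ≤ E := by
    rw [Subgroup.commutator_le]
    intro a ha b hb
    rw [commutatorElement_def]
    exact E.mul_mem (E.mul_mem (E.mul_mem (hA ha) (hB hb)) (E.inv_mem (hA ha))) (E.inv_mem (hB hb))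
  have key : (⁅A, B⁆).subgroupOf E = ⁅A.subgroupOf E, B.subgroupOf E⁆ := by
    apply Subgroup.map_injective E.subtype_injective
    rw [Subgroup.map_subgroupOf_eq_of_le hAB, Subgroup.map_commutator,
      Subgroup.map_subgroupOf_eq_of_le hA, Subgroup.map_subgroupOf_eq_of_le hB]
  unfold im
  rw [key, Subgroup.map_commutator]

end Cfsg.Agent.Lib.Helper23.ECIMCOMM
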