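import Mathlib
import Cfsg.Agent.Lib.Helper96.HallAltStmt

/-!
# S2538 piece C2: the primitive case
-/

set_option autoImplicit false

namespace Cfsg.Agent.Lib.Helper23.HAC2

open Equiv Cfsg.Agent.Lib.Helper96.HallSymStmt Cfsg.Agent.Lib.Helper96.HallAltStmt

/-- C2 -/
theorem main : Cfsg.Agent.Lib.Helper96.HallAltStmt.C2' := by
  intro hSYL hJ3 hALPHA hSTH hTRF
  intro Ω _ _ π M h2 hM hprim ⟨p, hp, hp2, hpπ, hpn⟩ ⟨r, hr, hrn, hrπ⟩
  obtain ⟨hMle, hMpi, hMidx⟩ := hM
  have hr2 : r ≠ 2 := fun h => hrπ (h ▸ h2)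
  have hrp : r ≠ p := fun h => hrπ (h ▸ hpπ)
  have hr3 : 3 ≤ r := by
    have := hr.two_le
    omega
  have hp3 : 3 ≤ p := by
    have := hp.two_le
    omega
  have hn5 : 5 ≤ Fintype.card Ω := by
    by_contra hlt
    push Not at hlt
    have hr4 : r ≠ 4 := fun h => by
      rw [h] at hr
      exact absurd hr (by decide)
    have hp4 : p ≠ 4 := fun h => by
      rw [h] at hp
      exact absurd hp (by decide)
    omega
  have : Nontrivial Ω := Fintype.one_lt_card_iff_nontrivial.1 (by omega)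
  have hstar : ∀ q : ℕ, q.Prime → q ≠ 2 → q ∈ π → q ≤ Fintype.card Ω →
      Fintype.card Ω < q + 2 := by
    intro q hq hq2 hqπ hqn
    by_contra hlt
    push Not at hlt
    obtain ⟨g, hgM, hgc, hgs⟩ := hSYL Ω π M ⟨hMle, hMpi, hMidx⟩ q hq hqπ hq2 hqn
    have h3 : 3 ∣ Nat.card ↥M :=
      hJ3 Ω M g hprim hgM hgc (by rw [hgs]; exact hq) (by rw [hgs]; exact hlt)
    have h3π : 3 ∈ π := hMpi 3 Nat.prime_three h3
    obtain ⟨t, htM, htc, hts⟩ :=
      hSYL Ω π M ⟨hMle, hMpi, hMidx⟩ 3 Nat.prime_three h3π (by norm_num) (by omega)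
    have ht3 : t.IsThreeCycle := card_support_eq_three_iff.1 hts
    have hAle : alternatingGroup Ω ≤ M :=
      Equiv.Perm.alternatingGroup_le_of_isPreprimitive_of_isThreeCycle_mem hprim ht3 htM
    have hMA : M = alternatingGroup Ω := le_antisymm hMle hAle
    apply hrπ
    apply hMpi r hr
    rw [hMA]
    have h2A : 2 * Nat.card (alternatingGroup Ω) = (Fintype.card Ω).factorial := by
      rw [two_mul_nat_card_alternatingGroup, Nat.card_perm, Nat.card_eq_fintype_card]
    have hrfact : r ∣ (Fintype.card Ω).factorial := (Nat.Prime.dvd_factorial hr).2 hrn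
    rw [← h2A] at hrfact
    rcases (Nat.Prime.dvd_mul hr).1 hrfact with h | h
    · exact absurd ((Nat.prime_dvd_prime_iff_eq hr Nat.prime_two).1 h) hr2
    · exact h
  by_cases hcase : (Fintype.card Ω).Prime ∧ Fintype.card Ω ∈ π
  · apply hALPHA Ω hcase.1 hn5 π M h2 hcase.2 ⟨hMle, hMpi, hMidx⟩
    intro q hq hqπ hqn
    by_cases hq2 : q = 2
    · exact Or.inl hq2
    · right
      have h1 := hstar q hq hq2 hqπ hqn
      have hqodd : Odd q := hq.odd_of_ne_two hq2
      have hnodd : Odd (Fintype.card Ω) := hcase.1.odd_of_ne_two (by omega)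
      obtain ⟨a, ha⟩ := hqodd
      obtain ⟨b, hb⟩ := hnodd
      omega
  · have hpstar := hstar p hp hp2 hpπ hpn
    have hpn1 : p + 1 = Fintype.card Ω := by
      by_contra hne
      have hpeq : p = Fintype.card Ω := by omega
      exact hcase ⟨hpeq ▸ hp, hpeq ▸ hpπ⟩
    have hp5 : 5 ≤ p := by
      have hp4 : p ≠ 4 := fun h => by
        rw [h] at hp
        exact absurd hp (by decide)
      omega
    obtain ⟨x⟩ : Nonempty Ω := inferInstance
    have htrans : Trans M := by
      intro a b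
      have := hprim.toIsPretransitive
      obtain ⟨g, hg⟩ := MulAction.exists_smul_eq (↥M) a b
      exact ⟨g.1, g.2, hg⟩
    have hst := hSTH Ω π M x ⟨hMle, hMpi, hMidx⟩ htrans
    obtain ⟨M', hM', -⟩ := hTRF Ω π _ x hst
    have hcard' : Fintype.card {y : Ω // y ≠ x} = p := by
      rw [Fintype.card_subtype_compl (fun y => y = x), Fintype.card_subtype_eq]
      omega
    apply hALPHA {y : Ω // y ≠ x} (by rw [hcard']; exact hp) (by rw [hcard']; exact hp5) π M' h2
      (by rw [hcard']; exact hpπ) hM'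
    intro q hq hqπ hqn
    rw [hcard'] at hqn ⊢
    by_cases hq2 : q = 2
    · exact Or.inl hq2
    · right
      have h1 := hstar q hq hq2 hqπ (by omega)
      omega

end Cfsg.Agent.Lib.Helper23.HAC2
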