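import Mathlib
import Cfsg.Agent.Lib.Lead.OrdTypeStmt

set_option autoImplicit false

/-!
helper23: S3998/CNTCONGR: groups with the same order type have the same counts.
-/

namespace Cfsg.Agent.Lib.Helper23.OTCNTCONGR

open Cfsg.Agent.Lib.Lead.OrdTypeStmt

universe u v

theorem main : CntCongr.{u, v} := by
  intro G _ _ H _ _ h t
  have he : ∀ m : ℕ, Nonempty ({g : G // orderOf g = m} ≃ {k : H // orderOf k = m}) :=
    fun m => Finite.card_eq.1 (h m)
  let e : G ≃ H := (Equiv.sigmaFiberEquiv (orderOf : G → ℕ)).symm.trans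
    ((Equiv.sigmaCongrRight (fun m => Classical.choice (he m))).trans
      (Equiv.sigmaFiberEquiv (orderOf : H → ℕ)))
  have hord : ∀ g : G, orderOf (e g) = orderOf g := by
    intro g
    exact (Classical.choice (he (orderOf g)) ⟨g, rfl⟩).2
  unfold cnt
  apply Nat.card_congr
  exact e.subtypeEquiv (fun g => by simp only [rough, Set.mem_ofPred_eq, hord])

end Cfsg.Agent.Lib.Helper23.OTCNTCONGR
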