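import Mathlib
import Cfsg.Agent.Lib.Lead.OrdTypeStmt

set_option autoImplicit false

/-!
helper23: S3998/CNTONE: if all primes of `|X|` are `< t`, only the identity is `t`-rough.
-/

namespace Cfsg.Agent.Lib.Helper23.OTCNTONE

open Cfsg.Agent.Lib.Lead.OrdTypeStmt

universe u

theorem main : CntOne.{u} := by
  intro X _ _ t h
  have hr : rough X t = {1} := by
    ext x
    simp only [rough, Set.mem_setOf_eq, Set.mem_singleton_iff]
    constructor
    · intro hx
      by_contra hx1
      have ho : orderOf x ≠ 1 := fun h1 => hx1 (orderOf_eq_one_iff.1 h1)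
      obtain ⟨q, hq, hqd⟩ := Nat.exists_prime_and_dvd ho
      have hlt := h q hq (hqd.trans (orderOf_dvd_natCard x))
      exact absurd (hx q hq hqd) (not_le.2 hlt)
    · rintro rfl q hq hqd
      rw [orderOf_one] at hqd
      exact absurd (Nat.dvd_one.1 hqd) hq.ne_one
  unfold cnt
  rw [hr]
  simp

end Cfsg.Agent.Lib.Helper23.OTCNTONE
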