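import Mathlib
import Cfsg.Agent.Lib.Helper44.PGStmt
import Cfsg.Agent.Lib.Helper42.SpOrdD
import Cfsg.Agent.Lib.Helper43.SpBasic

/-!
# S2474 piece CNEC4: necessity for `2 * r` in `PSp(2n, q)`
-/

set_option autoImplicit false

namespace Cfsg.Agent.Lib.Helper23.PGCNEC4

open Matrix Polynomial
open Cfsg.Agent.Lib.Helper44.QSpace Cfsg.Agent.Lib.Helper44.OGroup Cfsg.Agent.Lib.Helper44.OMat
open Cfsg.Agent.Lib.Helper44.OExt Cfsg.Agent.Lib.Helper40.RecipPoly
open Cfsg.Agent.Lib.Helper44.BCStmt Cfsg.Agent.Lib.Helper44.PGStmt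

universe u

section blocks

variable {F : Type u} [Field F] {ι : Type} [Fintype ι]

/-- dimension count for block coordinates -/
theorem dim_eq {k₁ k₂ : ℕ} (J : (Fin k₁ ⊕ Fin k₂ → F) ≃ₗ[F] (ι → F)) :
    k₁ + k₂ = Fintype.card ι := by
  have h3 := J.finrank_eq
  rw [Module.finrank_fintype_fun_eq_card, Module.finrank_fintype_fun_eq_card, Fintype.card_sum,
    Fintype.card_fin, Fintype.card_fin] at h3
  exact h3

/-- a nontrivial matrix in block form `(1, T₂)` has a nonzero second block -/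
theorem pos_snd [DecidableEq ι] {k₁ k₂ : ℕ} {T : Matrix ι ι F} {T₂ : Matrix (Fin k₂) (Fin k₂) F}
    {J : (Fin k₁ ⊕ Fin k₂ → F) ≃ₗ[F] (ι → F)}
    (hTJ : ∀ u : Fin k₁ ⊕ Fin k₂ → F,
      T *ᵥ (J u) = J (Sum.elim (u ∘ Sum.inl) (T₂ *ᵥ (u ∘ Sum.inr))))
    (hT : T ≠ 1) : 0 < k₂ := by
  rcases Nat.eq_zero_or_pos k₂ with h0 | h0
  · exfalso
    subst h0
    apply hT
    apply matrix_ext_mulVec
    intro x
    obtain ⟨y, rfl⟩ := J.surjective x
    rw [hTJ, Matrix.one_mulVec]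
    congr 1
    funext i
    rcases i with i | i
    · rfl
    · exact i.elim0
  · exact h0

/-- a fixed vector of a matrix in block form `(1, T₂)`, `T₂` fixed-point-free, lies in the first
block -/
theorem fixed_zero {k₁ k₂ : ℕ} {T : Matrix ι ι F} {T₂ : Matrix (Fin k₂) (Fin k₂) F}
    {J : (Fin k₁ ⊕ Fin k₂ → F) ≃ₗ[F] (ι → F)}
    (hfix : ∀ v : Fin k₂ → F, T₂ *ᵥ v = v → v = 0)
    (hTJ : ∀ u : Fin k₁ ⊕ Fin k₂ → F,
      T *ᵥ (J u) = J (Sum.elim (u ∘ Sum.inl) (T₂ *ᵥ (u ∘ Sum.inr))))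
    (hk : k₁ = 0) (w : ι → F) (hw : T *ᵥ w = w) : w = 0 := by
  subst hk
  obtain ⟨u, rfl⟩ := J.surjective w
  rw [hTJ] at hw
  have h1 := J.injective hw
  have h3 : T₂ *ᵥ (u ∘ Sum.inr) = u ∘ Sum.inr := by
    funext j
    exact congrFun h1 (Sum.inr j)
  have h4 := hfix _ h3
  have h5 : u = 0 := by
    funext i
    rcases i with i | i
    · exact i.elim0
    · exact congrFun h4 i
  rw [h5, map_zero]

end blocks

/-- the Gram-level statement -/
theorem core (hGD : GDecomp.{u}) (hBD : BlockDiag.{u}) (hBF : BlockFacts.{u})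
    (hGBF : GBlockFacts.{u}) (hAE : AltEven.{u}) (hPT : PrimeTor.{u}) (hTB : GTorBound.{u})
    (F : Type u) [Field F] [Fintype F] (p : ℕ) [Fact p.Prime] [CharP F p] (h2 : (2 : F) ≠ 0)
    (ι : Type) [Fintype ι] [DecidableEq ι] (n : ℕ) (hcard : Fintype.card ι = 2 * n)
    (hn : 1 ≤ n)
    (G A : Matrix ι ι F) (hGdet : G.det ≠ 0) (hGalt : Gᵀ = -G) (hA : Aᵀ * G * A = G)
    (r : ℕ) (hr : r.Prime) (hr2 : r ≠ 2) (hrp : r ≠ p)
    (c : F) (hcc : c * c = 1) (hA2r : A ^ (2 * r) = c • (1 : Matrix ι ι F))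
    (hA2 : ∀ d : F, d * d = 1 → A ^ 2 ≠ d • (1 : Matrix ι ι F))
    (hAr : ∀ d : F, d * d = 1 → A ^ r ≠ d • (1 : Matrix ι ι F)) :
    CritIV (Fintype.card F) n r := by
  classical
  have hp : p.Prime := Fact.out
  have hApow : ∀ j : ℕ, (A ^ j)ᵀ * G * A ^ j = G := by
    intro j
    induction j with
    | zero => simp
    | succ j ih =>
      rw [pow_succ, Matrix.transpose_mul]
      calc Aᵀ * (A ^ j)ᵀ * G * (A ^ j * A) = Aᵀ * ((A ^ j)ᵀ * G * A ^ j) * A := by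
            simp only [Matrix.mul_assoc]
        _ = G := by rw [ih, hA]
  have hrF : ((r : ℕ) : F) ≠ 0 := by
    intro h0
    rw [CharP.cast_eq_zero_iff F p] at h0
    exact hrp ((Nat.prime_dvd_prime_iff_eq hp hr).1 h0).symm
  have h2F : ((2 : ℕ) : F) ≠ 0 := by exact_mod_cast h2
  have hr3 : 3 ≤ r := by
    have := hr.two_le
    omega
  have hrodd : Odd r := hr.odd_of_ne_two hr2
  rcases mul_self_eq_one_iff.1 hcc with hc1 | hc1
  · -- `A ^ (2r) = 1`
    rw [hc1, one_smul] at hA2r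
    obtain ⟨t, ht⟩ : ∃ t : Matrix ι ι F, t = A ^ r := ⟨_, rfl⟩
    obtain ⟨y, hy⟩ : ∃ y : Matrix ι ι F, y = A ^ 2 := ⟨_, rfl⟩
    have ht2 : t ^ 2 = 1 := by
      rw [ht, ← pow_mul, mul_comm, hA2r]
    have htne1 : t ≠ 1 := by
      intro h
      apply hAr 1 (by rw [one_mul])
      rw [one_smul, ← ht, h]
    have htneg : t ≠ -1 := by
      intro h
      apply hAr (-1) (by ring)
      rw [neg_smul, one_smul, ← ht, h]
    have hyr : y ^ r = 1 := by
      rw [hy, ← pow_mul, hA2r]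
    have hyne : y ≠ 1 := by
      intro h
      apply hA2 1 (by rw [one_mul])
      rw [one_smul, ← hy, h]
    have hyt : y * t = t * y := by
      rw [hy, ht]
      exact (Commute.pow_pow_self A _ _).eq
    have htG : tᵀ * G * t = G := by rw [ht]; exact hApow r
    have hyG : yᵀ * G * y = G := by rw [hy]; exact hApow 2
    obtain ⟨k₁, k₂, G₁, G₂, T₂, J, hG₁, hG₂, hT₂G, hT₂r, hT₂fix, hGJ, hTJ, halt, -⟩ :=
      hGD F ι G t 2 hGdet htG (by norm_num) h2F ht2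
    have hk : k₁ + k₂ = 2 * n := by rw [dim_eq J, hcard]
    obtain ⟨hG₁a, hG₂a⟩ := halt hGalt
    have hk₁e : Even k₁ := by
      have h := hAE F (Fin k₁) G₁ h2 hG₁a hG₁
      rwa [Fintype.card_fin] at h
    have hk₂e : Even k₂ := by
      have h := hAE F (Fin k₂) G₂ h2 hG₂a hG₂
      rwa [Fintype.card_fin] at h
    have hk₂pos : 0 < k₂ := pos_snd hTJ htne1
    have hk₁pos : 0 < k₁ := by
      rcases Nat.eq_zero_or_pos k₁ with h0 | h0
      · exfalso
        apply htneg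
        apply matrix_ext_mulVec
        intro x
        have hw : t *ᵥ (t *ᵥ x + x) = t *ᵥ x + x := by
          rw [Matrix.mulVec_add, Matrix.mulVec_mulVec, ← pow_two, ht2, Matrix.one_mulVec, add_comm]
        have h5 := fixed_zero hT₂fix hTJ h0 _ hw
        rw [Matrix.neg_mulVec, Matrix.one_mulVec]
        exact eq_neg_of_add_eq_zero_left h5
      · exact h0
    obtain ⟨a₁, ha₁⟩ := hk₁e
    obtain ⟨a₂, ha₂⟩ := hk₂e
    obtain ⟨y₁, y₂, hyJ, -⟩ := hBD F ι t y k₁ k₂ T₂ J hT₂fix hTJ hyt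
    obtain ⟨hy₁G, hy₂G⟩ := hGBF F ι k₁ k₂ J G y G₁ y₁ G₂ y₂ hGJ hyJ hyG
    obtain ⟨hyp, -, -⟩ := hBF F ι k₁ k₂ J y y₁ y₂ hyJ
    obtain ⟨hy₁r, hy₂r⟩ := (hyp r).1 hyr
    by_cases h1 : y₁ = 1
    · have hy₂ne : y₂ ≠ 1 := by
        intro h2'
        apply hyne
        have h3 := (hyp 1).2 ⟨by rw [h1, pow_one], by rw [h2', pow_one]⟩
        rwa [pow_one] at h3
      obtain ⟨k, hk1, hk2, hkT⟩ := hPT F p (Fin k₂) G₂ y₂ r hG₂ hy₂G hr hr2 hrp hy₂r hy₂ne
      rw [Fintype.card_fin] at hk2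
      left
      exact ⟨k, hk1, by omega, hkT⟩
    · obtain ⟨k, hk1, hk2, hkT⟩ := hPT F p (Fin k₁) G₁ y₁ r hG₁ hy₁G hr hr2 hrp hy₁r h1
      rw [Fintype.card_fin] at hk2
      left
      exact ⟨k, hk1, by omega, hkT⟩
  · -- `A ^ (2r) = -1`
    rw [hc1, neg_smul, one_smul] at hA2r
    have hA4r : A ^ (4 * r) = 1 := by
      have e : 4 * r = 2 * r * 2 := by ring
      rw [e, pow_mul, hA2r, neg_sq, one_pow]
    obtain ⟨y, hy⟩ : ∃ y : Matrix ι ι F, y = A ^ 4 := ⟨_, rfl⟩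
    have hyr : y ^ r = 1 := by
      rw [hy, ← pow_mul, hA4r]
    have hyne : y ≠ 1 := by
      intro h
      obtain ⟨m, hm⟩ := hrodd
      apply hA2 (-1) (by ring)
      have e : 2 * r = 4 * m + 2 := by omega
      rw [e, pow_add, pow_mul, ← hy, h, one_pow, one_mul] at hA2r
      rw [neg_smul, one_smul]
      exact hA2r
    have hyG : yᵀ * G * y = G := by rw [hy]; exact hApow 4
    by_cases hfix : ∃ v : ι → F, v ≠ 0 ∧ y *ᵥ v = v
    · obtain ⟨v, hv0, hv⟩ := hfix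
      obtain ⟨k₁, k₂, G₁, G₂, T₂, J, hG₁, hG₂, hT₂G, hT₂r, hT₂fix, hGJ, hTJ, halt, -⟩ :=
        hGD F ι G y r hGdet hyG hr.pos hrF hyr
      have hk : k₁ + k₂ = 2 * n := by rw [dim_eq J, hcard]
      obtain ⟨hG₁a, hG₂a⟩ := halt hGalt
      have hk₁e : Even k₁ := by
        have h := hAE F (Fin k₁) G₁ h2 hG₁a hG₁
        rwa [Fintype.card_fin] at h
      have hk₂pos : 0 < k₂ := pos_snd hTJ hyne
      have hk₁pos : 0 < k₁ := by
        rcases Nat.eq_zero_or_pos k₁ with h0 | h0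
        · exact absurd (fixed_zero hT₂fix hTJ h0 v hv) hv0
        · exact h0
      obtain ⟨a₁, ha₁⟩ := hk₁e
      obtain ⟨k, hk1, hk2, hkT⟩ := hTB F (Fin k₂) G₂ T₂ r
        (by rw [Fintype.card_fin]; exact hk₂pos) hG₂ hT₂G (by omega) hT₂r (by
          intro ℓ hℓ hℓr w hw
          have e : ℓ = r := (Nat.prime_dvd_prime_iff_eq hℓ hr).1 hℓr
          rw [e, Nat.div_self hr.pos, pow_one] at hw
          exact hT₂fix w hw)
      rw [Fintype.card_fin] at hk2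
      left
      exact ⟨k, hk1, by omega, hkT⟩
    · have hfix' : ∀ v : ι → F, y *ᵥ v = v → v = 0 := by
        intro v hv
        by_contra hv0
        exact hfix ⟨v, hv0, hv⟩
      obtain ⟨k, hk1, hk2, hkT⟩ := hTB F ι G A (4 * r) (by rw [hcard]; omega) hGdet hA
        (by omega) hA4r (by
          intro ℓ hℓ hℓr w hw
          rcases (Nat.Prime.dvd_mul hℓ).1 hℓr with h4 | hr'
          · have hℓ2 : ℓ = 2 := by
              have h5 : ℓ ∣ 2 ^ 2 := by
                norm_num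
                exact h4
              exact (Nat.prime_dvd_prime_iff_eq hℓ Nat.prime_two).1 (hℓ.dvd_of_dvd_pow h5)
            have e : 4 * r / ℓ = 2 * r := by
              rw [hℓ2]
              omega
            rw [e, hA2r, Matrix.neg_mulVec, Matrix.one_mulVec] at hw
            funext i
            have h6 := congrFun hw i
            rw [Pi.neg_apply] at h6
            have h7 : (2 : F) * w i = 0 := by linear_combination -h6
            rcases mul_eq_zero.1 h7 with h8 | h8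
            · exact absurd h8 h2
            · exact h8
          · have e : ℓ = r := (Nat.prime_dvd_prime_iff_eq hℓ hr).1 hr'
            rw [e, Nat.mul_div_cancel 4 hr.pos, ← hy] at hw
            exact hfix' w hw)
      rw [hcard] at hk2
      by_cases hkn : k = n
      · right
        rw [← hkn]
        exact hkT
      · left
        refine ⟨k, hk1, by omega, ?_⟩
        rcases hkT with h | h
        · left
          exact (Dvd.intro_left 4 rfl).trans h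
        · right
          exact (Dvd.intro_left 4 rfl).trans h

/-- CNEC4 -/
theorem main (hGD : GDecomp.{u}) (hBD : BlockDiag.{u}) (hBF : BlockFacts.{u})
    (hGBF : GBlockFacts.{u}) (hAE : AltEven.{u}) (hPT : PrimeTor.{u}) (hTB : GTorBound.{u}) :
    CNecIV.{u} := by
  intro F _ _ p _ _ hp2 n hn r hr hr2 hrp hhas
  have hp : p.Prime := Fact.out
  have h2 : (2 : F) ≠ 0 := by
    intro h0
    have h0' : ((2 : ℕ) : F) = 0 := by exact_mod_cast h0
    rw [CharP.cast_eq_zero_iff F p] at h0'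
    exact hp2 ((Nat.prime_dvd_prime_iff_eq hp Nat.prime_two).1 h0')
  obtain ⟨g, hg⟩ := hhas
  obtain ⟨A, hAg⟩ := Cfsg.Agent.Lib.Helper43.SpBasic.pr_surjective g
  have hn1 : 1 ≤ n := by omega
  have hpow : ∀ j : ℕ, (Cfsg.Agent.Lib.Helper43.SpBasic.pr A) ^ j = 1 ↔ 2 * r ∣ j := by
    intro j
    rw [hAg, ← hg]
    exact orderOf_dvd_iff_pow_eq_one.symm
  obtain ⟨c, hcc, hc⟩ := (Cfsg.Agent.Lib.Helper42.SpOrdD.pr_pow_eq_one_iff hn1 A (2 * r)).1
    ((hpow _).2 dvd_rfl)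
  have hrpos : 0 < r := hr.pos
  have hr3 : 2 ≤ r := hr.two_le
  have hA2 : ∀ d : F, d * d = 1 →
      (A : Matrix (Fin n ⊕ Fin n) (Fin n ⊕ Fin n) F) ^ 2 ≠ d • 1 := by
    intro d hd h
    have h1 := (hpow 2).1 ((Cfsg.Agent.Lib.Helper42.SpOrdD.pr_pow_eq_one_iff hn1 A 2).2 ⟨d, hd, h⟩)
    have h3 := Nat.le_of_dvd (by norm_num) h1
    omega
  have hAr : ∀ d : F, d * d = 1 →
      (A : Matrix (Fin n ⊕ Fin n) (Fin n ⊕ Fin n) F) ^ r ≠ d • 1 := by
    intro d hd h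
    have h1 := (hpow r).1 ((Cfsg.Agent.Lib.Helper42.SpOrdD.pr_pow_eq_one_iff hn1 A r).2 ⟨d, hd, h⟩)
    have h3 := Nat.le_of_dvd hrpos h1
    omega
  have hAJ : (A : Matrix (Fin n ⊕ Fin n) (Fin n ⊕ Fin n) F)ᵀ * Matrix.J (Fin n) F *
      (A : Matrix (Fin n ⊕ Fin n) (Fin n ⊕ Fin n) F) = Matrix.J (Fin n) F := by
    exact SymplecticGroup.mem_iff'.1 A.2
  have hJdet : (Matrix.J (Fin n) F).det ≠ 0 := (Matrix.isUnit_det_J (Fin n) F).ne_zero
  have hcard : Fintype.card (Fin n ⊕ Fin n) = 2 * n := by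
    rw [Fintype.card_sum, Fintype.card_fin]
    omega
  exact core hGD hBD hBF hGBF hAE hPT hTB F p h2 (Fin n ⊕ Fin n) n hcard hn1
    (Matrix.J (Fin n) F) (A : Matrix (Fin n ⊕ Fin n) (Fin n ⊕ Fin n) F) hJdet
    (Matrix.J_transpose (Fin n) F) hAJ r hr hr2 hrp c hcc hc hA2 hAr

end Cfsg.Agent.Lib.Helper23.PGCNEC4
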