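import Mathlib
import Cfsg.Agent.Lib.Helper18.R59Stmt

/-!
S2359/SLC: the centraliser in `SL₂(q)`, `q = 3^(2m+1)`, of an element of prime order
`p ∤ 6(q-1)` is commutative of order `q + 1`.
-/

set_option autoImplicit false

namespace Cfsg.Agent.Lib.Helper23.R59SLC

universe u

open Matrix

variable {K : Type u} [Field K]

/-- Cayley–Hamilton for a `2 × 2` matrix of determinant one. -/
theorem sq_eq (X : Matrix (Fin 2) (Fin 2) K) (hdet : X.det = 1) :
    X * X = (X 0 0 + X 1 1) • X - 1 := by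
  rw [Matrix.det_fin_two] at hdet
  ext i j
  fin_cases i <;> fin_cases j <;>
    simp [Matrix.mul_apply, Fin.sum_univ_two] <;>
    first | linear_combination (-1:K)*hdet | linear_combination (0:K)*hdet

/-- The commutant of a non-scalar `2 × 2` matrix. -/
theorem commutant (X Y : Matrix (Fin 2) (Fin 2) K)
    (hns : X 0 1 ≠ 0 ∨ X 1 0 ≠ 0 ∨ X 0 0 ≠ X 1 1) (h : Y * X = X * Y) :
    ∃ u v : K, Y = u • (1 : Matrix (Fin 2) (Fin 2) K) + v • X := by
  have e00 := congrFun (congrFun h 0) 0
  have e01 := congrFun (congrFun h 0) 1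
  have e10 := congrFun (congrFun h 1) 0
  have e11 := congrFun (congrFun h 1) 1
  simp only [Matrix.mul_apply, Fin.sum_univ_two] at e00 e01 e10 e11
  have hd0 : X 0 1 = 0 → X 1 0 = 0 → X 0 0 ≠ X 1 1 := by
    intro a b
    rcases hns with h | h | h
    · exact absurd a h
    · exact absurd b h
    · exact h
  by_cases h01 : X 0 1 ≠ 0
  · obtain ⟨v, hv⟩ : ∃ v, v * X 0 1 = Y 0 1 := ⟨Y 0 1 / X 0 1, div_mul_cancel₀ _ h01⟩
    have g10 : v * X 1 0 = Y 1 0 :=
      mul_right_cancel₀ h01 (by linear_combination X 1 0 * hv + e00)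
    have g11 : (Y 0 0 - v * X 0 0) + v * X 1 1 = Y 1 1 :=
      mul_right_cancel₀ h01 (by linear_combination (X 1 1 - X 0 0) * hv + e01)
    refine ⟨Y 0 0 - v * X 0 0, v, ?_⟩
    ext i j
    fin_cases i <;> fin_cases j
    · simp
    · simpa using hv.symm
    · simpa using g10.symm
    · simpa using g11.symm
  by_cases h10 : X 1 0 ≠ 0
  · obtain ⟨v, hv⟩ : ∃ v, v * X 1 0 = Y 1 0 := ⟨Y 1 0 / X 1 0, div_mul_cancel₀ _ h10⟩
    have g01 : v * X 0 1 = Y 0 1 :=
      mul_right_cancel₀ h10 (by linear_combination X 0 1 * hv - e00)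
    have g11 : (Y 0 0 - v * X 0 0) + v * X 1 1 = Y 1 1 :=
      mul_right_cancel₀ h10 (by linear_combination (X 1 1 - X 0 0) * hv - e10)
    refine ⟨Y 0 0 - v * X 0 0, v, ?_⟩
    ext i j
    fin_cases i <;> fin_cases j
    · simp
    · simpa using g01.symm
    · simpa using hv.symm
    · simpa using g11.symm
  push Not at h01 h10
  have hd' : X 0 0 - X 1 1 ≠ 0 := sub_ne_zero.2 (hd0 h01 h10)
  have y01 : Y 0 1 = 0 := by
    have : Y 0 1 * (X 0 0 - X 1 1) = 0 := by rw [h01] at e01; linear_combination -e01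
    rcases mul_eq_zero.1 this with h | h
    · exact h
    · exact absurd h hd'
  have y10 : Y 1 0 = 0 := by
    have : Y 1 0 * (X 0 0 - X 1 1) = 0 := by rw [h10] at e10; linear_combination e10
    rcases mul_eq_zero.1 this with h | h
    · exact h
    · exact absurd h hd'
  obtain ⟨v, hv⟩ : ∃ v, v * (X 0 0 - X 1 1) = Y 0 0 - Y 1 1 :=
    ⟨(Y 0 0 - Y 1 1) / (X 0 0 - X 1 1), div_mul_cancel₀ _ hd'⟩
  have g11 : (Y 0 0 - v * X 0 0) + v * X 1 1 = Y 1 1 := by linear_combination -hv
  refine ⟨Y 0 0 - v * X 0 0, v, ?_⟩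
  ext i j
  fin_cases i <;> fin_cases j
  · simp
  · simp [h01, y01]
  · simp [h10, y10]
  · simpa using g11.symm

/-- The determinant of `u • 1 + v • X`. -/
theorem det_comb (X : Matrix (Fin 2) (Fin 2) K) (hdet : X.det = 1) (u v : K) :
    (u • (1 : Matrix (Fin 2) (Fin 2) K) + v • X).det = u * u + (X 0 0 + X 1 1) * u * v + v * v := by
  rw [Matrix.det_fin_two] at hdet ⊢
  simp
  linear_combination (v * v) * hdet

/-- Elements of the form `u • 1 + v • X` commute. -/
theorem comb_comm (X : Matrix (Fin 2) (Fin 2) K) (u v u' v' : K) :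
    (u • (1 : Matrix (Fin 2) (Fin 2) K) + v • X) * (u' • (1 : Matrix (Fin 2) (Fin 2) K) + v' • X)
      = (u' • (1 : Matrix (Fin 2) (Fin 2) K) + v' • X) * (u • (1 : Matrix (Fin 2) (Fin 2) K) + v • X) := by
  ext i j
  fin_cases i <;> fin_cases j <;>
    simp [Matrix.mul_apply, Fin.sum_univ_two] <;> ring

/-- `u • 1 + v • X` determines `(u, v)` when `X` is not scalar. -/
theorem comb_inj (X : Matrix (Fin 2) (Fin 2) K)
    (hns : X 0 1 ≠ 0 ∨ X 1 0 ≠ 0 ∨ X 0 0 ≠ X 1 1) (u v u' v' : K)
    (h : u • (1 : Matrix (Fin 2) (Fin 2) K) + v • X = u' • (1 : Matrix (Fin 2) (Fin 2) K) + v' • X) :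
    u = u' ∧ v = v' := by
  have e00 := congrFun (congrFun h 0) 0
  have e01 := congrFun (congrFun h 0) 1
  have e10 := congrFun (congrFun h 1) 0
  have e11 := congrFun (congrFun h 1) 1
  simp at e00 e01 e10 e11
  have hv : v = v' := by
    rcases hns with h01 | h10 | hd
    · rcases e01 with h | h
      · exact h
      · exact absurd h h01
    · rcases e10 with h | h
      · exact h
      · exact absurd h h10
    · have hd' : X 0 0 - X 1 1 ≠ 0 := sub_ne_zero.2 hd
      exact mul_right_cancel₀ hd' (by linear_combination e00 - e11)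
  subst hv
  exact ⟨by linear_combination e00, rfl⟩

/-- A root of the characteristic polynomial gives an eigenvector equation. -/
theorem pow_mul_W (X : Matrix (Fin 2) (Fin 2) K) (hdet : X.det = 1) (l : K)
    (hl : l * l - (X 0 0 + X 1 1) * l + 1 = 0) (k : ℕ) :
    X ^ k * (X - (X 0 0 + X 1 1 - l) • (1 : Matrix (Fin 2) (Fin 2) K))
      = l ^ k • (X - (X 0 0 + X 1 1 - l) • (1 : Matrix (Fin 2) (Fin 2) K)) := by
  have h1 : X * (X - (X 0 0 + X 1 1 - l) • (1 : Matrix (Fin 2) (Fin 2) K))
      = l • (X - (X 0 0 + X 1 1 - l) • (1 : Matrix (Fin 2) (Fin 2) K)) := by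
    rw [mul_sub, sq_eq X hdet]
    ext i j
    fin_cases i <;> fin_cases j <;> simp <;>
      first | linear_combination (-1:K)*hl | linear_combination (0:K)*hl
  induction k with
  | zero => simp
  | succ k ih =>
    rw [pow_succ, mul_assoc, h1, Matrix.mul_smul, ih, smul_smul]
    congr 1
    ring

/-- An element of `SL₂` of odd prime order is not scalar. -/
theorem nonscalar (x : SpecialLinearGroup (Fin 2) K) (p : ℕ) (hp2 : p ≠ 2) (hp : p.Prime)
    (hx : orderOf x = p) :
    x.1 0 1 ≠ 0 ∨ x.1 1 0 ≠ 0 ∨ x.1 0 0 ≠ x.1 1 1 := by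
  by_contra hcon
  push Not at hcon
  obtain ⟨h01, h10, hd⟩ := hcon
  have hdet : x.1.det = 1 := x.2
  rw [Matrix.det_fin_two, h01, h10, ← hd] at hdet
  have hxx : x * x = 1 := by
    apply Subtype.ext
    show x.1 * x.1 = 1
    ext i j
    fin_cases i <;> fin_cases j <;>
      simp [Matrix.mul_apply, Fin.sum_univ_two, h01, h10, ← hd] <;> linear_combination hdet
  have : orderOf x ∣ 2 := orderOf_dvd_of_pow_eq_one (by rw [pow_two]; exact hxx)
  rw [hx] at this
  exact hp2 ((Nat.prime_dvd_prime_iff_eq hp Nat.prime_two).1 this)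

/-- The characteristic polynomial of `x` has no root in `K`. -/
theorem no_root [Fintype K] (m : ℕ) (hK : Fintype.card K = 3 ^ (2 * m + 1))
    (x : SpecialLinearGroup (Fin 2) K) (p : ℕ) (hp : p.Prime) (hp3 : p ≠ 3)
    (hpq : ¬ p ∣ 3 ^ (2 * m + 1) - 1) (hx : orderOf x = p)
    (hns : x.1 0 1 ≠ 0 ∨ x.1 1 0 ≠ 0 ∨ x.1 0 0 ≠ x.1 1 1) (h3 : (3 : K) = 0)
    (l : K) (hl : l * l - (x.1 0 0 + x.1 1 1) * l + 1 = 0) : False := by
  have hdet : x.1.det = 1 := x.2
  have hXp : x.1 ^ p = 1 := by
    have : x ^ p = 1 := by rw [← hx]; exact pow_orderOf_eq_one x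
    have h2 := congrArg Subtype.val this
    simpa using h2
  have hWne : ∃ i j, (x.1 - (x.1 0 0 + x.1 1 1 - l) • (1 : Matrix (Fin 2) (Fin 2) K)) i j ≠ 0 := by
    rcases hns with h | h | h
    · exact ⟨0, 1, by simpa using h⟩
    · exact ⟨1, 0, by simpa using h⟩
    · by_contra hcon
      push Not at hcon
      have a := hcon 0 0
      have b := hcon 1 1
      simp at a b
      exact h (by linear_combination a - b)
  obtain ⟨i, j, hij⟩ := hWne
  have hpw := pow_mul_W x.1 hdet l hl p
  rw [hXp, one_mul] at hpw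
  have hlp : l ^ p = 1 := by
    have := congrFun (congrFun hpw i) j
    rw [Matrix.smul_apply, smul_eq_mul] at this
    exact mul_right_cancel₀ hij (by rw [one_mul]; exact this.symm)
  have hl0 : l ≠ 0 := by
    rintro rfl
    simp at hl
  have hlq : l ^ (Fintype.card K - 1) = 1 := FiniteField.pow_card_sub_one_eq_one l hl0
  have hcop : Nat.Coprime p (Fintype.card K - 1) := by
    rw [hK]; exact (Nat.Prime.coprime_iff_not_dvd hp).2 hpq
  have hl1 : l = 1 := by
    have := pow_gcd_eq_one.2 ⟨hlp, hlq⟩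
    rw [Nat.Coprime.gcd_eq_one hcop, pow_one] at this
    exact this
  subst hl1
  have hτ : x.1 0 0 + x.1 1 1 = 2 := by linear_combination -hl
  have hsq := sq_eq x.1 hdet
  rw [hτ] at hsq
  have hcube : x.1 * x.1 * x.1 = 1 := by
    rw [hsq, sub_mul, smul_mul_assoc, hsq, one_mul]
    have : (2:K) • ((2:K) • x.1 - 1) - x.1
        = (3:K) • x.1 - (3:K) • (1 : Matrix (Fin 2) (Fin 2) K) + 1 := by module
    rw [this, h3, zero_smul, zero_smul, sub_zero, zero_add]
  have hx3 : x ^ 3 = 1 := by
    apply Subtype.ext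
    rw [pow_succ, pow_two]
    exact hcube
  have : orderOf x ∣ 3 := orderOf_dvd_of_pow_eq_one hx3
  rw [hx] at this
  exact hp3 ((Nat.prime_dvd_prime_iff_eq hp Nat.prime_three).1 this)

/-- The norm form is anisotropic. -/
theorem aniso [Fintype K] (m : ℕ) (hK : Fintype.card K = 3 ^ (2 * m + 1))
    (x : SpecialLinearGroup (Fin 2) K) (p : ℕ) (hp : p.Prime) (hp3 : p ≠ 3)
    (hpq : ¬ p ∣ 3 ^ (2 * m + 1) - 1) (hx : orderOf x = p)
    (hns : x.1 0 1 ≠ 0 ∨ x.1 1 0 ≠ 0 ∨ x.1 0 0 ≠ x.1 1 1) (h3 : (3 : K) = 0)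
    (u v : K) (h : u * u + (x.1 0 0 + x.1 1 1) * u * v + v * v = 0) : u = 0 ∧ v = 0 := by
  by_cases hv : v = 0
  · subst hv
    simp at h
    exact ⟨h, rfl⟩
  · exfalso
    apply no_root m hK x p hp hp3 hpq hx hns h3 (-u / v)
    field_simp
    linear_combination h

theorem key_id (τ v s : K) :
    (1 + v * s) * (1 + v * s) + τ * (1 + v * s) * v + v * v
      = 1 + v * ((2 * s + τ) + v * (s * s + τ * s + 1)) := by ring

/-- The number of points of an anisotropic conic `u² + τ u v + v² = 1`. -/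
theorem conic_card [Fintype K] [DecidableEq K] (τ : K) (h2 : (2:K) ≠ 0)
    (hani : ∀ u v : K, u * u + τ * u * v + v * v = 0 → u = 0 ∧ v = 0) :
    (Finset.univ.filter (fun q : K × K => q.1 * q.1 + τ * q.1 * q.2 + q.2 * q.2 = 1)).card
      = Fintype.card K + 1 := by
  set S := Finset.univ.filter (fun q : K × K => q.1 * q.1 + τ * q.1 * q.2 + q.2 * q.2 = 1) with hS
  have hsplit := Finset.card_filter_add_card_filter_not (s := S) (fun q : K × K => q.2 = 0)
  have h1 : (S.filter (fun q => q.2 = 0)).card = 2 := by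
    have : S.filter (fun q => q.2 = 0) = {((1:K),(0:K)), ((-1:K),(0:K))} := by
      ext ⟨u, v⟩
      simp only [hS, Finset.mem_filter, Finset.mem_univ, true_and, Finset.mem_insert,
        Finset.mem_singleton, Prod.mk.injEq]
      constructor
      · rintro ⟨h, rfl⟩
        have : (u - 1) * (u + 1) = 0 := by linear_combination h
        rcases mul_eq_zero.1 this with h | h
        · left; exact ⟨by linear_combination h, rfl⟩
        · right; exact ⟨by linear_combination h, rfl⟩
      · rintro (⟨rfl, rfl⟩ | ⟨rfl, rfl⟩) <;> simp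
    rw [this, Finset.card_pair]
    intro h
    have h' : (1:K) = -1 := (Prod.mk.inj h).1
    apply h2
    linear_combination h'
  have hD : ∀ s : K, s * s + τ * s + 1 ≠ 0 := by
    intro s h
    have := (hani s 1 (by linear_combination h)).2
    exact one_ne_zero this
  have h2' : (S.filter (fun q => ¬ q.2 = 0)).card
      = (Finset.univ.filter (fun s : K => 2 * s + τ ≠ 0)).card := by
    apply Finset.card_nbij' (fun q => (q.1 - 1) / q.2)
      (fun s => (1 + (-(2 * s + τ) / (s * s + τ * s + 1)) * s, -(2 * s + τ) / (s * s + τ * s + 1)))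
    · rintro ⟨u, v⟩ hq
      simp only [hS, Finset.mem_filter, Finset.mem_univ, true_and, Finset.coe_filter,
        Set.mem_setOf_eq] at hq ⊢
      obtain ⟨hN, hv⟩ := hq
      obtain ⟨s, rfl⟩ : ∃ s, u = 1 + v * s := ⟨(u - 1) / v, by field_simp; ring⟩
      have e : (1 + v * s - 1) / v = s := by field_simp; ring
      rw [e]
      intro h
      rw [key_id, h, zero_add] at hN
      have : v * (v * (s * s + τ * s + 1)) = 0 := by linear_combination hN
      rcases mul_eq_zero.1 this with h | h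
      · exact hv h
      · rcases mul_eq_zero.1 h with h | h
        · exact hv h
        · exact hD s h
    · intro s hs
      simp only [hS, Finset.mem_filter, Finset.mem_univ, true_and, Finset.coe_filter,
        Set.mem_setOf_eq] at hs ⊢
      have hl : (-(2 * s + τ) / (s * s + τ * s + 1)) * (s * s + τ * s + 1) = -(2 * s + τ) :=
        div_mul_cancel₀ _ (hD s)
      refine ⟨?_, div_ne_zero (neg_ne_zero.2 hs) (hD s)⟩
      rw [key_id, hl]
      ring
    · rintro ⟨u, v⟩ hq
      simp only [hS, Finset.mem_filter, Finset.mem_univ, true_and, Finset.coe_filter,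
        Set.mem_setOf_eq] at hq ⊢
      obtain ⟨hN, hv⟩ := hq
      obtain ⟨s, rfl⟩ : ∃ s, u = 1 + v * s := ⟨(u - 1) / v, by field_simp; ring⟩
      have e : (1 + v * s - 1) / v = s := by field_simp; ring
      rw [e]
      rw [key_id] at hN
      have h0 : v * ((2 * s + τ) + v * (s * s + τ * s + 1)) = 0 := by linear_combination hN
      have h0' : (2 * s + τ) + v * (s * s + τ * s + 1) = 0 := by
        rcases mul_eq_zero.1 h0 with h | h
        · exact absurd h hv
        · exact h
      have hv' : -(2 * s + τ) / (s * s + τ * s + 1) = v := by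
        rw [div_eq_iff (hD s)]
        linear_combination -h0'
      rw [hv']
    · intro s hs
      simp only [hS, Finset.mem_filter, Finset.mem_univ, true_and, Finset.coe_filter,
        Set.mem_setOf_eq] at hs ⊢
      have hl0 : -(2 * s + τ) / (s * s + τ * s + 1) ≠ 0 :=
        div_ne_zero (neg_ne_zero.2 hs) (hD s)
      rw [add_sub_cancel_left, mul_div_cancel_left₀ s hl0]
  have h3 : (Finset.univ.filter (fun s : K => 2 * s + τ ≠ 0)).card = Fintype.card K - 1 := by
    have : Finset.univ.filter (fun s : K => 2 * s + τ ≠ 0) = Finset.univ.erase (-τ / 2) := by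
      ext s
      simp only [Finset.mem_filter, Finset.mem_univ, true_and, Finset.mem_erase, and_true]
      constructor
      · intro h h'
        apply h
        rw [h']
        field_simp
        ring
      · intro h h'
        apply h
        rw [eq_div_iff h2]
        linear_combination h'
    rw [this, Finset.card_erase_of_mem (Finset.mem_univ _), Finset.card_univ]
  have hpos : 0 < Fintype.card K := Fintype.card_pos
  omega

theorem main : Cfsg.Agent.Lib.Helper18.R59Stmt.SLC.{u} := by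
  intro K _ _ m hK x p hp hp2 hp3 hpq hx
  classical
  have h3 : (3 : K) = 0 := by
    have := FiniteField.cast_card_eq_zero K
    rw [hK] at this
    push_cast at this
    exact (pow_eq_zero_iff (by omega)).1 this
  have h2 : (2 : K) ≠ 0 := by
    intro h
    have : (1:K) = 0 := by linear_combination h3 - h
    exact one_ne_zero this
  have hns := nonscalar x p hp2 hp hx
  have hdet : x.1.det = 1 := x.2
  have hani : ∀ u v : K, u * u + (x.1 0 0 + x.1 1 1) * u * v + v * v = 0 → u = 0 ∧ v = 0 :=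
    fun u v h => aniso m hK x p hp hp3 hpq hx hns h3 u v h
  have hcomm : ∀ y : SpecialLinearGroup (Fin 2) K, y * x = x * y →
      ∃ u v : K, y.1 = u • (1 : Matrix (Fin 2) (Fin 2) K) + v • x.1 := by
    intro y hy
    exact commutant x.1 y.1 hns (by have := congrArg Subtype.val hy; simpa using this)
  refine ⟨?_, ?_⟩
  · intro y z hy hz
    obtain ⟨u, v, hyu⟩ := hcomm y hy
    obtain ⟨u', v', hzu⟩ := hcomm z hz
    apply Subtype.ext
    show y.1 * z.1 = z.1 * y.1
    rw [hyu, hzu]
    exact comb_comm _ _ _ _ _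
  · have hbij : Nat.card {y : SpecialLinearGroup (Fin 2) K // y * x = x * y}
        = Nat.card {q : K × K // q.1 * q.1 + (x.1 0 0 + x.1 1 1) * q.1 * q.2 + q.2 * q.2 = 1} := by
      symm
      apply Nat.card_congr
      refine Equiv.ofBijective (fun q => ⟨⟨q.1.1 • (1 : Matrix (Fin 2) (Fin 2) K) + q.1.2 • x.1,
        by rw [det_comb _ hdet]; exact q.2⟩, ?_⟩) ⟨?_, ?_⟩
      · apply Subtype.ext
        show (q.1.1 • (1 : Matrix (Fin 2) (Fin 2) K) + q.1.2 • x.1) * x.1
          = x.1 * (q.1.1 • (1 : Matrix (Fin 2) (Fin 2) K) + q.1.2 • x.1)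
        simp [add_mul, mul_add]
      · rintro ⟨⟨u, v⟩, h⟩ ⟨⟨u', v'⟩, h'⟩ heq
        have := congrArg (fun t => t.1.1) heq
        obtain ⟨rfl, rfl⟩ := comb_inj x.1 hns u v u' v' this
        rfl
      · rintro ⟨y, hy⟩
        obtain ⟨u, v, hyu⟩ := hcomm y hy
        refine ⟨⟨(u, v), ?_⟩, ?_⟩
        · rw [← det_comb _ hdet, ← hyu]; exact y.2
        · apply Subtype.ext
          apply Subtype.ext
          exact hyu.symm
    rw [hbij, Nat.card_eq_fintype_card, Fintype.card_subtype, conic_card _ h2 hani, hK]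

end Cfsg.Agent.Lib.Helper23.R59SLC
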