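import Mathlib
import Cfsg.Agent.Lib.Helper18.R59Stmt
import Cfsg.Agent.Lib.Helper23.R59SLC

/-!
S2359/SLI: in the centraliser in `SL₂(q)`, `q = 3^(2m+1)`, of an element of prime order
`p ∤ 6(q-1)`, the elements whose square is central form a cyclic group of order four.
-/

set_option autoImplicit false

namespace Cfsg.Agent.Lib.Helper23.R59SLI

universe u

open Matrix

variable {K : Type u} [Field K]

/-- An element of `SL₂(K)` of square one is `±1` (characteristic not two). -/
theorem sq_one (h2 : (2:K) ≠ 0) (y : SpecialLinearGroup (Fin 2) K) (hy : y * y = 1) :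
    y.1 = 1 ∨ y.1 = -1 := by
  have hdet : y.1.det = 1 := y.2
  rw [Matrix.det_fin_two] at hdet
  have h := congrArg Subtype.val hy
  have hm : y.1 * y.1 = 1 := by simpa using h
  have e00 := congrFun (congrFun hm 0) 0
  have e01 := congrFun (congrFun hm 0) 1
  have e10 := congrFun (congrFun hm 1) 0
  simp only [Matrix.mul_apply, Fin.sum_univ_two] at e00 e01 e10
  rw [Matrix.one_apply_eq] at e00
  rw [Matrix.one_apply_ne (by decide)] at e01 e10
  have hτ : y.1 0 0 * (y.1 0 0 + y.1 1 1) = 2 := by linear_combination e00 + hdet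
  have hτ0 : y.1 0 0 + y.1 1 1 ≠ 0 := by
    intro h0
    rw [h0, mul_zero] at hτ
    exact h2 hτ.symm
  have h01 : y.1 0 1 = 0 := by
    have : y.1 0 1 * (y.1 0 0 + y.1 1 1) = 0 := by linear_combination e01
    rcases mul_eq_zero.1 this with h | h
    · exact h
    · exact absurd h hτ0
  have h10 : y.1 1 0 = 0 := by
    have : y.1 1 0 * (y.1 0 0 + y.1 1 1) = 0 := by linear_combination e10
    rcases mul_eq_zero.1 this with h | h
    · exact h
    · exact absurd h hτ0
  rw [h01, h10] at e00 hdet
  have h00 : (y.1 0 0 - 1) * (y.1 0 0 + 1) = 0 := by linear_combination e00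
  have hne : y.1 0 0 ≠ 0 := by
    intro h0
    rw [h0] at hdet
    simp at hdet
  have h11 : y.1 1 1 = y.1 0 0 := mul_left_cancel₀ hne (by linear_combination hdet - e00)
  rcases mul_eq_zero.1 h00 with h | h
  · left
    have h00' : y.1 0 0 = 1 := by linear_combination h
    ext i j
    fin_cases i <;> fin_cases j <;> simp [h01, h10, h11, h00']
  · right
    have h00' : y.1 0 0 = -1 := by linear_combination h
    ext i j
    fin_cases i <;> fin_cases j <;> simp [h01, h10, h11, h00']

theorem main : Cfsg.Agent.Lib.Helper18.R59Stmt.SLI.{u} := by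
  intro hSLC K _ _ m hK x p hp hp2 hp3 hpq hx
  classical
  obtain ⟨hab, hcard⟩ := hSLC K m hK x p hp hp2 hp3 hpq hx
  have h3 : (3 : K) = 0 := by
    have := FiniteField.cast_card_eq_zero K
    rw [hK] at this
    push_cast at this
    exact (pow_eq_zero_iff (by omega)).1 this
  have h2 : (2 : K) ≠ 0 := by
    intro h
    have : (1:K) = 0 := by linear_combination h3 - h
    exact one_ne_zero this
  have h1ne : (1 : Matrix (Fin 2) (Fin 2) K) ≠ -1 := by
    intro h
    have h' := congrFun (congrFun h 0) 0
    rw [Matrix.neg_apply, Matrix.one_apply_eq] at h'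
    apply h2
    linear_combination h'
  set C : Subgroup (SpecialLinearGroup (Fin 2) K) := Subgroup.centralizer {x} with hC
  have hmemC : ∀ y, y ∈ C ↔ y * x = x * y := by
    intro y
    rw [hC, Subgroup.mem_centralizer_iff]
    constructor
    · intro h
      exact (h x rfl).symm
    · intro h z hz
      rw [Set.mem_singleton_iff] at hz
      subst hz
      exact h.symm
  have hcardC : Nat.card C = 3 ^ (2 * m + 1) + 1 := by
    rw [← hcard]
    exact Nat.card_congr (Equiv.subtypeEquivRight hmemC)
  have h4 : 2 ^ 2 ∣ Nat.card C := by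
    rw [hcardC]
    have : 3 ^ (2 * m + 1) % 4 = 3 := by
      rw [pow_succ, pow_mul]
      norm_num [Nat.mul_mod, Nat.pow_mod]
    exact Nat.dvd_of_mod_eq_zero (by omega)
  have : Fact (Nat.Prime 2) := ⟨Nat.prime_two⟩
  obtain ⟨P, hP⟩ := Sylow.exists_subgroup_card_pow_prime 2 h4
  have hex : ∃ g : C, g ∈ P ∧ g.1 * g.1 ≠ 1 := by
    by_contra hcon
    push Not at hcon
    have hinj : Function.Injective (fun g : P => decide (g.1.1.1 = 1)) := by
      intro g h hgh
      have hg := sq_one h2 g.1.1 (hcon g.1 g.2)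
      have hh := sq_one h2 h.1.1 (hcon h.1 h.2)
      apply Subtype.ext
      apply Subtype.ext
      apply Subtype.ext
      simp only [decide_eq_decide] at hgh
      rcases hg with hg | hg <;> rcases hh with hh | hh
      · rw [hg, hh]
      · exfalso
        rw [hh] at hgh
        exact h1ne.symm (hgh.1 hg)
      · exfalso
        rw [hg] at hgh
        exact h1ne.symm (hgh.2 hh)
      · rw [hg, hh]
    have := Nat.card_le_card_of_injective _ hinj
    rw [hP, Nat.card_eq_fintype_card, Fintype.card_bool] at this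
    omega
  obtain ⟨g, hgP, hgg⟩ := hex
  have hg4 : g.1 ^ 4 = 1 := by
    have : (⟨g, hgP⟩ : P) ^ Nat.card P = 1 := pow_card_eq_one'
    rw [hP] at this
    have h' := congrArg (fun t : P => t.1.1) this
    simpa using h'
  have hg4' : (g.1 * g.1) * (g.1 * g.1) = 1 := by
    have : (g.1 ^ 2) ^ 2 = 1 := by rw [← pow_mul]; exact hg4
    rw [pow_two, pow_two] at this
    exact this
  have hgm : (g.1 * g.1).1 = -1 := by
    rcases sq_one h2 (g.1 * g.1) hg4' with h | h
    · exfalso
      apply hgg
      apply Subtype.ext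
      rw [h]
      rfl
    · exact h
  refine ⟨g.1, (hmemC g.1).1 g.2, hgg, ?_, ?_⟩
  · rw [Subgroup.mem_center_iff]
    intro z
    apply Subtype.ext
    show z.1 * (g.1 * g.1).1 = (g.1 * g.1).1 * z.1
    rw [hgm]
    simp
  · intro y hy hyc
    rw [Matrix.SpecialLinearGroup.mem_center_iff] at hyc
    obtain ⟨r, hr, hrs⟩ := hyc
    have hr2 : (r - 1) * (r + 1) = 0 := by
      rw [Fintype.card_fin] at hr
      linear_combination hr
    have hi0y : y * g.1 = g.1 * y := hab y g.1 hy ((hmemC g.1).1 g.2)
    rcases mul_eq_zero.1 hr2 with h | h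
    · have hr1 : r = 1 := by linear_combination h
      have hyy : y * y = 1 := by
        apply Subtype.ext
        rw [← hrs, hr1]
        simp
      rcases sq_one h2 y hyy with h | h
      · left
        exact Subtype.ext (by rw [h]; rfl)
      · right; right; left
        exact Subtype.ext (by rw [h, hgm])
    · have hr1 : r = -1 := by linear_combination h
      have hyy : y * y = g.1 * g.1 := by
        apply Subtype.ext
        rw [hgm, ← hrs, hr1]
        ext i j
        fin_cases i <;> fin_cases j <;> simp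
      have e : (g.1)⁻¹ * y = y * (g.1)⁻¹ := by
        rw [inv_mul_eq_iff_eq_mul, ← mul_assoc, ← hi0y, mul_assoc, mul_inv_cancel, mul_one]
      have hz : (y * (g.1)⁻¹) * (y * (g.1)⁻¹) = 1 := by
        calc (y * (g.1)⁻¹) * (y * (g.1)⁻¹) = y * ((g.1)⁻¹ * y) * (g.1)⁻¹ := by group
          _ = y * (y * (g.1)⁻¹) * (g.1)⁻¹ := by rw [e]
          _ = (y * y) * ((g.1)⁻¹ * (g.1)⁻¹) := by group
          _ = (g.1 * g.1) * ((g.1)⁻¹ * (g.1)⁻¹) := by rw [hyy]
          _ = 1 := by group
      rcases sq_one h2 (y * (g.1)⁻¹) hz with h | h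
      · right; left
        have : y * (g.1)⁻¹ = 1 := Subtype.ext (by rw [h]; rfl)
        exact mul_inv_eq_one.1 this
      · right; right; right
        have : y * (g.1)⁻¹ = g.1 * g.1 := Subtype.ext (by rw [h, hgm])
        exact mul_inv_eq_iff_eq_mul.1 this

end Cfsg.Agent.Lib.Helper23.R59SLI
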