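import Mathlib
import Cfsg.Agent.Lib.Helper18.ReeHallStmt
import Cfsg.Agent.Lib.Helper23.RHNRMH

/-!
# S1158 piece NRMA: the cyclic subgroup `A` of order `(q+1)/4` of a small Ree group and the
normalizers of its subgroups
-/

set_option autoImplicit false

namespace Cfsg.Agent.Lib.Helper23.RHNRMA

open Cfsg.Agent.Lib.Helper42.ReeSpStmt Cfsg.Agent.Lib.Helper18.ReeHallStmt
open Cfsg.Agent.Lib.Helper23.RHNRMH

universe u v

/-- NRMA -/
theorem main : NrmA.{u, v} := by
  intro G _ _ U H A K _ _ m hax hN
  have hq8 := qq_mod8 m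
  have hq27 := le_qq hax.hm
  have hAC : A ≤ Subgroup.centralizer (A : Set G) := by
    intro x hx
    rw [Subgroup.mem_centralizer_iff]
    intro y hy
    exact comm_of_cyclic hax.cycA hy hx
  have hnorm : (A.subgroupOf (Subgroup.centralizer (A : Set G))).Normal := by
    refine ⟨fun a ha c => ?_⟩
    have h1 : c * a * c⁻¹ = a := by
      apply Subtype.ext
      have h2 := hax.commCA c c.2 a a.2
      simp only [Subgroup.coe_mul, Subgroup.coe_inv]
      rw [h2]
      group
    rwa [h1]
  have hidx : (A.subgroupOf (Subgroup.centralizer (A : Set G))).index = 4 := by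
    have h1 := Subgroup.card_mul_index (A.subgroupOf (Subgroup.centralizer (A : Set G)))
    rw [Nat.card_congr (Subgroup.subgroupOfEquivOfLe hAC).toEquiv, hax.cardA, hax.cardCA] at h1
    have h2 : qq m + 1 = (qq m + 1) / 4 * 4 := by omega
    have h3 : 0 < (qq m + 1) / 4 := by omega
    exact Nat.eq_of_mul_eq_mul_left h3 (h1.trans h2)
  have hmemA : ∀ z ∈ Subgroup.centralizer (A : Set G), z ^ ((qq m + 1) / 4) = 1 → z ∈ A := by
    intro z hz hzn
    haveI := hnorm
    have h4 := Subgroup.pow_index_mem (A.subgroupOf (Subgroup.centralizer (A : Set G))) ⟨z, hz⟩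
    rw [hidx] at h4
    have h4' : z ^ 4 ∈ A := by
      have := Subgroup.mem_subgroupOf.1 h4
      simpa using this
    have hcop : Nat.Coprime 4 (orderOf z) := by
      have hd := orderOf_dvd_of_pow_eq_one hzn
      have hodd : Odd ((qq m + 1) / 4) := by
        rw [Nat.odd_iff]
        omega
      have h2 : Nat.Coprime (2 ^ 2) ((qq m + 1) / 4) :=
        Nat.Coprime.pow_left 2 hodd.coprime_two_left
      exact Nat.Coprime.coprime_dvd_right hd h2
    obtain ⟨k, hk⟩ := exists_pow_eq_self_of_coprime hcop
    rw [← hk]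
    exact A.pow_mem h4' k
  have hkey : ∀ A₀ : Subgroup G, A₀ ≤ A → A₀ ≠ ⊥ →
      Subgroup.normalizer (A₀ : Set G) = Subgroup.normalizer (A : Set G) := by
    intro A₀ hle hne
    apply le_antisymm
    · obtain ⟨⟨x, hx⟩, hx1⟩ := Subgroup.ne_bot_iff_exists_ne_one.1 hne
      have hx1' : x ≠ 1 := fun h => hx1 (Subtype.ext h)
      have hstep : ∀ g ∈ Subgroup.normalizer (A₀ : Set G), ∀ y ∈ A, g * y * g⁻¹ ∈ A := by
        intro g hg y hy
        have hgx : g * x * g⁻¹ ∈ A₀ := (Subgroup.mem_set_normalizer_iff.1 hg _).1 hx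
        have hgx1 : g * x * g⁻¹ ≠ 1 := by
          intro h1
          apply hx1'
          have : x = g⁻¹ * (g * x * g⁻¹) * g := by group
          rw [this, h1]
          group
        apply hmemA
        · rw [← hax.centA _ (hle hgx) hgx1, Subgroup.mem_centralizer_iff]
          intro w hw
          rw [Set.mem_singleton_iff] at hw
          subst hw
          have hc : x * y = y * x := comm_of_cyclic hax.cycA (hle hx) hy
          calc g * x * g⁻¹ * (g * y * g⁻¹) = g * (x * y) * g⁻¹ := by group
            _ = g * (y * x) * g⁻¹ := by rw [hc]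
            _ = g * y * g⁻¹ * (g * x * g⁻¹) := by group
        · rw [conj_pow]
          have h1 : y ^ ((qq m + 1) / 4) = 1 := by
            have h2 := pow_card_eq_one' (x := (⟨y, hy⟩ : ↥A))
            rw [hax.cardA] at h2
            have h3 := congrArg Subtype.val h2
            simpa using h3
          rw [h1]
          group
      intro g hg
      rw [Subgroup.mem_set_normalizer_iff]
      intro h
      refine ⟨fun hh => hstep g hg h hh, fun hh => ?_⟩
      have := hstep g⁻¹ (inv_mem hg) _ hh
      simpa [mul_assoc] using this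
    · exact normalizer_le_of_cyclic hax.cycA hle
  exact ⟨A, hax.cycA, hax.cardA, hN, hkey⟩

end Cfsg.Agent.Lib.Helper23.RHNRMA
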