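import Mathlib
import Cfsg.Prelude.Def_OddOrderLocal

set_option autoImplicit false

/-!
# S1364 (BG 15.2(e): `K ≠ 1` ⟹ `K* = C_{M_σ}(K)` cyclic, `≠ 1`, `≤ M_F`, and `M_F` not cyclic):
statements of the pieces  (helper23; route = helper93's analysis in the notes of S1364)

Plan.  `K*` cyclic and `≠ 1`: S1354 + S1351 + S1366 (assembly).  The rest follows from
`HasNH M K*` (a normal nilpotent Hall subgroup `Q` of `M` containing `K*`) by `Fin`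
(`Q ≤ M_F`; if `M_F` were cyclic, `Q` is a cyclic normal Hall subgroup, so `Q ∩ M'' = 1` by
`CycHall`, but `1 ≠ K* ≤ Q ∩ M''` by S1365).
* `U ≠ 1` (`NH1`): `Q = M_σ` (nilpotent: `Helper22.BG147N0.nilpotent_of_U_ne_bot`; Hall: S1350).
* `U = 1` (`NH0`): `M = M_σ K`, `M' = M_σ =: H`, `K* ≤ H'` (S1365), `|K*| = q` prime (S1373),
  `C_H(k) = K*` for all `k ∈ K ∖ 1` (`PAct`, from S1354).  Pure lemma `NormSylSub` / `NormSyl`:
  then `H` has a normal Sylow `q`-subgroup `Q ⊇ K*`.  Proof of `NormSyl`: `N` maximal among the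
  normal `q`-subgroups of `X` inside `H`; in `X ⧸ N`: prime action again (`QuotPrime`), `F(H̄)` has
  no element of order `q` (`QuotFit`), so S1445 gives `[H̄, K̄] ≤ F(H̄)`, `H̄ = F(H̄) C̄`
  (`CopFix`), `H̄' ≤ F(H̄)`, `C̄ ≤ H̄' ≤ F(H̄)` has exponent `q`, so `C̄ = 1`, `H̄ = F(H̄)` is a
  `q'`-group (`QuotStep`).

Every Prop's docstring is its proof.  LANDED tools:
`Cfsg.Agent.Lib.Helper72.BG35.fixed_in_coset_zpowers` (φ : F →* MulAut W, N normal φ-invariant,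
`(Nat.card (zpowers x)).Coprime (Nat.card N)`, N solvable, `w⁻¹ * φ x w ∈ N` ⟹
`∃ y, w⁻¹ * y ∈ N ∧ φ x y = y`), `Cfsg.Agent.S1445.result`,
`Cfsg.Agent.Lib.Helper90.Bender.{fittingOf_le, fittingOf_isNilpotent}`,
`Cfsg.Agent.Lib.Helper72.BG35.pCore_char`, `Cfsg.Agent.Lib.Helper78.Fitting`,
`Cfsg.Agent.Lib.Helper71.Fitting.{fitting_normal, le_fitting, fitting_isNilpotent}`,
`ConjAct.normal_of_characteristic_of_normal`, `Cfsg.Agent.Lib.Helper9.BG11b.{sigmaCore_le,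
sigmaCore_normal, le_normalizer_map_subtype}`, `Cfsg.Agent.Lib.Helper9.BG10a.isSolvable_of_ne_top`,
`Cfsg.Agent.Lib.Helper22.BG1210.coprime_card_sigmaCore`, `Cfsg.Agent.S1350.result` (`.1` :
`IsPiHallOf (sigma M) (sigmaCore M) M`), `Cfsg.Agent.S1354.result`, `S1365.result`, `S1373.result`.
-/

namespace Cfsg.Agent.Lib.Helper23.S64Stmt

universe u

open Cfsg

/-- PURE.  Coprime action of a cyclic group: `H = [H, K] C_H(K)`.
Proof: `K = zpowers x`; `N := ⁅H, K⁆` is normal in `X` (normalized by `H` and by `K`, and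
`H ⊔ K = ⊤`); for `h ∈ H`: `h⁻¹ * (x h x⁻¹) = ⁅h⁻¹, x⁆ ∈ N`, so
`Helper72.BG35.fixed_in_coset_zpowers` (`φ = MulAut.conj`) gives `y` with `h⁻¹ * y ∈ N` and
`x y x⁻¹ = y`; `y ∈ H ⊓ C(K)` and `h = y * (h⁻¹ * y)⁻¹`. -/
def CopFix : Prop :=
  ∀ {Y : Type u} [Group Y] [Finite Y], Group.IsSolvable Y →
  ∀ (H K : Subgroup Y), H.Normal → H ⊔ K = ⊤ → (Nat.card H).Coprime (Nat.card K) → IsCyclic K →
    H ≤ ⁅H, K⁆ ⊔ (H ⊓ Subgroup.centralizer (K : Set Y))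

/-- PURE.  Prime action passes to the quotient by a normal `N ≤ H`.
Proof: `y = mk k`, `k ∈ K`, `k ≠ 1`; `z = mk h`, `h ∈ H`, commuting with `y`:
`h⁻¹ * (k h k⁻¹) ∈ N`; `Helper72.BG35.fixed_in_coset_zpowers` (`φ = MulAut.conj`, `x = k`;
`|zpowers k|` divides `|K|`, `|N|` divides `|H|`) gives `y'` with `h⁻¹ * y' ∈ N`,
`k y' k⁻¹ = y'`; `y' ∈ H ⊓ C({k}) = H ⊓ C(K)` and `mk y' = mk h`. -/
def QuotPrime : Prop :=
  ∀ {X : Type u} [Group X] [Finite X], Group.IsSolvable X →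
  ∀ (H K N : Subgroup X) [N.Normal], N ≤ H → (Nat.card H).Coprime (Nat.card K) →
    (∀ x ∈ K, x ≠ 1 → H ⊓ Subgroup.centralizer ({x} : Set X) =
      H ⊓ Subgroup.centralizer (K : Set X)) →
    ∀ y ∈ K.map (QuotientGroup.mk' N), y ≠ 1 →
      H.map (QuotientGroup.mk' N) ⊓ Subgroup.centralizer ({y} : Set (X ⧸ N)) ≤
        (H ⊓ Subgroup.centralizer (K : Set X)).map (QuotientGroup.mk' N)

/-- PURE.  If `N` is maximal among the normal `q`-subgroups of `X` inside the normal subgroup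
`H`, then `F(H / N)` has no element of order `q`.
Proof: `F̄ = fittingOf (H.map mk)` is normal in `X ⧸ N` (image of a characteristic subgroup of
the normal subgroup `H.map mk`) and nilpotent; its Sylow `q`-subgroup `P` is characteristic in
it, so `S̄ = P.map ..` is a normal `q`-subgroup of `X ⧸ N` inside `H.map mk`;
`S = S̄.comap mk` is normal in `X`, `N ≤ S ≤ H` (`N ≤ H`), a `q`-group
(`IsPGroup.comap_of_ker_isPGroup`), so `S = N` and `S̄ = ⊥`; `y ∈ F̄` with `y ^ q = 1` lies in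
`S̄`. -/
def QuotFit : Prop :=
  ∀ {X : Type u} [Group X] [Finite X] (H N : Subgroup X) [N.Normal], H.Normal → N ≤ H →
    ∀ q : ℕ, q.Prime → IsPGroup q N →
    (∀ S : Subgroup X, S.Normal → N ≤ S → S ≤ H → IsPGroup q S → S = N) →
    ∀ y ∈ Cfsg.fittingOf (H.map (QuotientGroup.mk' N)), y ^ q = 1 → y = 1

/-- PURE (uses `Cfsg.Agent.S1445.result`).  In `Y` (the quotient): `H` is a `q'`-group.
Proof: for `x ∈ K ∖ 1`: `H ⊓ C({x}) ≤ C ≤ H ⊓ C(K) ≤ H ⊓ C({x})`: prime action.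
`fittingOf H ⊓ C(K) ≤ C` consists of elements `z ∈ fittingOf H` with `z ^ q = 1`: it is `⊥`.
S1445: `⁅H, K⁆ ≤ F := fittingOf H`; `CopFix`: `H ≤ ⁅H, K⁆ ⊔ (H ⊓ C(K)) ≤ F ⊔ C`; `F` is normal
in `Y` and `C` is commutative, so `⁅H, H⁆ ≤ F`; `C ≤ ⁅H, H⁆ ≤ F` and `C` has exponent `q`:
`C = ⊥`, `H ≤ F`, so no element of order `q` in `H` (Cauchy). -/
def QuotStep : Prop :=
  ∀ {Y : Type u} [Group Y] [Finite Y], Group.IsSolvable Y → Odd (Nat.card Y) →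
  ∀ (H K C : Subgroup Y), H.Normal → H ⊔ K = ⊤ → (Nat.card H).Coprime (Nat.card K) →
    IsCyclic K → K ≠ ⊥ →
    (∀ y ∈ K, y ≠ 1 → H ⊓ Subgroup.centralizer ({y} : Set Y) ≤ C) →
    C ≤ H ⊓ Subgroup.centralizer (K : Set Y) →
    (∀ a ∈ C, ∀ b ∈ C, a * b = b * a) →
    ∀ q : ℕ, q.Prime → (∀ y ∈ C, y ^ q = 1) →
    (∀ y ∈ Cfsg.fittingOf H, y ^ q = 1 → y = 1) →
    C ≤ ⁅H, H⁆ →
    ¬ q ∣ Nat.card H

/-- PURE.  `X = H K` solvable of odd order, `H` normal, coprime, `K ≠ 1` cyclic with prime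
action on `H`, `C = C_H(K)` of prime order `q` and `C ≤ H'`: `H` has a normal (in `X`) Sylow
`q`-subgroup `Q`, and `C ≤ Q`.
Proof: `N` maximal among the normal `q`-subgroups of `X` inside `H` (`⊥` is one; finiteness).
`Y = X ⧸ N`, `H̄ = H.map mk`, `K̄ = K.map mk`, `C̄ = (H ⊓ C(K)).map mk`: `Y` solvable, odd;
`H̄` normal, `H̄ ⊔ K̄ = ⊤`, coprime, `K̄` cyclic, `K̄ ≠ ⊥` (`K ⊓ N ≤ K ⊓ H = ⊥`), `QuotPrime`,
`C̄ ≤ H̄ ⊓ C(K̄)`, `C̄` commutative of exponent `q`, `QuotFit`, `C̄ ≤ ⁅H̄, H̄⁆`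
(`Subgroup.map_commutator`): `QuotStep` gives `¬ q ∣ Nat.card H̄`, and
`Nat.card H̄ = N.relIndex H`.  Take `Q = N`; `C ≤ N` since `C` is a `q`-subgroup of `H` and
`q ∤ |H : N|` (its image in `H̄` is trivial). -/
def NormSyl : Prop :=
  ∀ {X : Type u} [Group X] [Finite X], Group.IsSolvable X → Odd (Nat.card X) →
  ∀ (H K : Subgroup X), H.Normal → H ⊔ K = ⊤ → (Nat.card H).Coprime (Nat.card K) →
    IsCyclic K → K ≠ ⊥ →
    (∀ x ∈ K, x ≠ 1 → H ⊓ Subgroup.centralizer ({x} : Set X) =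
      H ⊓ Subgroup.centralizer (K : Set X)) →
    ∀ q : ℕ, q.Prime → Nat.card ↥(H ⊓ Subgroup.centralizer (K : Set X)) = q →
    H ⊓ Subgroup.centralizer (K : Set X) ≤ ⁅H, H⁆ →
    ∃ Q : Subgroup X, Q.Normal ∧ Q ≤ H ∧ IsPGroup q Q ∧ ¬ q ∣ Q.relIndex H ∧
      H ⊓ Subgroup.centralizer (K : Set X) ≤ Q

/-- PURE.  `NormSyl` for subgroups `H, K ≤ M` of an ambient group (apply `NormSyl` to `X = ↥M`,
`H.subgroupOf M`, `K.subgroupOf M`; `Q = Q'.map M.subtype`). -/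
def NormSylSub : Prop :=
  ∀ {G : Type u} [Group G] [Finite G] (M H K : Subgroup G), Group.IsSolvable M →
    Odd (Nat.card M) → H ≤ M → K ≤ M → M ≤ Subgroup.normalizer (H : Set G) → M ≤ H ⊔ K →
    (Nat.card H).Coprime (Nat.card K) → IsCyclic K → K ≠ ⊥ →
    (∀ x ∈ K, x ≠ 1 → H ⊓ Subgroup.centralizer ({x} : Set G) =
      H ⊓ Subgroup.centralizer (K : Set G)) →
    ∀ q : ℕ, q.Prime → Nat.card ↥(H ⊓ Subgroup.centralizer (K : Set G)) = q →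
    H ⊓ Subgroup.centralizer (K : Set G) ≤ ⁅H, H⁆ →
    ∃ Q : Subgroup G, Q ≤ H ∧ M ≤ Subgroup.normalizer (Q : Set G) ∧ IsPGroup q Q ∧
      ¬ q ∣ Q.relIndex H ∧ H ⊓ Subgroup.centralizer (K : Set G) ≤ Q

/-- PURE.  A cyclic normal Hall subgroup `N` of `X` meets `X''` trivially.
Proof: `X / C_X(N)` embeds in `Aut N`, abelian, so `D := X' ≤ C_X(N)` and `Z₀ := N ⊓ D ≤ Z(D)`.
Transfer `D → Z(D)`, `g ↦ g ^ n`, `n = [D : Z(D)]` (`MonoidHom.transferCenterPow`) is a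
homomorphism to an abelian group, so it kills `D' = X''`; for `z ∈ N ⊓ X''`: `z ^ n = 1` and
`n` divides `[D : Z₀]`, which divides `[X : N]` (`D / Z₀ ↪ X / N`), coprime to `|N|`, so `z = 1`.
(Or: Schur–Zassenhaus in `D`: `D = Z₀ × T`, `D' ≤ T`.) -/
def CycHall : Prop :=
  ∀ {X : Type u} [Group X] [Finite X] (N : Subgroup X), N.Normal → IsCyclic N →
    (Nat.card N).Coprime N.index →
    N ⊓ ⁅⁅(⊤ : Subgroup X), (⊤ : Subgroup X)⁆, ⁅(⊤ : Subgroup X), (⊤ : Subgroup X)⁆⁆ = ⊥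

/-- `M` has a normal nilpotent Hall subgroup `Q` containing `C`. -/
def HasNH {G : Type u} [Group G] (M C : Subgroup G) : Prop :=
  ∃ Q : Subgroup G, Q ≤ M ∧ M ≤ Subgroup.normalizer (Q : Set G) ∧ Group.IsNilpotent Q ∧
    (Nat.card Q).Coprime (Q.relIndex M) ∧ C ≤ Q

/-- PURE.  From `HasNH M C`, `C ≠ 1`, `C ≤ M''`: `C ≤ M_F` and `M_F` is not cyclic.
Proof: `Q' = Q.subgroupOf M` is normal, nilpotent, `(Nat.card Q').Coprime Q'.index`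
(`Q'.index = Q.relIndex M`), so `Q' ≤ fittingHall ↥M` (`le_sSup`) and
`C ≤ Q = Q'.map M.subtype ≤ fittingHallOf M`.  If `fittingHallOf M` is cyclic then so are `Q`
and `Q'`; `CycHall` in `↥M`: `Q' ⊓ (↥M)'' = ⊥`; but `C.subgroupOf M` lies in both
(`⁅⁅M, M⁆, ⁅M, M⁆⁆ = (⁅⁅⊤, ⊤⁆, ⁅⊤, ⊤⁆⁆ : Subgroup ↥M).map M.subtype`), so `C = ⊥`. -/
def Fin : Prop :=
  ∀ {G : Type u} [Group G] [Finite G] (M C : Subgroup G), HasNH M C → C ≠ ⊥ →
    C ≤ ⁅⁅M, M⁆, ⁅M, M⁆⁆ →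
    C ≤ Cfsg.fittingHallOf M ∧ ¬ IsCyclic (Cfsg.fittingHallOf M)

/-- BG.  Prime action of `K` on `M_σ`.
Proof: `S1354.result hG M hM K hKU.cyclic hKU.hall` (`.2 hK1 k hk hk1`):
`M ⊓ C({k}) = K ⊔ K*`.  `⊇` is clear.  `x ∈ M_σ ⊓ C({k})`: `x = a * b`, `a ∈ K`, `b ∈ K*`
(`K`, `K*` commute); `a = x * b⁻¹ ∈ K ⊓ M_σ = ⊥` (coprime orders: the primes of `|K|` are in
`κ(M)`, outside `σ(M)`; `Helper22.BG1210.coprime_card_sigmaCore`), so `x = b ∈ K*`. -/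
def PAct : Prop :=
  ∀ {G : Type u} [Group G] [Finite G], Cfsg.IsMinSimpleOddOrder G →
  ∀ (M : Subgroup G), IsCoatom M → ∀ (K U : Subgroup G), Cfsg.IsSigmaDecomposition M K U →
    K ≠ ⊥ → ∀ k ∈ K, k ≠ 1 →
      Cfsg.sigmaCore M ⊓ Subgroup.centralizer ({k} : Set G) =
        Cfsg.sigmaCore M ⊓ Subgroup.centralizer (K : Set G)

/-- BG, `U ≠ 1`: `Q = M_σ`.
Proof: `sigmaCore_le`, `sigmaCore_normal`, `Helper22.BG147N0.nilpotent_of_U_ne_bot hG hM hKU hU`,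
Hall: `(S1350.result hG M hM).1` (a prime `p` dividing `|M_σ|` is in `σ(M)` and does not divide
`(sigmaCore M).relIndex M`), `inf_le_left`. -/
def NH1 : Prop :=
  ∀ {G : Type u} [Group G] [Finite G], Cfsg.IsMinSimpleOddOrder G →
  ∀ (M : Subgroup G), IsCoatom M → ∀ (K U : Subgroup G), Cfsg.IsSigmaDecomposition M K U →
    K ≠ ⊥ → U ≠ ⊥ →
    HasNH M (Cfsg.sigmaCore M ⊓ Subgroup.centralizer (K : Set G))

/-- BG, `U = 1`: `Q` = the normal Sylow `q`-subgroup of `M_σ` from `NormSylSub`.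
Proof: apply `NormSylSub` to `M`, `H = sigmaCore M`, `K`: `↥M` solvable
(`Helper9.BG10a.isSolvable_of_ne_top hG hM.1`), odd (`hG`: `|G|` odd); `H ≤ M`, `K ≤ M`
(`hKU.hall.1`), `M ≤ N(H)`, `M ≤ H ⊔ K` (`hKU.compl.2.2.2` with `U = ⊥`), coprime (as in
`PAct`), `hKU.cyclic`, `PAct`, `q = |K*|` prime (`S1373.result`), `K* ≤ ⁅H, H⁆`
(`S1365.result`: `⁅M, M⁆ = U ⊔ M_σ = M_σ` and `K* ≤ ⁅⁅M, M⁆, ⁅M, M⁆⁆`).  Then `Q ≤ H ≤ M`,
`Q` is a `q`-group (nilpotent), `Q.relIndex M = Q.relIndex H * H.relIndex M` with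
`q ∤ Q.relIndex H` and `q ∤ H.relIndex M` (`(S1350.result hG M hM).1`: `q ∣ |H|` so `q ∈ σ(M)`). -/
def NH0 : Prop :=
  ∀ {G : Type u} [Group G] [Finite G], Cfsg.IsMinSimpleOddOrder G →
  ∀ (M : Subgroup G), IsCoatom M → ∀ (K U : Subgroup G), Cfsg.IsSigmaDecomposition M K U →
    K ≠ ⊥ → U = ⊥ →
    HasNH M (Cfsg.sigmaCore M ⊓ Subgroup.centralizer (K : Set G))

end Cfsg.Agent.Lib.Helper23.S64Stmt
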