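import Mathlib
import Cfsg.Agent.S0520

/-!
# Soft subgroups of `p`-groups (Héthelyi): the normalizer tower

`E` abelian, self-centralizing, of index `p` in its normalizer, inside a finite `p`-group `P`.
* `tower E j`: the iterated normalizers of `E`;
* `centralizer_le`: an element of `E` not central in `N_P(E)` has centralizer `E`;
* `count_conj`: the counting inequality for conjugates;
* `tower_card`: each step of the tower below `⊤` has index `p`;
* `exists_tower_eq`: every overgroup of `E` is a member of the tower.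
-/

set_option autoImplicit false

namespace Cfsg.Agent.Lib.Helper23.Soft

open scoped commutatorElement

variable {P : Type*} [Group P]

/-- the normalizer tower of `E` -/
def tower (E : Subgroup P) : ℕ → Subgroup P
  | 0 => E
  | (j + 1) => Subgroup.normalizer (tower E j : Set P)

theorem tower_zero (E : Subgroup P) : tower E 0 = E := rfl

theorem tower_succ (E : Subgroup P) (j : ℕ) :
    tower E (j + 1) = Subgroup.normalizer (tower E j : Set P) := rfl

theorem tower_le_succ (E : Subgroup P) (j : ℕ) : tower E j ≤ tower E (j + 1) :=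
  Subgroup.le_normalizer

theorem tower_mono (E : Subgroup P) : Monotone (tower E) :=
  monotone_nat_of_le_succ (tower_le_succ E)

theorem le_tower (E : Subgroup P) (j : ℕ) : E ≤ tower E j :=
  tower_mono E (Nat.zero_le j)

/-- in a `p`-group, between `A` and `B` with `|B| = p |A|` there is nothing -/
theorem eq_of_lt_of_le_of_card [Finite P] {p : ℕ} [Fact p.Prime] (hP : IsPGroup p P)
    {A D B : Subgroup P} (h1 : A < D) (h2 : D ≤ B) (hcard : Nat.card B = p * Nat.card A) :
    D = B := by
  have hp : p.Prime := Fact.out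
  apply Subgroup.eq_of_le_of_card_ge h2
  obtain ⟨a, ha⟩ := (hP.to_subgroup A).exists_card_eq
  obtain ⟨d, hd⟩ := (hP.to_subgroup D).exists_card_eq
  have hlt := Cfsg.Agent.S0520.card_lt_of_lt h1
  rw [ha, hd] at hlt
  have had : a < d := (Nat.pow_lt_pow_iff_right hp.one_lt).1 hlt
  rw [hcard, ha, hd, ← pow_succ']
  exact Nat.pow_le_pow_right hp.pos had

/-- normalizers grow inside `p`-groups -/
theorem lt_inf_normalizer [Finite P] {p : ℕ} [Fact p.Prime] (hP : IsPGroup p P)
    {H L : Subgroup P} (h : H < L) : H < L ⊓ Subgroup.normalizer (H : Set P) := by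
  obtain ⟨x, hxL, hxH, hxN⟩ := Cfsg.Agent.S0520.exists_normalizer_not_mem (hP.to_subgroup L) h
  refine lt_of_le_of_ne (le_inf h.le Subgroup.le_normalizer) ?_
  intro heq
  apply hxH
  rw [heq]
  exact Subgroup.mem_inf.2 ⟨hxL, hxN⟩

section soft

variable [Finite P] {p : ℕ} [Fact p.Prime] (hP : IsPGroup p P) (E : Subgroup P)
  (hEab : ∀ x ∈ E, ∀ y ∈ E, x * y = y * x)
  (hC : Subgroup.centralizer (E : Set P) ≤ E)
  (hN : Nat.card (Subgroup.normalizer (E : Set P)) = p * Nat.card E)

include hP hEab hC hN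

/-- an element of `E` that is not central in `N_P(E)` has centralizer `E` -/
theorem centralizer_le {x : P} (hx : x ∈ E)
    (hx' : x ∉ Subgroup.centralizer (Subgroup.normalizer (E : Set P) : Set P)) :
    Subgroup.centralizer ({x} : Set P) ≤ E := by
  by_contra hcon
  have hEC : E ≤ Subgroup.centralizer ({x} : Set P) := by
    intro e he
    rw [Subgroup.mem_centralizer_singleton_iff]
    exact hEab e he x hx
  have hlt : E < Subgroup.centralizer ({x} : Set P) := lt_of_le_of_ne hEC (fun h => hcon h.ge)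
  have h1 := lt_inf_normalizer hP hlt
  have h2 := eq_of_lt_of_le_of_card hP h1 inf_le_right hN
  apply hx'
  rw [Subgroup.mem_centralizer_iff]
  intro n hn
  have hn' : n ∈ Subgroup.centralizer ({x} : Set P) := by
    have : n ∈ Subgroup.centralizer ({x} : Set P) ⊓ Subgroup.normalizer (E : Set P) := by
      rw [h2]; exact hn
    exact (Subgroup.mem_inf.1 this).1
  rw [Subgroup.mem_centralizer_singleton_iff] at hn'
  exact hn'

/-- the centre of `N_P(E)` meets `E` in a subgroup of index at least `p` -/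
theorem card_center_le :
    p * Nat.card (E ⊓ Subgroup.centralizer (Subgroup.normalizer (E : Set P) : Set P) :
      Subgroup P) ≤ Nat.card E := by
  have hp : p.Prime := Fact.out
  have hlt : E ⊓ Subgroup.centralizer (Subgroup.normalizer (E : Set P) : Set P) < E := by
    refine lt_of_le_of_ne (inf_le_left : E ⊓
      Subgroup.centralizer (Subgroup.normalizer (E : Set P) : Set P) ≤ E) ?_
    intro heq
    have h1 : E ≤ Subgroup.centralizer (Subgroup.normalizer (E : Set P) : Set P) := by
      intro e he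
      have h0 : e ∈ E ⊓ Subgroup.centralizer (Subgroup.normalizer (E : Set P) : Set P) := by
        rw [heq]; exact he
      exact (Subgroup.mem_inf.1 h0).2
    have h2 : Subgroup.normalizer (E : Set P) ≤ E := by
      intro n hn
      apply hC
      rw [Subgroup.mem_centralizer_iff]
      intro e he
      have := h1 he
      rw [Subgroup.mem_centralizer_iff] at this
      exact (this n hn).symm
    have h3 : Subgroup.normalizer (E : Set P) = E := le_antisymm h2 Subgroup.le_normalizer
    rw [h3] at hN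
    have hpos : 0 < Nat.card E := Nat.card_pos
    have : 1 * Nat.card E = p * Nat.card E := by rw [one_mul]; exact hN
    have := Nat.eq_of_mul_eq_mul_right hpos this
    exact hp.one_lt.ne this
  obtain ⟨a, ha⟩ := (hP.to_subgroup
    (E ⊓ Subgroup.centralizer (Subgroup.normalizer (E : Set P) : Set P))).exists_card_eq
  obtain ⟨d, hd⟩ := (hP.to_subgroup E).exists_card_eq
  have hlt' := Cfsg.Agent.S0520.card_lt_of_lt hlt
  rw [ha, hd] at hlt'
  have had : a < d := (Nat.pow_lt_pow_iff_right hp.one_lt).1 hlt'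
  rw [ha, hd, ← pow_succ']
  exact Nat.pow_le_pow_right hp.pos had

omit hN in
/-- two conjugates of elements with centralizer `E` that coincide give an element of `N_P(E)` -/
theorem mem_normalizer_of_conj_eq {g h x x' : P} (hx : x ∈ E) (hx' : x' ∈ E)
    (hcx : Subgroup.centralizer ({x} : Set P) ≤ E)
    (hcx' : Subgroup.centralizer ({x'} : Set P) ≤ E)
    (heq : g * x * g⁻¹ = h * x' * h⁻¹) : g⁻¹ * h ∈ Subgroup.normalizer (E : Set P) := by
  have hxx : x = (g⁻¹ * h) * x' * (g⁻¹ * h)⁻¹ := by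
    have : g⁻¹ * (g * x * g⁻¹) * g = x := by group
    rw [← this, heq]; group
  have hxx' : x' = (g⁻¹ * h)⁻¹ * x * (g⁻¹ * h) := by
    rw [hxx]; group
  rw [Subgroup.mem_normalizer_iff]
  intro e
  constructor
  · intro he
    apply hcx
    rw [Subgroup.mem_centralizer_singleton_iff]
    have hcomm : e * x' = x' * e := hEab e he x' hx'
    rw [hxx]
    calc g⁻¹ * h * e * (g⁻¹ * h)⁻¹ * (g⁻¹ * h * x' * (g⁻¹ * h)⁻¹)
        = g⁻¹ * h * (e * x') * (g⁻¹ * h)⁻¹ := by group
      _ = g⁻¹ * h * (x' * e) * (g⁻¹ * h)⁻¹ := by rw [hcomm]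
      _ = g⁻¹ * h * x' * (g⁻¹ * h)⁻¹ * (g⁻¹ * h * e * (g⁻¹ * h)⁻¹) := by group
  · intro he
    apply hcx'
    rw [Subgroup.mem_centralizer_singleton_iff]
    have hcomm : (g⁻¹ * h * e * (g⁻¹ * h)⁻¹) * x = x * (g⁻¹ * h * e * (g⁻¹ * h)⁻¹) :=
      hEab _ he x hx
    rw [hxx']
    calc e * ((g⁻¹ * h)⁻¹ * x * (g⁻¹ * h))
        = (g⁻¹ * h)⁻¹ * ((g⁻¹ * h * e * (g⁻¹ * h)⁻¹) * x) * (g⁻¹ * h) := by group
      _ = (g⁻¹ * h)⁻¹ * (x * (g⁻¹ * h * e * (g⁻¹ * h)⁻¹)) * (g⁻¹ * h) := by rw [hcomm]
      _ = (g⁻¹ * h)⁻¹ * x * (g⁻¹ * h) * e := by group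

omit hN in
/-- the counting inequality: conjugates under `M` of a set `T` of elements of `E` with
centralizer `E` stay inside `K` and rarely coincide -/
theorem count_conj (K M : Subgroup P) (T : Set P)
    (hT : ∀ x ∈ T, x ∈ E ∧ x ≠ 1 ∧ Subgroup.centralizer ({x} : Set P) ≤ E)
    (hEK : E ≤ K) (hMK : M ≤ Subgroup.normalizer (K : Set P)) :
    Nat.card M * T.ncard ≤ Nat.card (Subgroup.normalizer (E : Set P)) * (Nat.card K - 1) := by
  classical
  obtain ⟨Kp, hKp⟩ : ∃ Kp : Set P, Kp = (K : Set P) \ {1} := ⟨_, rfl⟩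
  have hconj : ∀ a : ↥M × ↥T, (a.1 : P) * (a.2 : P) * (a.1 : P)⁻¹ ∈ Kp := by
    intro a
    rw [hKp]
    refine ⟨?_, ?_⟩
    · have h1 := hMK a.1.2
      rw [Subgroup.mem_normalizer_iff] at h1
      exact (h1 _).1 (hEK (hT _ a.2.2).1)
    · intro h1
      rw [Set.mem_singleton_iff] at h1
      apply (hT _ a.2.2).2.1
      have : (a.2 : P) = (a.1 : P)⁻¹ * ((a.1 : P) * (a.2 : P) * (a.1 : P)⁻¹) * (a.1 : P) := by
        group
      rw [this, h1]; group
  obtain ⟨rep, hrep⟩ : ∃ rep : P → P, ∀ y : P,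
      (∃ a : ↥M × ↥T, (a.1 : P) * (a.2 : P) * (a.1 : P)⁻¹ = y) →
      ∃ x : P, x ∈ T ∧ rep y * x * (rep y)⁻¹ = y := by
    refine ⟨fun y => if h : ∃ a : ↥M × ↥T, (a.1 : P) * (a.2 : P) * (a.1 : P)⁻¹ = y then
      ((Classical.choose h).1 : P) else 1, ?_⟩
    intro y hy
    refine ⟨((Classical.choose hy).2 : P), (Classical.choose hy).2.2, ?_⟩
    simp only [dif_pos hy]
    exact Classical.choose_spec hy
  have hmem : ∀ a : ↥M × ↥T,
      (rep ((a.1 : P) * (a.2 : P) * (a.1 : P)⁻¹))⁻¹ * (a.1 : P) ∈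
        Subgroup.normalizer (E : Set P) := by
    intro a
    obtain ⟨x, hxT, hx⟩ := hrep _ ⟨a, rfl⟩
    exact mem_normalizer_of_conj_eq hP E hEab hC (hT x hxT).1 (hT _ a.2.2).1 (hT x hxT).2.2
      (hT _ a.2.2).2.2 hx
  have hinj : Function.Injective (fun a : ↥M × ↥T =>
      ((⟨(rep ((a.1 : P) * (a.2 : P) * (a.1 : P)⁻¹))⁻¹ * (a.1 : P), hmem a⟩ :
          ↥(Subgroup.normalizer (E : Set P))),
        (⟨(a.1 : P) * (a.2 : P) * (a.1 : P)⁻¹, hconj a⟩ : ↥Kp))) := by
    intro a b hab
    have h1 := congrArg (fun z => (z.1 : P)) hab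
    have h2 := congrArg (fun z => (z.2 : P)) hab
    simp only at h1 h2
    rw [h2] at h1
    have h3 : (a.1 : P) = (b.1 : P) := mul_left_cancel h1
    have h4 : (a.2 : P) = (b.2 : P) := by
      rw [h3] at h2
      exact mul_left_cancel (mul_right_cancel h2)
    exact Prod.ext (Subtype.ext h3) (Subtype.ext h4)
  have hle := Nat.card_le_card_of_injective _ hinj
  rw [Nat.card_prod, Nat.card_prod, Nat.card_coe_set_eq, Nat.card_coe_set_eq] at hle
  have hK1 : Kp.ncard = Nat.card K - 1 := by
    rw [hKp, Set.ncard_sdiff_singleton_of_mem (Subgroup.one_mem K), ← Nat.card_coe_set_eq]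
    rfl
  rw [hK1] at hle
  exact hle

/-- every proper overgroup of `E` has index `p` in its normalizer -/
theorem card_normalizer (K : Subgroup P) (hEK : E ≤ K) (hK : K ≠ ⊤) :
    Nat.card (Subgroup.normalizer (K : Set P)) = p * Nat.card K := by
  have hp : p.Prime := Fact.out
  obtain ⟨M, hM⟩ : ∃ M, M = Subgroup.normalizer (K : Set P) := ⟨_, rfl⟩
  rw [← hM]
  have hKM : K < M := by
    have h0 := lt_inf_normalizer hP (lt_top_iff_ne_top.2 hK)
    rw [top_inf_eq] at h0
    rw [hM]; exact h0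
  obtain ⟨b, hb⟩ := (hP.to_subgroup M).exists_card_eq
  obtain ⟨c, hc⟩ := (hP.to_subgroup K).exists_card_eq
  have hlt := Cfsg.Agent.S0520.card_lt_of_lt hKM
  rw [hb, hc] at hlt
  have hcb : c < b := (Nat.pow_lt_pow_iff_right hp.one_lt).1 hlt
  obtain ⟨Z1, hZ1⟩ : ∃ Z1 : Subgroup P,
      Z1 = E ⊓ Subgroup.centralizer (Subgroup.normalizer (E : Set P) : Set P) := ⟨_, rfl⟩
  have hZ1card := card_center_le hP E hEab hC hN
  rw [← hZ1] at hZ1card
  have hZ1E : Z1 ≤ E := by rw [hZ1]; exact inf_le_left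
  have hT : ∀ x ∈ ((E : Set P) \ (Z1 : Set P)),
      x ∈ E ∧ x ≠ 1 ∧ Subgroup.centralizer ({x} : Set P) ≤ E := by
    intro x hx
    refine ⟨hx.1, ?_, ?_⟩
    · intro h1
      apply hx.2
      rw [h1]
      exact Subgroup.one_mem Z1
    · apply centralizer_le hP E hEab hC hN hx.1
      intro hcen
      apply hx.2
      rw [hZ1]
      exact Subgroup.mem_inf.2 ⟨hx.1, hcen⟩
  have hcount := count_conj hP E hEab hC K M _ hT hEK (by rw [hM])
  have hTcard : ((E : Set P) \ (Z1 : Set P)).ncard = Nat.card E - Nat.card Z1 := by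
    rw [Set.ncard_sdiff (show (Z1 : Set P) ⊆ (E : Set P) from hZ1E)]
    rw [← Nat.card_coe_set_eq, ← Nat.card_coe_set_eq]
    rfl
  rw [hTcard, hN] at hcount
  by_contra hne
  have hb2 : c + 2 ≤ b := by
    by_contra h
    push Not at h
    have hbc : b = c + 1 := by omega
    apply hne
    rw [hb, hc, hbc, pow_succ']
  have hM2 : p ^ 2 * Nat.card K ≤ Nat.card M := by
    rw [hb, hc, ← pow_add]
    exact Nat.pow_le_pow_right hp.pos (by omega)
  obtain ⟨e, he⟩ : ∃ e, e = Nat.card E := ⟨_, rfl⟩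
  obtain ⟨z, hz⟩ : ∃ z, z = Nat.card Z1 := ⟨_, rfl⟩
  obtain ⟨k, hk⟩ : ∃ k, k = Nat.card K := ⟨_, rfl⟩
  obtain ⟨m, hm⟩ : ∃ m, m = Nat.card M := ⟨_, rfl⟩
  rw [← he, ← hz, ← hk, ← hm] at hcount
  rw [← hk, ← hm] at hM2
  rw [← he, ← hz] at hZ1card
  have hkpos : 0 < k := by rw [hk]; exact Nat.card_pos
  have hepos : 0 < e := by rw [he]; exact Nat.card_pos
  have hp2 := hp.two_le
  have hzle : z ≤ e := le_trans (Nat.le_mul_of_pos_left z hp.pos) hZ1card
  obtain ⟨d, hd⟩ : ∃ d, d = e - z := ⟨_, rfl⟩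
  rw [← hd] at hcount
  have hpd : e ≤ p * d := by
    have h1 : p * d + p * z = p * e := by
      rw [← mul_add, hd, Nat.sub_add_cancel hzle]
    have h2 : 2 * e ≤ p * e := Nat.mul_le_mul_right e hp2
    omega
  have h4 : p ^ 2 * k * d ≤ m * d := Nat.mul_le_mul_right d hM2
  have h5 : p * k * e ≤ p * k * (p * d) := Nat.mul_le_mul_left _ hpd
  have h6 : p * k * (p * d) = p ^ 2 * k * d := by ring
  have h7 : p * e * (k - 1) < p * e * k :=
    Nat.mul_lt_mul_of_pos_left (by omega) (Nat.mul_pos hp.pos hepos)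
  have h8 : p * e * k = p * k * e := by ring
  have : p * k * e < p * k * e := by
    calc p * k * e ≤ p * k * (p * d) := h5
      _ = p ^ 2 * k * d := h6
      _ ≤ m * d := h4
      _ ≤ p * e * (k - 1) := hcount
      _ < p * e * k := h7
      _ = p * k * e := h8
  exact lt_irrefl _ this

/-- the overgroups of `E` form a chain -/
theorem chain (K L : Subgroup P) (hEK : E ≤ K) (hEL : E ≤ L) : K ≤ L ∨ L ≤ K := by
  by_contra hcon
  push Not at hcon
  obtain ⟨h1, h2⟩ := hcon
  have hDK : K ⊓ L < K := lt_of_le_of_ne inf_le_left (fun h => h1 (inf_eq_left.1 h))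
  have hDL : K ⊓ L < L := lt_of_le_of_ne inf_le_right (fun h => h2 (inf_eq_right.1 h))
  have hDtop : K ⊓ L ≠ ⊤ := fun h => by
    rw [h] at hDK
    exact not_top_lt hDK
  have hcard := card_normalizer hP E hEab hC hN (K ⊓ L) (le_inf hEK hEL) hDtop
  have e1 := eq_of_lt_of_le_of_card hP (lt_inf_normalizer hP hDK) inf_le_right hcard
  have e2 := eq_of_lt_of_le_of_card hP (lt_inf_normalizer hP hDL) inf_le_right hcard
  have hle : Subgroup.normalizer ((K ⊓ L : Subgroup P) : Set P) ≤ K ⊓ L := by
    apply le_inf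
    · intro x hx
      have : x ∈ K ⊓ Subgroup.normalizer ((K ⊓ L : Subgroup P) : Set P) := by rw [e1]; exact hx
      exact (Subgroup.mem_inf.1 this).1
    · intro x hx
      have : x ∈ L ⊓ Subgroup.normalizer ((K ⊓ L : Subgroup P) : Set P) := by rw [e2]; exact hx
      exact (Subgroup.mem_inf.1 this).1
  have hlt := lt_inf_normalizer hP (lt_top_iff_ne_top.2 hDtop)
  rw [top_inf_eq] at hlt
  exact absurd (lt_of_lt_of_le hlt hle) (lt_irrefl _)

end soft

/-! ### The upper central series of a subgroup, inside the ambient group -/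

/-- the upper central series of `K`, as subgroups of `P` -/
def zs (K : Subgroup P) (j : ℕ) : Subgroup P := (Subgroup.upperCentralSeries ↥K j).map K.subtype

theorem zs_le (K : Subgroup P) (j : ℕ) : zs K j ≤ K := Subgroup.map_subtype_le _

theorem zs_zero (K : Subgroup P) : zs K 0 = ⊥ := by
  unfold zs
  rw [Subgroup.upperCentralSeries_zero, Subgroup.map_bot]

theorem mem_zs_succ (K : Subgroup P) (j : ℕ) (x : P) :
    x ∈ zs K (j + 1) ↔ x ∈ K ∧ ∀ y ∈ K, x * y * x⁻¹ * y⁻¹ ∈ zs K j := by
  constructor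
  · rintro ⟨x', hx', rfl⟩
    refine ⟨x'.2, fun y hy => ?_⟩
    have h1 := (Subgroup.mem_upperCentralSeries_succ_iff.1 hx') ⟨y, hy⟩
    exact ⟨_, h1, by simp [commutatorElement_def]⟩
  · rintro ⟨hx, h⟩
    refine ⟨⟨x, hx⟩, Subgroup.mem_upperCentralSeries_succ_iff.2 ?_, rfl⟩
    intro y
    obtain ⟨w, hw, hweq⟩ := h y y.2
    have h1 : w = ⁅(⟨x, hx⟩ : ↥K), y⁆ := by
      apply Subtype.ext
      rw [commutatorElement_def]
      exact hweq
    rw [← h1]
    exact hw

theorem zs_mono (K : Subgroup P) : Monotone (zs K) :=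
  fun _ _ h => Subgroup.map_mono (Subgroup.upperCentralSeries_mono _ h)

theorem zs_conj (K : Subgroup P) (j : ℕ) {g : P} (hg : g ∈ Subgroup.normalizer (K : Set P)) :
    ∀ x ∈ zs K j, g * x * g⁻¹ ∈ zs K j := by
  induction j with
  | zero =>
    intro x hx
    rw [zs_zero, Subgroup.mem_bot] at hx ⊢
    rw [hx]; group
  | succ j ih =>
    intro x hx
    rw [mem_zs_succ] at hx ⊢
    refine ⟨(Subgroup.mem_normalizer_iff.1 hg x).1 hx.1, ?_⟩
    intro y hy
    have hy' : g⁻¹ * y * g ∈ K := by
      apply (Subgroup.mem_normalizer_iff.1 hg (g⁻¹ * y * g)).2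
      have : g * (g⁻¹ * y * g) * g⁻¹ = y := by group
      rw [this]; exact hy
    have h1 := ih _ (hx.2 _ hy')
    have h2 : g * (x * (g⁻¹ * y * g) * x⁻¹ * (g⁻¹ * y * g)⁻¹) * g⁻¹ =
        g * x * g⁻¹ * y * (g * x * g⁻¹)⁻¹ * y⁻¹ := by group
    rw [← h2]; exact h1

theorem zs_eq_iff (K : Subgroup P) [Group.IsNilpotent ↥K] (n : ℕ) :
    zs K n = K ↔ Group.nilpotencyClass ↥K ≤ n := by
  rw [← Subgroup.upperCentralSeries_eq_top_iff_nilpotencyClass_le]
  constructor
  · intro h
    rw [eq_top_iff]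
    intro x _
    have hx : (x : P) ∈ zs K n := by rw [h]; exact x.2
    obtain ⟨x', hx', hxx⟩ := hx
    have : x' = x := Subtype.ext hxx
    rw [← this]; exact hx'
  · intro h
    apply le_antisymm (zs_le K n)
    intro x hx
    have hx' : (⟨x, hx⟩ : ↥K) ∈ Subgroup.upperCentralSeries ↥K n := by
      rw [h]; exact Subgroup.mem_top _
    exact ⟨⟨x, hx⟩, hx', rfl⟩

theorem zs_stable (K : Subgroup P) [Group.IsNilpotent ↥K] (j : ℕ)
    (h : zs K (j + 1) = zs K j) : zs K j = K := by
  have key : ∀ m : ℕ, zs K (j + m) = zs K j := by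
    intro m
    induction m with
    | zero => rfl
    | succ m ih =>
      ext x
      rw [← add_assoc, mem_zs_succ, ih, ← mem_zs_succ, h]
  have h1 : zs K (Group.nilpotencyClass ↥K) = K := (zs_eq_iff K _).2 le_rfl
  apply le_antisymm (zs_le K j)
  rw [← key (Group.nilpotencyClass ↥K)]
  calc K = zs K (Group.nilpotencyClass ↥K) := h1.symm
    _ ≤ zs K (j + Group.nilpotencyClass ↥K) := zs_mono K (Nat.le_add_left _ _)

/-- the elements of `K` commuting with `u` modulo a subgroup `Z` normalized by `K` -/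
def commMod (K Z : Subgroup P) (hZ : ∀ k ∈ K, ∀ z ∈ Z, k * z * k⁻¹ ∈ Z) (u : P) :
    Subgroup P where
  carrier := {y | y ∈ K ∧ u * y * u⁻¹ * y⁻¹ ∈ Z}
  one_mem' := ⟨K.one_mem, by simp⟩
  mul_mem' := by
    rintro a b ⟨ha, ha'⟩ ⟨hb, hb'⟩
    refine ⟨K.mul_mem ha hb, ?_⟩
    have h1 : u * (a * b) * u⁻¹ * (a * b)⁻¹ =
        (u * a * u⁻¹ * a⁻¹) * (a * (u * b * u⁻¹ * b⁻¹) * a⁻¹) := by group
    rw [h1]
    exact Z.mul_mem ha' (hZ a ha _ hb')
  inv_mem' := by
    rintro a ⟨ha, ha'⟩
    refine ⟨K.inv_mem ha, ?_⟩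
    have h1 : u * a⁻¹ * u⁻¹ * a⁻¹⁻¹ = a⁻¹ * (u * a * u⁻¹ * a⁻¹)⁻¹ * a⁻¹⁻¹ := by group
    rw [h1]
    exact hZ _ (K.inv_mem ha) _ (Z.inv_mem ha')

theorem mem_commMod (K Z : Subgroup P) (hZ : ∀ k ∈ K, ∀ z ∈ Z, k * z * k⁻¹ ∈ Z) (u y : P) :
    y ∈ commMod K Z hZ u ↔ y ∈ K ∧ u * y * u⁻¹ * y⁻¹ ∈ Z := Iff.rfl

theorem commMod_symm (K Z : Subgroup P) (hZ : ∀ k ∈ K, ∀ z ∈ Z, k * z * k⁻¹ ∈ Z) {u y : P}
    (hu : u ∈ K) (h : y ∈ commMod K Z hZ u) : u ∈ commMod K Z hZ y := by
  refine ⟨hu, ?_⟩
  have h1 : y * u * y⁻¹ * u⁻¹ = (u * y * u⁻¹ * y⁻¹)⁻¹ := by group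
  rw [h1]
  exact Z.inv_mem h.2

section softClass

variable [Finite P] {p : ℕ} [Fact p.Prime] (hP : IsPGroup p P) (E : Subgroup P)
  (hEab : ∀ x ∈ E, ∀ y ∈ E, x * y = y * x)
  (hC : Subgroup.centralizer (E : Set P) ≤ E)
  (hN : Nat.card (Subgroup.normalizer (E : Set P)) = p * Nat.card E)

include hP hEab hC hN

/-- the members of the tower below a proper member grow by the factor `p` -/
theorem tower_card (j : ℕ) (hj : tower E j ≠ ⊤) :
    Nat.card (tower E (j + 1)) = p * Nat.card (tower E j) :=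
  card_normalizer hP E hEab hC hN (tower E j) (le_tower E j) hj

theorem tower_lt (j : ℕ) (hj : tower E j ≠ ⊤) : tower E j < tower E (j + 1) := by
  have h0 := lt_inf_normalizer hP (lt_top_iff_ne_top.2 hj)
  rw [top_inf_eq] at h0
  exact h0

/-- an overgroup of `E` of index `p ^ i` over `E` is the `i`-th member of the tower -/
theorem eq_tower (K : Subgroup P) (hEK : E ≤ K) (i : ℕ) (hcard : Nat.card K = p ^ i * Nat.card E) :
    K = tower E i := by
  have hp : p.Prime := Fact.out
  have key : ∀ j : ℕ, j ≤ i → tower E j ≤ K ∧ Nat.card (tower E j) = p ^ j * Nat.card E := by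
    intro j
    induction j with
    | zero => intro _; exact ⟨hEK, by rw [pow_zero, one_mul]; rfl⟩
    | succ j ih =>
      intro hj
      obtain ⟨h1, h2⟩ := ih (by omega)
      have hlt : tower E j < K := by
        refine lt_of_le_of_ne h1 ?_
        intro heq
        rw [← heq, h2] at hcard
        have hpos : 0 < Nat.card E := Nat.card_pos
        have := Nat.eq_of_mul_eq_mul_right hpos hcard
        have := Nat.pow_right_injective hp.two_le this
        omega
      have hne : tower E j ≠ ⊤ := fun h => by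
        rw [h] at hlt
        exact not_top_lt hlt
      have hc := tower_card hP E hEab hC hN j hne
      have h3 := eq_of_lt_of_le_of_card hP (lt_inf_normalizer hP hlt) inf_le_right hc
      refine ⟨?_, ?_⟩
      · intro x hx
        have : x ∈ K ⊓ Subgroup.normalizer (tower E j : Set P) := by rw [h3]; exact hx
        exact (Subgroup.mem_inf.1 this).1
      · rw [hc, h2, pow_succ]; ring
  obtain ⟨h1, h2⟩ := key i le_rfl
  exact (Subgroup.eq_of_le_of_card_ge h1 (by rw [h2, hcard])).symm

/-- the nilpotency class of a proper member of the tower -/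
theorem class_tower (i : ℕ) (hi : tower E i ≠ ⊤) [Group.IsNilpotent ↥(tower E i)] :
    Group.nilpotencyClass ↥(tower E i) = i + 1 := by
  have hp : p.Prime := Fact.out
  obtain ⟨K, hK⟩ : ∃ K, K = tower E i := ⟨_, rfl⟩
  obtain ⟨M, hM⟩ : ∃ M, M = Subgroup.normalizer (K : Set P) := ⟨_, rfl⟩
  have hKM : K ≤ M := by rw [hM]; exact Subgroup.le_normalizer
  have hKltM : K < M := by
    rw [hK, hM, hK]
    exact tower_lt hP E hEab hC hN i hi
  -- basic facts on the tower below `i`
  have t1 : ∀ j, j ≤ i → tower E j ≠ ⊤ := by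
    intro j hj h
    apply hi
    rw [eq_top_iff, ← h]
    exact tower_mono E hj
  have t3 : ∀ j, j < i → ¬ K ≤ tower E j := by
    intro j hj hle
    have h1 := tower_lt hP E hEab hC hN j (t1 j hj.le)
    have h2 : tower E (j + 1) ≤ K := by rw [hK]; exact tower_mono E hj
    exact absurd (lt_of_lt_of_le h1 (h2.trans hle)) (lt_irrefl _)
  have tK : ∀ j, j ≤ i → tower E j ≤ K := by
    intro j hj; rw [hK]; exact tower_mono E hj
  -- the conjugates under `M` of a member of the tower generate `K`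
  have NC : ∀ j, j ≤ i →
      Subgroup.closure {y : P | ∃ g ∈ M, ∃ n ∈ tower E j, y = g * n * g⁻¹} = K := by
    intro j hj
    obtain ⟨L, hL⟩ : ∃ L, L = Subgroup.closure
        {y : P | ∃ g ∈ M, ∃ n ∈ tower E j, y = g * n * g⁻¹} := ⟨_, rfl⟩
    rw [← hL]
    have hEL : E ≤ L := by
      intro e he
      rw [hL]
      apply Subgroup.subset_closure
      exact ⟨1, M.one_mem, e, le_tower E j he, by group⟩
    have hLK : L ≤ K := by
      rw [hL, Subgroup.closure_le]
      rintro y ⟨g, hg, n, hn, rfl⟩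
      rw [hM] at hg
      exact (Subgroup.mem_normalizer_iff.1 hg n).1 (tK j hj hn)
    have hML : M ≤ Subgroup.normalizer (L : Set P) := by
      have hconj : ∀ a ∈ M, ∀ y ∈ L, a * y * a⁻¹ ∈ L := by
        intro a ha y hy
        rw [hL] at hy ⊢
        induction hy using Subgroup.closure_induction with
        | mem y hy =>
          obtain ⟨g, hg, n, hn, rfl⟩ := hy
          apply Subgroup.subset_closure
          exact ⟨a * g, M.mul_mem ha hg, n, hn, by group⟩
        | one => rw [mul_one, mul_inv_cancel]; exact Subgroup.one_mem _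
        | mul x y _ _ hx hy =>
          have : a * (x * y) * a⁻¹ = (a * x * a⁻¹) * (a * y * a⁻¹) := by group
          rw [this]; exact Subgroup.mul_mem _ hx hy
        | inv x _ hx =>
          have : a * x⁻¹ * a⁻¹ = (a * x * a⁻¹)⁻¹ := by group
          rw [this]; exact Subgroup.inv_mem _ hx
      intro a ha
      rw [Subgroup.mem_normalizer_iff]
      intro y
      constructor
      · exact hconj a ha y
      · intro hy
        have := hconj a⁻¹ (M.inv_mem ha) _ hy
        have h2 : a⁻¹ * (a * y * a⁻¹) * a⁻¹⁻¹ = y := by group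
        rw [h2] at this
        exact this
    by_contra hne
    have hlt : L < K := lt_of_le_of_ne hLK hne
    have hLtop : L ≠ ⊤ := fun h => by
      rw [h] at hlt
      exact not_top_lt hlt
    have hcard := card_normalizer hP E hEab hC hN L hEL hLtop
    have h1 := eq_of_lt_of_le_of_card hP hlt (hKM.trans hML) hcard
    have h2 : M ≤ K := by rw [h1]; exact hML
    exact absurd (lt_of_lt_of_le hKltM h2) (lt_irrefl _)
  -- normality of the terms of the series
  have hZn : ∀ j, ∀ k ∈ K, ∀ z ∈ zs K j, k * z * k⁻¹ ∈ zs K j := by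
    intro j k hk z hz
    exact zs_conj K j (Subgroup.le_normalizer hk) z hz
  haveI : Group.IsNilpotent ↥K := by rw [hK]; infer_instance
  -- the main induction
  have R : ∀ j, j ≤ i →
      (∀ x ∈ tower E j, ∀ y ∈ tower E j, x * y * x⁻¹ * y⁻¹ ∈ zs K j) ∧
        zs K (j + 1) ≤ tower E j := by
    intro j
    induction j with
    | zero =>
      intro _
      refine ⟨?_, ?_⟩
      · intro x hx y hy
        rw [zs_zero, Subgroup.mem_bot]
        have := hEab x hx y hy
        rw [this]; group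
      · intro z hz
        rw [mem_zs_succ] at hz
        apply hC
        rw [Subgroup.mem_centralizer_iff]
        intro e he
        have h1 := hz.2 e (tK 0 (Nat.zero_le i) he)
        rw [zs_zero, Subgroup.mem_bot] at h1
        have h2 : z * e = e * z := by
          have : z * e = (z * e * z⁻¹ * e⁻¹) * (e * z) := by group
          rw [this, h1, one_mul]
        exact h2.symm
    | succ j ih =>
      intro hj
      obtain ⟨Ra, Rb⟩ := ih (by omega)
      have hjK : tower E j ≤ K := tK j (by omega)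
      -- Step A
      have stepA : ¬ zs K (j + 2) ≤ tower E j := by
        intro hsub
        have h1 : zs K (j + 2) ≤ zs K (j + 1) := by
          intro u hu
          rw [mem_zs_succ]
          refine ⟨zs_le K _ hu, ?_⟩
          have h2' : Subgroup.closure {y : P | ∃ g ∈ M, ∃ n ∈ tower E j, y = g * n * g⁻¹} ≤
              commMod K (zs K j) (hZn j) u := by
            rw [Subgroup.closure_le]
            rintro y ⟨g, hg, n, hn, rfl⟩
            have hgN : g ∈ Subgroup.normalizer (K : Set P) := by rw [← hM]; exact hg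
            have hgN' : g⁻¹ ∈ Subgroup.normalizer (K : Set P) := Subgroup.inv_mem _ hgN
            refine ⟨(Subgroup.mem_normalizer_iff.1 hgN n).1 (hjK hn), ?_⟩
            have hu' : g⁻¹ * u * g⁻¹⁻¹ ∈ zs K (j + 2) := zs_conj K (j + 2) hgN' u hu
            have h3 := Ra _ (hsub hu') n hn
            have h4 := zs_conj K j hgN _ h3
            have h5 : g * (g⁻¹ * u * g⁻¹⁻¹ * n * (g⁻¹ * u * g⁻¹⁻¹)⁻¹ * n⁻¹) * g⁻¹ =
                u * (g * n * g⁻¹) * u⁻¹ * (g * n * g⁻¹)⁻¹ := by group
            rw [← h5]; exact h4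
          have h2 : K ≤ commMod K (zs K j) (hZn j) u := (NC j (by omega)).ge.trans h2'
          intro y hy
          exact (h2 hy).2
        have h2 : zs K (j + 1 + 1) = zs K (j + 1) :=
          le_antisymm h1 (zs_mono K (Nat.le_succ _))
        have h3 := zs_stable K (j + 1) h2
        apply t3 j (by omega)
        rw [← h3]; exact Rb
      -- Step B
      have keyB : ∀ z ∈ zs K (j + 2), ∀ n ∈ tower E j, z * n * z⁻¹ ∈ tower E j := by
        intro z hz n hn
        have h1 := ((mem_zs_succ K (j + 1) z).1 hz).2 n (hjK hn)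
        have h2 : z * n * z⁻¹ = (z * n * z⁻¹ * n⁻¹) * n := by group
        rw [h2]
        exact Subgroup.mul_mem _ (Rb h1) hn
      have stepB : zs K (j + 2) ≤ tower E (j + 1) := by
        intro z hz
        rw [tower_succ, Subgroup.mem_normalizer_iff]
        intro n
        constructor
        · exact keyB z hz n
        · intro hn
          have := keyB z⁻¹ (Subgroup.inv_mem _ hz) _ hn
          have h2 : z⁻¹ * (z * n * z⁻¹) * z⁻¹⁻¹ = n := by group
          rw [h2] at this
          exact this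
      have hsup : tower E j ⊔ zs K (j + 2) = tower E (j + 1) := by
        apply eq_of_lt_of_le_of_card hP (A := tower E j)
        · refine lt_of_le_of_ne le_sup_left ?_
          intro heq
          apply stepA
          rw [heq]; exact le_sup_right
        · exact sup_le (tower_le_succ E j) stepB
        · exact tower_card hP E hEab hC hN j (t1 j (by omega))
      refine ⟨?_, stepB⟩
      have hj1K : tower E (j + 1) ≤ K := tK (j + 1) hj
      have claim1 : ∀ u ∈ tower E j,
          tower E (j + 1) ≤ commMod K (zs K (j + 1)) (hZn (j + 1)) u := by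
        intro u hu
        rw [← hsup]
        apply sup_le
        · intro n hn
          exact ⟨hjK hn, zs_mono K (Nat.le_succ j) (Ra u hu n hn)⟩
        · intro y hy
          refine ⟨zs_le K _ hy, ?_⟩
          have h1 := ((mem_zs_succ K (j + 1) y).1 hy).2 u (hjK hu)
          have h2 : u * y * u⁻¹ * y⁻¹ = (y * u * y⁻¹ * u⁻¹)⁻¹ := by group
          rw [h2]
          exact Subgroup.inv_mem _ h1
      have claim2 : ∀ u ∈ zs K (j + 2), K ≤ commMod K (zs K (j + 1)) (hZn (j + 1)) u := by
        intro u hu y hy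
        exact ⟨hy, ((mem_zs_succ K (j + 1) u).1 hu).2 y hy⟩
      intro x hx y hy
      have claim3 : tower E (j + 1) ≤ commMod K (zs K (j + 1)) (hZn (j + 1)) y := by
        rw [← hsup]
        apply sup_le
        · intro u hu
          exact commMod_symm K _ (hZn (j + 1)) (hjK hu) (claim1 u hu hy)
        · intro u hu
          exact commMod_symm K _ (hZn (j + 1)) (zs_le K _ hu) (claim2 u hu (hj1K hy))
      have h1 := (claim3 hx).2
      have h2 : x * y * x⁻¹ * y⁻¹ = (y * x * y⁻¹ * x⁻¹)⁻¹ := by group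
      rw [h2]
      exact Subgroup.inv_mem _ h1
  -- conclusion
  obtain ⟨Ra, Rb⟩ := R i le_rfl
  have hclass : Group.nilpotencyClass ↥K = i + 1 := by
    apply le_antisymm
    · rw [← zs_eq_iff]
      apply le_antisymm (zs_le K _)
      intro x hx
      rw [mem_zs_succ]
      refine ⟨hx, fun y hy => ?_⟩
      rw [hK] at hx hy
      exact Ra x hx y hy
    · by_contra hlt
      push Not at hlt
      have hle : Group.nilpotencyClass ↥K ≤ i := by omega
      rw [← zs_eq_iff] at hle
      rcases Nat.eq_zero_or_pos i with h0 | hpos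
      · rw [h0, zs_zero] at hle
        have hE : E = ⊥ := by
          have hKE : K = E := by rw [hK, h0]; rfl
          rw [← hKE, ← hle]
        rw [hE] at hN
        have hC' := hC
        rw [hE] at hC'
        have htop : (⊤ : Subgroup P) ≤ ⊥ := by
          intro x _
          apply hC'
          rw [Subgroup.mem_centralizer_iff]
          intro e he
          have he1 : e = 1 := by simpa using he
          rw [he1, one_mul, mul_one]
        have hbot : Subgroup.normalizer (((⊥ : Subgroup P) : Set P)) = ⊥ :=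
          le_antisymm (le_top.trans htop) bot_le
        rw [hbot, Subgroup.card_bot, mul_one] at hN
        exact hp.one_lt.ne hN
      · obtain ⟨j, rfl⟩ : ∃ j, i = j + 1 := ⟨i - 1, by omega⟩
        obtain ⟨-, Rb'⟩ := R j (by omega)
        apply t3 j (by omega)
        rw [← hle]
        exact Rb'
  have hfinal : ∀ (K' : Subgroup P) (_ : K' = K) [Group.IsNilpotent ↥K'],
      Group.nilpotencyClass ↥K' = i + 1 := by
    intro K' hK'
    subst hK'
    intro _
    exact hclass
  exact hfinal (tower E i) hK.symm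

end softClass

end Cfsg.Agent.Lib.Helper23.Soft
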