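import Mathlib
import Cfsg.Agent.Lib.Helper32.T3Stmt

/-!
# S3701 piece KGRP: a normal subgroup containing `u1` but not `x1`
-/

set_option autoImplicit false

namespace Cfsg.Agent.Lib.Helper23.T3KGRP

open Cfsg Cfsg.Agent.Lib.Helper32.T3Stmt

universe u

section basic

variable {G : Type u} [Group G] {T H : Subgroup G} {x1 x2 x3 u1 u2 u3 : G}

theorem x1_mem (h : Cfg3 T H x1 x2 x3 u1 u2 u3) : x1 ∈ T :=
  (h.memT x1).2 ⟨1, 0, 0, by simp⟩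

theorem x2_mem (h : Cfg3 T H x1 x2 x3 u1 u2 u3) : x2 ∈ T :=
  (h.memT x2).2 ⟨0, 1, 0, by simp⟩

theorem x3_mem (h : Cfg3 T H x1 x2 x3 u1 u2 u3) : x3 ∈ T :=
  (h.memT x3).2 ⟨0, 0, 1, by simp⟩

theorem T_le_H (h : Cfg3 T H x1 x2 x3 u1 u2 u3) : T ≤ H :=
  fun t ht => (h.memH t).2 ⟨t, ht, Or.inl rfl⟩

/-- conjugation by `u` preserves `T` when it maps the generators into `T` -/
theorem conj_mem_T (h : Cfg3 T H x1 x2 x3 u1 u2 u3) (u : G) (h1 : u * x1 * u⁻¹ ∈ T)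
    (h2 : u * x2 * u⁻¹ ∈ T) (h3 : u * x3 * u⁻¹ ∈ T) : ∀ t ∈ T, u * t * u⁻¹ ∈ T := by
  intro t ht
  obtain ⟨i, j, k, rfl⟩ := (h.memT t).1 ht
  have e : u * (x1 ^ i * x2 ^ j * x3 ^ k) * u⁻¹ =
      (u * x1 * u⁻¹) ^ i * (u * x2 * u⁻¹) ^ j * (u * x3 * u⁻¹) ^ k := by
    rw [conj_pow, conj_pow, conj_pow]
    group
  rw [e]
  exact T.mul_mem (T.mul_mem (T.pow_mem h1 i) (T.pow_mem h2 j)) (T.pow_mem h3 k)

theorem u1_conj (h : Cfg3 T H x1 x2 x3 u1 u2 u3) : ∀ t ∈ T, u1 * t * u1⁻¹ ∈ T :=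
  conj_mem_T h u1 (by rw [mul_inv_eq_iff_eq_mul.2 h.a11]; exact x1_mem h)
    (by rw [h.a12]; exact T.inv_mem (x2_mem h)) (by rw [h.a13]; exact T.inv_mem (x3_mem h))

theorem u2_conj (h : Cfg3 T H x1 x2 x3 u1 u2 u3) : ∀ t ∈ T, u2 * t * u2⁻¹ ∈ T :=
  conj_mem_T h u2 (by rw [h.a21]; exact T.inv_mem (x1_mem h))
    (by rw [mul_inv_eq_iff_eq_mul.2 h.a22]; exact x2_mem h)
    (by rw [h.a23]; exact T.inv_mem (x3_mem h))

theorem u3_conj (h : Cfg3 T H x1 x2 x3 u1 u2 u3) : ∀ t ∈ T, u3 * t * u3⁻¹ ∈ T :=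
  conj_mem_T h u3 (by rw [h.a31]; exact T.inv_mem (x1_mem h))
    (by rw [h.a32]; exact T.inv_mem (x2_mem h))
    (by rw [mul_inv_eq_iff_eq_mul.2 h.a33]; exact x3_mem h)

/-- squares of elements of `H` lie in `T` -/
theorem sq_mem_T (h : Cfg3 T H x1 x2 x3 u1 u2 u3) : ∀ s ∈ H, s ^ 2 ∈ T := by
  intro s hs
  obtain ⟨t, ht, hst⟩ := (h.memH s).1 hs
  have key : ∀ u : G, u ^ 2 = 1 → (∀ t ∈ T, u * t * u⁻¹ ∈ T) → (t * u) ^ 2 ∈ T := by
    intro u hu hc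
    have e : (t * u) ^ 2 = t * (u * t * u⁻¹) * u ^ 2 := by
      rw [pow_two, pow_two]
      group
    rw [e, hu, mul_one]
    exact T.mul_mem ht (hc t ht)
  rcases hst with rfl | rfl | rfl | rfl
  · exact T.pow_mem ht 2
  · exact key u1 h.u1sq (u1_conj h)
  · exact key u2 h.u2sq (u2_conj h)
  · exact key u3 h.u3sq (u3_conj h)

/-- the `3`-elements of `H` lie in `T` -/
theorem three_mem_T (h : Cfg3 T H x1 x2 x3 u1 u2 u3) {s : G} (hs : s ∈ H) {a : ℕ}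
    (hsa : s ^ 3 ^ a = 1) : s ∈ T := by
  have hodd : Odd (3 ^ a) := Odd.pow (by decide)
  obtain ⟨c, hc⟩ := hodd
  have e : s = (s ^ 2) ^ (c + 1) := by
    rw [← pow_mul]
    have e2 : 2 * (c + 1) = 3 ^ a + 1 := by omega
    rw [e2, pow_succ, hsa, one_mul]
  rw [e]
  exact T.pow_mem (sq_mem_T h s hs) _

/-- an element of order dividing `3` inverted by an element of a normal subgroup lies in it -/
theorem mem_of_inv {K : Subgroup G} (hK : K.Normal) {u x : G} (huK : u ∈ K)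
    (hux : u * x * u⁻¹ = x⁻¹) (hx3 : x ^ 3 = 1) : x ∈ K := by
  have h1 : x * u * x⁻¹ * u⁻¹ ∈ K := K.mul_mem (hK.conj_mem u huK x) (K.inv_mem huK)
  have h3 : u * x⁻¹ * u⁻¹ = x := by rw [← conj_inv, hux, inv_inv]
  have h2 : x * u * x⁻¹ * u⁻¹ = x * x := by
    calc x * u * x⁻¹ * u⁻¹ = x * (u * x⁻¹ * u⁻¹) := by group
      _ = x * x := by rw [h3]
  rw [h2] at h1
  have h4 : x = (x * x) * (x * x) := by
    have e3 : x ^ 3 = x * x * x := by rw [pow_succ, pow_two]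
    have e : (x * x) * (x * x) = x ^ 3 * x := by
      rw [e3]
      group
    rw [e, hx3, one_mul]
  rw [h4]
  exact K.mul_mem h1 h1

end basic

/-- KGRP -/
theorem main (hTI : TI.{u}) : KGRP.{u} := by
  intro G _ _ T H x1 x2 x3 u1 u2 u3 h K hK hu1K hx1K
  have hx2K : x2 ∈ K := mem_of_inv hK hu1K h.a12 h.x23
  have hx3K : x3 ∈ K := mem_of_inv hK hu1K h.a13 h.x33
  have hx1i : ∀ i : ℕ, x1 ^ i ∈ K → x1 ^ i = 1 := by
    intro i hi
    rw [pow_eq_pow_mod i h.x13] at hi ⊢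
    obtain ⟨r, hr, hr3⟩ : ∃ r, r = i % 3 ∧ r < 3 := ⟨_, rfl, Nat.mod_lt _ (by norm_num)⟩
    rw [← hr] at hi ⊢
    interval_cases r
    · simp
    · exfalso
      apply hx1K
      simpa using hi
    · exfalso
      apply hx1K
      have e : x1 = x1 ^ 2 * x1 ^ 2 := by
        have e3 : x1 ^ 3 = x1 * x1 * x1 := by rw [pow_succ, pow_two]
        have e2 : x1 ^ 2 * x1 ^ 2 = x1 ^ 3 * x1 := by
          rw [e3, pow_two]
          group
        rw [e2, h.x13, one_mul]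
      rw [e]
      exact K.mul_mem hi hi
  have hno : ∀ u : G, u * x1 * u⁻¹ = x1⁻¹ → ∀ (i : ℕ) (w : G), w ∈ K →
      x1 ^ i * w * u ∈ K → False := by
    intro u hu i w hw hg
    have ha3 : (x1 ^ i) ^ 3 = 1 := by rw [← pow_mul, mul_comm, pow_mul, h.x13, one_pow]
    have h2 : u * x1 ^ i * u⁻¹ = (x1 ^ i)⁻¹ := by rw [← conj_pow, hu, inv_pow]
    obtain ⟨a, ha⟩ : ∃ a, a = x1 ^ i := ⟨_, rfl⟩
    rw [← ha] at ha3 h2 hg
    have h1 : a * u ∈ K := by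
      have e : a * u = (a * w * u) * (u⁻¹ * w⁻¹ * u⁻¹⁻¹) := by group
      rw [e]
      exact K.mul_mem hg (hK.conj_mem _ (K.inv_mem hw) _)
    have h4 : u * a⁻¹ * u⁻¹ = a := by rw [← conj_inv, h2, inv_inv]
    have h3 : u ∈ K := by
      have e : u = a * (a * u) * a⁻¹ := by
        symm
        calc a * (a * u) * a⁻¹ = a * a * (u * a⁻¹ * u⁻¹) * u := by group
          _ = a * a * a * u := by rw [h4]
          _ = a ^ 3 * u := by rw [pow_succ, pow_two]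
          _ = u := by rw [ha3, one_mul]
      rw [e]
      exact hK.conj_mem _ h1 _
    exact hx1K (mem_of_inv hK h3 hu h.x13)
  have hc1 : ∀ g ∈ H, g ∈ K ↔ ∃ j k l : ℕ, g = x2 ^ j * x3 ^ k * u1 ^ l := by
    intro g hgH
    constructor
    · intro hgK
      obtain ⟨t, ht, hgt⟩ := (h.memH g).1 hgH
      obtain ⟨i, j, k, rfl⟩ := (h.memT t).1 ht
      have hw : x2 ^ j * x3 ^ k ∈ K := K.mul_mem (K.pow_mem hx2K j) (K.pow_mem hx3K k)
      rcases hgt with rfl | rfl | rfl | rfl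
      · have h1 : x1 ^ i ∈ K := by
          have e : x1 ^ i = (x1 ^ i * x2 ^ j * x3 ^ k) * (x2 ^ j * x3 ^ k)⁻¹ := by group
          rw [e]
          exact K.mul_mem hgK (K.inv_mem hw)
        refine ⟨j, k, 0, ?_⟩
        rw [hx1i i h1, one_mul, pow_zero, mul_one]
      · have h1 : x1 ^ i ∈ K := by
          have e : x1 ^ i = (x1 ^ i * x2 ^ j * x3 ^ k * u1) * u1⁻¹ * (x2 ^ j * x3 ^ k)⁻¹ := by
            group
          rw [e]
          exact K.mul_mem (K.mul_mem hgK (K.inv_mem hu1K)) (K.inv_mem hw)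
        refine ⟨j, k, 1, ?_⟩
        rw [hx1i i h1, one_mul, pow_one]
      · exfalso
        apply hno u2 h.a21 i (x2 ^ j * x3 ^ k) hw
        have e : x1 ^ i * (x2 ^ j * x3 ^ k) * u2 = x1 ^ i * x2 ^ j * x3 ^ k * u2 := by group
        rw [e]
        exact hgK
      · exfalso
        apply hno u3 h.a31 i (x2 ^ j * x3 ^ k) hw
        have e : x1 ^ i * (x2 ^ j * x3 ^ k) * u3 = x1 ^ i * x2 ^ j * x3 ^ k * u3 := by group
        rw [e]
        exact hgK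
    · rintro ⟨j, k, l, rfl⟩
      exact K.mul_mem (K.mul_mem (K.pow_mem hx2K j) (K.pow_mem hx3K k)) (K.pow_mem hu1K l)
  refine ⟨hc1, ?_⟩
  have := hK
  have ho2 : orderOf x2 = 3 := orderOf_eq_prime h.x23 h.ne2
  have hP0 : IsPGroup 3 (Subgroup.zpowers (⟨x2, hx2K⟩ : ↥K)) := by
    apply IsPGroup.of_card (n := 1)
    rw [Nat.card_zpowers, pow_one, ← Subgroup.orderOf_coe]
    exact ho2
  obtain ⟨S', hS'⟩ := hP0.exists_le_sylow
  have hx2S : (⟨x2, hx2K⟩ : ↥K) ∈ (S' : Subgroup ↥K) := hS' (Subgroup.mem_zpowers _)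
  have hnt : Nontrivial ↥(S' : Subgroup ↥K) := ⟨⟨⟨⟨x2, hx2K⟩, hx2S⟩, 1, by
    intro hh
    apply h.ne2
    have e := congrArg (fun y : ↥(S' : Subgroup ↥K) => ((y : ↥K) : G)) hh
    simpa using e⟩⟩
  have hcn := (S'.isPGroup').center_nontrivial
  obtain ⟨zc, hzc1⟩ := exists_ne (1 : Subgroup.center ↥(S' : Subgroup ↥K))
  have hcomm : ∀ s' : ↥K, s' ∈ (S' : Subgroup ↥K) →
      (s' : G) * (((zc : ↥(S' : Subgroup ↥K)) : ↥K) : G) =
        (((zc : ↥(S' : Subgroup ↥K)) : ↥K) : G) * (s' : G) := by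
    intro s' hs'
    have e := congrArg (fun y : ↥(S' : Subgroup ↥K) => ((y : ↥K) : G))
      (Subgroup.mem_center_iff.1 zc.2 ⟨s', hs'⟩)
    simpa using e
  have hthree : ∀ s' : ↥K, s' ∈ (S' : Subgroup ↥K) → ∃ a : ℕ, (s' : G) ^ 3 ^ a = 1 := by
    intro s' hs'
    obtain ⟨a, ha⟩ := S'.isPGroup' ⟨s', hs'⟩
    refine ⟨a, ?_⟩
    have e := congrArg (fun y : ↥(S' : Subgroup ↥K) => ((y : ↥K) : G)) ha
    simpa using e
  obtain ⟨z, hz⟩ : ∃ z : G, z = (((zc : ↥(S' : Subgroup ↥K)) : ↥K) : G) := ⟨_, rfl⟩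
  rw [← hz] at hcomm
  have hzS : ((zc : ↥(S' : Subgroup ↥K)) : ↥K) ∈ (S' : Subgroup ↥K) :=
    (zc : ↥(S' : Subgroup ↥K)).2
  have hz1 : z ≠ 1 := by
    intro hh
    apply hzc1
    apply Subtype.ext
    apply Subtype.ext
    apply Subtype.ext
    rw [← hz, hh]
    rfl
  have hzH : z ∈ H := h.loc x2 (x2_mem h) h.ne2 z (hcomm _ hx2S).symm
  have hzT : z ∈ T := by
    obtain ⟨a, ha⟩ := hthree _ hzS
    rw [← hz] at ha
    exact three_mem_T h hzH ha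
  have hST : ∀ s' : ↥K, s' ∈ (S' : Subgroup ↥K) → (s' : G) ∈ T := by
    intro s' hs'
    have hsH : (s' : G) ∈ H := h.loc z hzT hz1 _ (hcomm s' hs')
    obtain ⟨a, ha⟩ := hthree s' hs'
    exact three_mem_T h hsH ha
  have hfr := Sylow.normalizer_sup_eq_top S'
  intro g
  have hg : g ∈ (⊤ : Subgroup G) := Subgroup.mem_top g
  rw [← hfr] at hg
  obtain ⟨n, hn, k, hk, rfl⟩ := Subgroup.mem_sup_of_normal_right.1 hg
  have hx2map : x2 ∈ Subgroup.map K.subtype (S' : Subgroup ↥K) :=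
    Subgroup.mem_map.2 ⟨⟨x2, hx2K⟩, hx2S, rfl⟩
  have hnx : n * x2 * n⁻¹ ∈ Subgroup.map K.subtype (S' : Subgroup ↥K) :=
    (Subgroup.mem_set_normalizer_iff.1 hn x2).1 hx2map
  obtain ⟨y, hy, hyx⟩ := Subgroup.mem_map.1 hnx
  have hnT : n * x2 * n⁻¹ ∈ T := by
    rw [← hyx]
    exact hST y hy
  have hnH : n ∈ H := hTI h n x2 (x2_mem h) h.ne2 hnT
  exact ⟨n * k * n⁻¹, hK.conj_mem k hk n, n, hnH, by group⟩

end Cfsg.Agent.Lib.Helper23.T3KGRP
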