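import Mathlib

set_option autoImplicit false

namespace Cfsg.Agent.Lib.Helper23.TransvCent

open Matrix

variable {n : Type*} [Fintype n] [DecidableEq n] {F : Type*} [Field F]

/-- All rows other than the `i`-th are those of the identity matrix. -/
def RowStd (i : n) (A : Matrix n n F) : Prop :=
  ∀ a, a ≠ i → ∀ b, A a b = (1 : Matrix n n F) a b

omit [Fintype n] in
theorem rowStd_one (i : n) : RowStd i (1 : Matrix n n F) := fun _ _ _ => rfl

theorem rowStd_mul_left {i : n} {A : Matrix n n F} (hA : RowStd i A) (B : Matrix n n F) (a : n)
    (ha : a ≠ i) (b : n) : (A * B) a b = B a b := by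
  rw [Matrix.mul_apply]
  have : ∑ c, A a c * B c b = ∑ c, (1 : Matrix n n F) a c * B c b :=
    Finset.sum_congr rfl (fun c _ => by rw [hA a ha c])
  rw [this, ← Matrix.mul_apply, Matrix.one_mul]

theorem rowStd_mul {i : n} {A B : Matrix n n F} (hA : RowStd i A) (hB : RowStd i B) :
    RowStd i (A * B) := fun a ha b => by
  rw [rowStd_mul_left hA B a ha b]; exact hB a ha b

theorem rowStd_of_mul_eq_one {i : n} {A B : Matrix n n F} (hA : RowStd i A) (h : A * B = 1) :
    RowStd i B := fun a ha b => by
  rw [← rowStd_mul_left hA B a ha b, h]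

theorem rowStd_conj {i : n} {A c c' : Matrix n n F} (hA : RowStd i A)
    (hc : ∀ a, a ≠ i → c a i = 0) (h : c * c' = 1) : RowStd i (c * A * c') := by
  intro a ha b
  rw [Matrix.mul_assoc, Matrix.mul_apply]
  have : ∑ k, c a k * (A * c') k b = ∑ k, c a k * c' k b := by
    apply Finset.sum_congr rfl
    intro k _
    by_cases hk : k = i
    · subst hk; rw [hc a ha, zero_mul, zero_mul]
    · rw [rowStd_mul_left hA c' k hk b]
  rw [this, ← Matrix.mul_apply, h]

theorem diag_eq_one_of_rowStd {i : n} {A : Matrix n n F} (hF : ∀ x : F, x = 0 ∨ x = 1)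
    (hA : RowStd i A) (hdet : A.det ≠ 0) : A i i = 1 := by
  rcases hF (A i i) with h | h
  · exfalso
    apply hdet
    apply Matrix.det_eq_zero_of_column_eq_zero i
    intro a
    by_cases ha : a = i
    · subst ha; exact h
    · rw [hA a ha i, Matrix.one_apply_ne ha]
  · exact h

theorem mul_self_of_rowStd {i : n} {A : Matrix n n F} (hA : RowStd i A) (hii : A i i = 1)
    (h2 : ∀ x : F, x + x = 0) : A * A = 1 := by
  have hN : (A - 1) * (A - 1) = 0 := by
    ext a b
    rw [Matrix.mul_apply]
    apply Finset.sum_eq_zero
    intro c _
    by_cases hc : c = i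
    · subst hc
      have : (A - 1) a c = 0 := by
        by_cases hac : a = c
        · subst hac; simp [hii]
        · simp [hA a hac c]
      rw [this, zero_mul]
    · have : (A - 1) c b = 0 := by simp [hA c hc b]
      rw [this, mul_zero]
  have hdouble : ∀ B : Matrix n n F, B + B = 0 := fun B => by
    ext a b; exact h2 _
  have : A * A = (A - 1) * (A - 1) + (A + A) + 1 - (1 + 1) := by noncomm_ring
  rw [this, hN, hdouble A, hdouble 1]; simp

omit [Fintype n] in
theorem rowStd_transvection {i b : n} : RowStd i (transvection i b (1 : F)) := by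
  intro a ha c
  have h : Matrix.single i b (1 : F) a c = 0 :=
    Matrix.single_apply_of_ne (h := fun h => ha h.1.symm) ..
  simp [transvection, h]

theorem transvection_comm {i j b : n} (hij : i ≠ j) (hb : b ≠ i) :
    transvection i j (1 : F) * transvection i b 1 = transvection i b 1 * transvection i j 1 := by
  simp only [transvection, Matrix.add_mul, Matrix.mul_add, Matrix.one_mul, Matrix.mul_one]
  rw [Matrix.single_mul_single_of_ne (h := hij.symm), Matrix.single_mul_single_of_ne (h := hb)]
  abel

/-- The `i`-th column of a matrix commuting with the transvection `1 + E_{ij}` vanishes off the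
diagonal. -/
theorem col_eq_zero_of_commute {i j : n} {c : Matrix n n F}
    (h : transvection i j 1 * c = c * transvection i j 1) : ∀ a, a ≠ i → c a i = 0 := by
  intro a ha
  have h1 := congrFun (congrFun h a) j
  rw [transvection_mul_apply_of_ne i j a j ha, mul_transvection_apply_same] at h1
  simpa using h1.symm

/-- Over the field with two elements, an invertible matrix commuting with all transvections
`1 + E_{ib}` has standard rows outside the `i`-th. -/
theorem rowStd_of_commute_transvection {i : n} {g : Matrix n n F} (hF : ∀ x : F, x = 0 ∨ x = 1)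
    (hdet : g.det ≠ 0)
    (hg : ∀ b, b ≠ i → g * transvection i b 1 = transvection i b 1 * g) : RowStd i g := by
  have hoff : ∀ b, b ≠ i → ∀ c, c ≠ b → g b c = 0 := by
    intro b hb c hcb
    have h1 := congrFun (congrFun (hg b hb) i) c
    rw [transvection_mul_apply_same, mul_transvection_apply_of_ne i b i c hcb] at h1
    simpa using h1.symm
  have hdiag : ∀ b, b ≠ i → g b b = g i i := by
    intro b hb
    have h1 := congrFun (congrFun (hg b hb) i) b
    rw [transvection_mul_apply_same, mul_transvection_apply_same] at h1
    simpa using h1.symm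
  have hii : g i i = 1 := by
    rcases hF (g i i) with h | h
    · exfalso
      apply hdet
      apply Matrix.det_eq_zero_of_column_eq_zero i
      intro a
      by_cases ha : a = i
      · subst ha; exact h
      · exact hoff a ha i (Ne.symm ha)
    · exact h
  intro b hb c
  by_cases hcb : c = b
  · subst hcb
    rw [Matrix.one_apply_eq, hdiag c hb, hii]
  · rw [Matrix.one_apply_ne (Ne.symm hcb)]
    exact hoff b hb c hcb

theorem eq_zero_or_one_of_card [Fintype F] (hF : Fintype.card F = 2) :
    ∀ x : F, x = 0 ∨ x = 1 := by
  classical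
  have h01 : ({0, 1} : Finset F).card = 2 := Finset.card_pair zero_ne_one
  have : ({0, 1} : Finset F) = Finset.univ := Finset.eq_univ_of_card _ (by rw [h01, hF])
  intro x
  have hx : x ∈ ({0, 1} : Finset F) := by rw [this]; exact Finset.mem_univ x
  simpa using hx

theorem add_self_of_card [Fintype F] (hF : Fintype.card F = 2) : ∀ x : F, x + x = 0 := by
  have h1 : (1 : F) + 1 = 0 := by
    rcases eq_zero_or_one_of_card hF (1 + 1) with h | h
    · exact h
    · exfalso
      have : (1 : F) = 0 := by linear_combination h
      exact one_ne_zero this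
  intro x
  rcases eq_zero_or_one_of_card hF x with rfl | rfl
  · simp
  · exact h1

end Cfsg.Agent.Lib.Helper23.TransvCent
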